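import Cfsg.Agent.Lib.J4Order.AtInvol

/-!
# The number of pairs of involutions at the second involution

`atCount`: in a group with a model of the normaliser of the `2^11`, the pairs `(u, v)` commuting with
`t = ψ 1`, with `u` conjugate to `z`, `v` an involution not conjugate to `z`, and `t` in the group
generated by `u v`, number 1544188503.
-/

set_option autoImplicit false
set_option linter.unusedSectionVars false
set_option linter.constructorNameAsVariable false
set_option linter.style.haveILetI false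

namespace Cfsg.Agent.Lib.J4Order

open Cfsg Cfsg.Agent.Lib.Golay Cfsg.Agent.Lib.Computation
open AtCalc AtData

attribute [local irreducible] oneCode mulP invol NModel.fib

variable {G : Type*} [Group G] [Finite G] {z : G}

theorem tour_all {gs : List (ℕ × ℕ)} {Q : ℕ → Prop}
    (hstep : ∀ g, g ∈ gs ∨ g = (oneCode, oneCode) → ∀ x, Q x → Q (conjC g x)) :
    ∀ (prog stk : List ℕ), (∀ x ∈ stk, Q x) → ∀ y ∈ runP gs prog stk, Q y
  | [], _, _, y, hy => by simp [runP] at hy
  | 0 :: r, stk, h, y, hy => by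
    rw [runP] at hy
    exact tour_all hstep r stk.tail (fun x hx => h x (List.mem_of_mem_tail hx)) y hy
  | (_ + 1) :: _, [], _, y, hy => by simp [runP] at hy
  | (j + 1) :: r, a :: stk, h, y, hy => by
    rw [runP, forceNat_eq] at hy
    have hx : Q (conjC (gs.getD j (oneCode, oneCode)) a) := by
      refine hstep _ ?_ a (h a List.mem_cons_self)
      rcases lt_or_ge j gs.length with hj | hj
      · exact Or.inl (by rw [List.getD_eq_getElem _ _ hj]; exact List.getElem_mem hj)
      · exact Or.inr (List.getD_eq_default _ _ hj)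
    rcases List.mem_cons.mp hy with rfl | hy
    · exact hx
    · refine tour_all hstep r _ (fun x hxm => ?_) y hy
      rcases List.mem_cons.mp hxm with rfl | hxm
      exacts [hx, h x hxm]

/-- The listed involutions. -/
noncomputable def Lf : Finset ↥M24 := (invol.map el).toFinset

theorem blocks_big : blocks.all (fun b => J4Local.AutModel.inBig b.code) = true := by decide +kernel

theorem big_invol {c : ℕ} (hc : c ∈ invol) : Good c ∧ gperm c ∈ J4Local.AutModel.big := by
  have hp := AtNum.perm_of_cover AtChecks.cover_outer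
  obtain ⟨b, hb, hcb⟩ := List.mem_flatMap.mp (hp.mem_iff.mpr hc)
  have hroot : Good b.code ∧ gperm b.code ∈ J4Local.AutModel.big := by
    obtain ⟨h1, h2⟩ := J4Local.AutModel.inBig_spec (List.all_eq_true.mp blocks_big b hb)
    exact ⟨⟨h1, h2.1⟩, h2⟩
  rcases List.mem_cons.mp hcb with rfl | hcb
  · exact hroot
  refine tour_all (Q := fun x => Good x ∧ gperm x ∈ J4Local.AutModel.big) (fun g hg x hx => ?_) _ _
    (by simpa using hroot) c hcb
  rcases hg with hg | rfl
  · obtain ⟨g1, g2, hbig, -⟩ := Invol.gens_spec AtChecks.gens_ok hg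
    refine ⟨good_mulP (good_mulP g1 hx.1) g2, ?_⟩
    rw [Invol.gperm_conjC AtChecks.gens_ok hg hx.1.1]
    exact mul_mem (mul_mem hbig hx.2) (inv_mem hbig)
  · refine ⟨good_mulP (good_mulP good_one hx.1) good_one, ?_⟩
    rw [conjC, gperm_mul (okCode_mulP okCode_oneCode hx.1.1) okCode_oneCode,
      gperm_mul okCode_oneCode hx.1.1, gperm_oneCode, one_mul, mul_one]
    exact hx.2

theorem good_invol {c : ℕ} (hc : c ∈ invol) : Good c := (big_invol hc).1

theorem nodup_el : (invol.map el).Nodup := by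
  obtain ⟨hok, hsort, -⟩ := Invol.invol_spec
  refine List.Nodup.map_on (fun a ha b hb e => ?_) (hsort.imp fun h => ne_of_lt h)
  have e' := congrArg Subtype.val e
  rw [el_coe (good_invol ha).2, el_coe (good_invol hb).2] at e'
  exact Cfsg.Agent.Lib.FusionAlperin.MathieuCert.eq_of_gperm (hok a ha).1 (hok b hb).1 (hok a ha).2
    (hok b hb).2 e'

theorem mem_Lf {σ : ↥M24} : σ ∈ Lf ↔ (σ : Equiv.Perm GolayPt) ∈ Invol.permSet := by
  rw [Lf, List.mem_toFinset, List.mem_map, Invol.mem_permSet]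
  constructor
  · rintro ⟨c, hc, rfl⟩
    exact ⟨c, hc, (el_coe (good_invol hc).2).symm⟩
  · rintro ⟨c, hc, e⟩
    exact ⟨c, hc, Subtype.ext (by rw [el_coe (good_invol hc).2, e])⟩

theorem sum_Lf (f : ↥M24 → ℕ) : ∑ σ ∈ Lf, f σ = (invol.map fun c => f (el c)).sum := by
  rw [Lf, List.sum_toFinset _ nodup_el, List.map_map]
  rfl

theorem el_conjC {g : ℕ × ℕ} (h1 : Good g.1) (h2 : Good g.2) {x : ℕ} (hx : Good x) :
    el (conjC g x) = el g.1 * el x * el g.2 := by
  rw [conjC, el_mul (good_mulP h1 hx) h2, el_mul h1 hx]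

/-- An invariant is constant on a tour. -/
theorem tour_const {gs : List (ℕ × ℕ)} (hok : gensOk gs = true) (f : ↥M24 → ℕ)
    (hf : ∀ g ∈ gs, ∀ x, f (el g.1 * x * (el g.1)⁻¹) = f x) {root : ℕ} (hr : Good root)
    (prog : List ℕ) :
    ((tour gs root prog).map fun c => f (el c)).sum = (tour gs root prog).length * f (el root) := by
  have hall : ∀ y ∈ tour gs root prog, Good y ∧ f (el y) = f (el root) := by
    intro y hy
    rcases List.mem_cons.mp hy with rfl | hy
    · exact ⟨hr, rfl⟩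
    refine tour_all (Q := fun y => Good y ∧ f (el y) = f (el root)) (fun g hg x hx => ?_) prog [root]
      (by simpa using hr) y hy
    rcases hg with hg | rfl
    · obtain ⟨g1, g2, -, hi⟩ := Invol.gens_spec hok hg
      refine ⟨good_mulP (good_mulP g1 hx.1) g2, ?_⟩
      rw [el_conjC g1 g2 hx.1, hi, hf g hg]
      exact hx.2
    · refine ⟨good_mulP (good_mulP good_one hx.1) good_one, ?_⟩
      rw [el_conjC good_one good_one hx.1, el_one, one_mul, mul_one]
      exact hx.2
  rw [List.map_congr_left fun y hy => (hall y hy).2, List.map_const', List.sum_replicate,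
    smul_eq_mul]

theorem sum_flat {α : Type*} (h : α → List ℕ) (g : ℕ → ℕ) (v : α → ℕ) : ∀ (l : List α),
    (∀ a ∈ l, ((h a).map g).sum = v a) →
      ((l.flatMap h).map g).sum = (l.map v).foldr (fun a c => a + c) 0
  | [], _ => rfl
  | a :: l, hyp => by
    rw [List.flatMap_cons, List.map_append, List.sum_append, List.map_cons, List.foldr_cons,
      hyp a List.mem_cons_self, sum_flat h g v l fun b hb => hyp b (List.mem_cons_of_mem _ hb)]

theorem block_cover {b : Block} (hb : b ∈ blocks) :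
    (tours b).Perm invol ∧ ∀ r ∈ b.roots, rootOk b r = true := by
  simp only [blocks, List.mem_cons, List.not_mem_nil, or_false] at hb
  rcases hb with rfl | rfl | rfl | rfl
  · exact ⟨AtNum.perm_of_cover AtChecks.cover0, List.all_eq_true.mp AtChecks.roots0'⟩
  · exact ⟨AtNum.perm_of_cover AtChecks.cover1, List.all_eq_true.mp AtChecks.roots1'⟩
  · exact ⟨AtNum.perm_of_cover AtChecks.cover2, List.all_eq_true.mp AtChecks.roots2'⟩
  · exact ⟨AtNum.perm_of_cover AtChecks.cover3, List.all_eq_true.mp AtChecks.roots3'⟩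

/-- The subtotal of a block. -/
def subO (o : Bool) (b : Block) : ℕ := bif o then b.subT else b.subF

/-- The value of a root. -/
def valO (o : Bool) (r : Root) : ℕ := bif o then r.valT else r.valF

namespace NModel

variable (M : NModel z)

/-- The pairs over one permutation and all the others. -/
noncomputable def rowSum (σ : ↥M24) : ℕ := ∑ τ ∈ Lf, (M.fib σ τ).card

theorem rowSum_conj {g : ℕ} (hg : Good g) (hbig : gperm g ∈ J4Local.AutModel.big) (σ : ↥M24) :
    M.rowSum (el g * σ * (el g)⁻¹) = M.rowSum σ := by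
  have hg' : ((el g)⁻¹ : Equiv.Perm GolayPt) ∈ J4Local.AutModel.big := by
    rw [el_coe hg.2]; exact inv_mem hbig
  symm
  refine Finset.sum_bij (fun τ _ => el g * τ * (el g)⁻¹) ?_ ?_ ?_ ?_
  · intro τ hτ
    rw [mem_Lf] at hτ ⊢
    rw [Subgroup.coe_mul, Subgroup.coe_mul, Subgroup.coe_inv, el_coe hg.2]
    exact Invol.closed hbig hτ
  · exact fun a _ b _ e => mul_left_cancel (mul_right_cancel e)
  · intro τ hτ
    refine ⟨(el g)⁻¹ * τ * el g, ?_, by group⟩
    rw [mem_Lf] at hτ ⊢
    rw [Subgroup.coe_mul, Subgroup.coe_mul, Subgroup.coe_inv]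
    have := Invol.closed hg' hτ
    rwa [inv_inv] at this
  · exact fun τ _ => (M.fib_conj hg hbig σ τ).symm

theorem rowSum_block (o : Bool) (F : Fus M o) {b : Block} (hb : b ∈ blocks) :
    Good b.code ∧ M.rowSum (el b.code) = subO o b := by
  have hB := List.all_eq_true.mp AtChecks.blocks_ok b hb
  simp only [blockOk, Bool.and_eq_true, Nat.beq_eq] at hB
  obtain ⟨⟨hwit, hsT⟩, hsF⟩ := hB
  have hgs : Good b.code := (M.lists_moved o F hwit).1
  have hgen := List.all_eq_true.mp AtChecks.cgens_ok b hb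
  simp only [Bool.and_eq_true, centOk, List.all_eq_true, Nat.beq_eq] at hgen
  obtain ⟨hok, hcom⟩ := hgen
  obtain ⟨hperm, hroots⟩ := block_cover hb
  refine ⟨hgs, ?_⟩
  rw [rowSum, sum_Lf, ← (hperm.map _).sum_eq, tours,
    sum_flat _ _ (fun r => (tour b.cgens r.code r.prog).length * valO o r) b.roots fun r hr => ?_]
  · cases o with
    | true => exact hsT
    | false => exact hsF
  have hR := hroots r hr
  simp only [rootOk, Bool.and_eq_true, Nat.beq_eq] at hR
  obtain ⟨⟨⟨hw, hord⟩, hvT⟩, hvF⟩ := hR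
  rw [tour_const hok (fun τ => (M.fib (el b.code) τ).card) (fun g hg x => ?_)
    (M.lists_moved o F hw).1, M.count_eq o F hwit hw hord]
  · cases o with
    | true => rw [hvT]; rfl
    | false => rw [hvF]; rfl
  obtain ⟨g1, g2, hbig, -⟩ := Invol.gens_spec hok hg
  have hc : el g.1 * el b.code * (el g.1)⁻¹ = el b.code := by
    rw [← el_mul g1 hgs, hcom g hg, el_mul hgs g1, mul_inv_cancel_right]
  have := M.fib_conj g1 hbig (el b.code) x
  rw [hc] at this
  exact this

/-- All pairs. -/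
theorem sum_rows (o : Bool) (F : Fus M o) : ∑ σ ∈ Lf, M.rowSum σ = 1544188503 := by
  have ht := AtChecks.total_ok
  simp only [totalOk, Bool.and_eq_true, Nat.beq_eq] at ht
  rw [sum_Lf, ← ((AtNum.perm_of_cover AtChecks.cover_outer).map _).sum_eq,
    sum_flat _ _ (fun b => (tour gens b.code b.prog).length * subO o b) blocks fun b hb => ?_]
  · cases o with
    | true => exact ht.1.1.1
    | false => exact ht.1.1.2
  obtain ⟨hgb, hv⟩ := M.rowSum_block o F hb
  rw [tour_const AtChecks.gens_ok M.rowSum (fun g hg x => ?_) hgb, hv]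
  obtain ⟨g1, -, hbig, -⟩ := Invol.gens_spec AtChecks.gens_ok hg
  exact M.rowSum_conj g1 hbig x

/-- A vector and a permutation giving an involution. -/
theorem mem_Lf_of_sq {a : ℕ} (ha : a < 2048) {σ : ↥M24}
    (hσ : (σ : Equiv.Perm GolayPt) ∈ J4Local.AutModel.big) (h : M.ev a σ * M.ev a σ = 1) : σ ∈ Lf := by
  rw [mem_Lf]
  refine Invol.mem_permSet_of_sq hσ ?_
  have h1 : M.κ (σ * σ) ∈ M.V := by
    have e : M.κ (σ * σ) = (M.κ σ * M.ψ a * (M.κ σ)⁻¹)⁻¹ * (M.ψ a)⁻¹ * (M.ev a σ * M.ev a σ) := by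
      rw [map_mul, ev]; group
    rw [e, h, mul_one]
    exact mul_mem (inv_mem ((Subgroup.mem_normalizer_iff.mp (M.mem_norm σ) _).mp (M.ψ_mem a)))
      (inv_mem (M.ψ_mem a))
  exact congrArg Subtype.val (M.meet h1)

/-- The pairs of the Thompson formula at the second involution. -/
theorem atCount (o : Bool) (F : Fus M o) :
    Nat.card {p : G × G // Commute p.1 (M.ψ 1) ∧ Commute p.2 (M.ψ 1) ∧ IsConj z p.1 ∧
      orderOf p.2 = 2 ∧ ¬ IsConj z p.2 ∧ M.ψ 1 ∈ Subgroup.zpowers (p.1 * p.2)} = 1544188503 := by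
  classical
  haveI := Fintype.ofFinite G
  rw [Nat.card_eq_fintype_card, Fintype.card_subtype, ← M.sum_rows o F]
  simp only [rowSum]
  rw [← Finset.sum_product', ← Finset.card_sigma]
  refine (Finset.card_bij (fun x _ => (M.ev x.2.1 x.1.1, M.ev x.2.2 x.1.2)) ?_ ?_ ?_).symm
  · rintro ⟨⟨σ, τ⟩, a, b⟩ h
    simp only [Finset.mem_sigma, Finset.mem_product] at h
    obtain ⟨⟨hσ, hτ⟩, h⟩ := h
    rw [M.mem_fib] at h
    obtain ⟨-, -, h1, ⟨h2, h3⟩, h4⟩ := h
    have hbig : ∀ {x : ↥M24}, x ∈ Lf → (x : Equiv.Perm GolayPt) ∈ J4Local.AutModel.big := fun {x} hx => by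
      obtain ⟨c, hc, e⟩ := Invol.mem_permSet.mp (mem_Lf.mp hx)
      rw [← e]
      exact (big_invol hc).2
    simp only [Finset.mem_filter, Finset.mem_univ, true_and]
    exact ⟨M.commute_one_iff.mpr (hbig hσ), M.commute_one_iff.mpr (hbig hτ), h1, h2, h3, h4⟩
  · rintro ⟨⟨σ, τ⟩, a, b⟩ h ⟨⟨σ', τ'⟩, a', b'⟩ h' e
    have hm : (a, b) ∈ M.fib σ τ := (Finset.mem_sigma.mp h).2
    have hm' : (a', b') ∈ M.fib σ' τ' := (Finset.mem_sigma.mp h').2
    rw [M.mem_fib] at hm hm'
    simp only [Prod.mk.injEq] at e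
    obtain ⟨rfl, rfl⟩ := M.ev_inj hm.1 hm'.1 e.1
    obtain ⟨rfl, rfl⟩ := M.ev_inj hm.2.1 hm'.2.1 e.2
    rfl
  · rintro ⟨u, v⟩ h
    simp only [Finset.mem_filter, Finset.mem_univ, true_and] at h
    obtain ⟨hu, hv, h1, h2, h3, h4⟩ := h
    obtain ⟨a, ha, σ, hσ, rfl⟩ := M.exists_ev_cent hu
    obtain ⟨b, hb, τ, hτ, rfl⟩ := M.exists_ev_cent hv
    refine ⟨⟨(σ, τ), (a, b)⟩, ?_, rfl⟩
    simp only [Finset.mem_sigma, Finset.mem_product]
    refine ⟨⟨M.mem_Lf_of_sq ha hσ (sq_of_isConj F.ord_z h1),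
      M.mem_Lf_of_sq hb hτ (by rw [← pow_two, ← h2, pow_orderOf_eq_one])⟩, ?_⟩
    rw [M.mem_fib]
    exact ⟨ha, hb, h1, ⟨h2, h3⟩, h4⟩

end NModel

end Cfsg.Agent.Lib.J4Order
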