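import Cfsg.Agent.Lib.J4Order.AzChecks
import Cfsg.Agent.Lib.J4Order.AtCount
import Cfsg.Agent.Lib.J4Big.RowS5568

/-!
# Pairs of involutions of `Aut M22` and the conjugates of the hexad subgroup they normalise

`incid α β` counts the `g` carrying both into the normaliser of the hexad subgroup (11520 times the
number of conjugates normalised by both). `sum_wt`: the weight `wt` sums to the same number over all
conjugations, as soon as the pair has an inner central involution or normalises a conjugate.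
-/

set_option autoImplicit false
set_option linter.unusedSectionVars false
set_option linter.style.haveILetI false

namespace Cfsg.Agent.Lib.J4Order.AzPairs

open Cfsg Cfsg.Agent.Lib.J4Local Cfsg.Agent.Lib.Golay Cfsg.Agent.Lib.Computation
open Cfsg.Agent.Lib.J4Big Cfsg.Agent.Lib.J4Big.Codes
open Cfsg.Agent.Lib.FusionAlperin.MathieuCert (canon)
open AtCalc AtData AzCalc

attribute [local irreducible] normJ hexN keyOf keyOf2 mulP powC Data2.hRep Data.uhL blocks oneCode

/-- The normaliser of the hexad subgroup. -/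
noncomputable abbrev NU : Subgroup AutM22 := Subgroup.normalizer (Cert2.Uh : Set AutM22)

/-- The conjugations carrying both into the normaliser. -/
noncomputable def incid (α β : AutM22) : ℕ :=
  Nat.card {g : AutM22 // g * α * g⁻¹ ∈ NU ∧ g * β * g⁻¹ ∈ NU}

/-- The candidate for a central involution. -/
noncomputable def cEl (α β : AutM22) : AutM22 := (α * β) ^ (orderOf (α * β) / 2)

/-- There is an inner central involution. -/
def HasC (α β : AutM22) : Prop := Even (orderOf (α * β)) ∧ cEl α β ∈ inn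

open Classical in
/-- The weight of a pair at the hexad subgroup. -/
noncomputable def wt (α β : AutM22) : ℕ :=
  if HasC α β then (if cEl α β ∈ Cert2.Uh then 90090 else 0)
  else if α ∈ NU ∧ β ∈ NU then 90090 * 11520 / incid α β else 0

theorem incid_comm (α β : AutM22) : incid α β = incid β α :=
  Nat.card_congr (Equiv.subtypeEquivRight fun _ => and_comm)

theorem incid_one_right (α : AutM22) : incid α 1 = incid α α :=
  Nat.card_congr (Equiv.subtypeEquivRight fun g => by simp)

theorem incid_one : incid 1 1 = 887040 := by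
  rw [← autFacts.card_aut]
  exact Nat.card_congr ⟨fun g => g.1, fun g => ⟨g, by simp⟩, fun _ => rfl, fun _ => rfl⟩

theorem incid_conj (c α β : AutM22) : incid (c * α * c⁻¹) (c * β * c⁻¹) = incid α β := by
  refine Nat.card_congr ((Equiv.mulRight c).subtypeEquiv fun g => ?_)
  simp only [Equiv.coe_mulRight, mul_inv_rev, mul_assoc]

theorem conj_mul_conj (c α β : AutM22) : c * α * c⁻¹ * (c * β * c⁻¹) = c * (α * β) * c⁻¹ := by group

theorem orderOf_conj_mul (c α β : AutM22) :
    orderOf (c * α * c⁻¹ * (c * β * c⁻¹)) = orderOf (α * β) := by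
  rw [conj_mul_conj]
  exact orderOf_injective (MulAut.conj c).toMonoidHom (MulAut.conj c).injective _

theorem cEl_conj (c α β : AutM22) : cEl (c * α * c⁻¹) (c * β * c⁻¹) = c * cEl α β * c⁻¹ := by
  rw [cEl, orderOf_conj_mul, conj_mul_conj, conj_pow]
  rfl

theorem mem_inn_conj {c x : AutM22} : c * x * c⁻¹ ∈ inn ↔ x ∈ inn := by
  haveI := AutLocal.inn_normal
  refine ⟨fun h => ?_, fun h => Subgroup.Normal.conj_mem inferInstance x h c⟩
  have := Subgroup.Normal.conj_mem (H := inn) inferInstance _ h c⁻¹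
  rwa [inv_inv, show c⁻¹ * (c * x * c⁻¹) * c = x by group] at this

theorem hasC_conj (c α β : AutM22) : HasC (c * α * c⁻¹) (c * β * c⁻¹) ↔ HasC α β := by
  rw [HasC, HasC, orderOf_conj_mul, cEl_conj, mem_inn_conj]

/-- A central involution commutes with both. -/
theorem cEl_spec {α β : AutM22} (hα : α * α = 1) (hβ : β * β = 1) (he : Even (orderOf (α * β))) :
    orderOf (cEl α β) = 2 ∧ Commute α (cEl α β) ∧ Commute β (cEl α β) := by
  obtain ⟨k, hk⟩ := he
  have hpos := orderOf_pos (α * β)
  have ho : orderOf (cEl α β) = 2 := by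
    rw [cEl, orderOf_pow' _ (by omega), hk, show (k + k) / 2 = k by omega,
      Nat.gcd_eq_right (Dvd.intro 2 (by ring)), show k + k = 2 * k by ring,
      Nat.mul_div_cancel _ (by omega)]
  have h2 : cEl α β * cEl α β = 1 := by rw [← pow_two, ← ho, pow_orderOf_eq_one]
  have hinv : (cEl α β)⁻¹ = cEl α β := inv_eq_of_mul_eq_one_right h2
  have key : ∀ {a : AutM22}, a * (α * β) * a⁻¹ = (α * β)⁻¹ → Commute a (cEl α β) := fun {a} h => by
    refine mul_inv_eq_iff_eq_mul.mp ?_
    rw [cEl, ← conj_pow, h, inv_pow]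
    exact hinv
  refine ⟨ho, key ?_, key ?_⟩ <;>
    rw [mul_inv_rev, inv_eq_of_mul_eq_one_right hα, inv_eq_of_mul_eq_one_right hβ]
  · calc α * (α * β) * α = α * α * β * α := by group
      _ = β * α := by rw [hα, one_mul]
  · calc β * (α * β) * β = β * α * (β * β) := by group
      _ = β * α := by rw [hβ, mul_one]

/-- An inner involution is in exactly one conjugate: 11520 conjugations carry it into the subgroup. -/
theorem card_into {c : AutM22} (hc : c ∈ inn) (ho : orderOf c = 2) :
    Nat.card {g : AutM22 // g * c * g⁻¹ ∈ Cert2.Uh} = 11520 := by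
  have B := Cert.bigConfig
  obtain ⟨a₀, ha₀, ha₀1⟩ : ∃ a ∈ Cert2.Uh, a ≠ 1 := by
    by_contra h
    push Not at h
    have := B.card_Uh
    rw [show grpL Data.uhL = ⊥ from (Subgroup.eq_bot_iff_forall _).mpr h, Subgroup.card_bot] at this
    norm_num at this
  obtain ⟨d, a, ha, rfl⟩ := Cert2.cover_involution ha₀ ha₀1 hc ho
  simp only [MulEquiv.coe_toMonoidHom, MulAut.conj_apply] at ho ⊢
  have ha1 : a ≠ 1 := fun e => by simp [e] at ho
  rw [← Cert2.card_norm]
  refine Nat.card_congr ((Equiv.mulRight d).subtypeEquiv fun g => ?_)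
  simp only [Equiv.coe_mulRight]
  rw [show g * (d * a * d⁻¹) * g⁻¹ = (g * d) * a * (g * d)⁻¹ by group]
  refine ⟨fun h => Cert2.exact_cover.2 _ _ h (fun e => ha1 (conj_eq_one_iff.mp e)) ⟨a, ha, rfl⟩,
    fun h => (Subgroup.mem_normalizer_iff.mp h a).mp ha⟩

/-- The central involution in the hexad subgroup puts both in its normaliser. -/
theorem mem_NU_of_cEl {α β : AutM22} (hα : α * α = 1) (hβ : β * β = 1)
    (he : Even (orderOf (α * β))) (h : cEl α β ∈ Cert2.Uh) : α ∈ NU ∧ β ∈ NU := by
  obtain ⟨ho, ca, cb⟩ := cEl_spec hα hβ he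
  have h1 : cEl α β ≠ 1 := fun e => by rw [e, orderOf_one] at ho; omega
  exact ⟨Cert2.cent_le _ h h1 (Subgroup.mem_centralizer_singleton_iff.mpr ca),
    Cert2.cent_le _ h h1 (Subgroup.mem_centralizer_singleton_iff.mpr cb)⟩

theorem wt_ne_zero {α β : AutM22} (hα : α * α = 1) (hβ : β * β = 1) (h : wt α β ≠ 0) :
    α ∈ NU ∧ β ∈ NU := by
  rw [wt] at h
  split_ifs at h with h1 h2 h3
  · exact mem_NU_of_cEl hα hβ h1.1 h2
  · exact absurd rfl h
  · assumption
  · exact absurd rfl h

/-! ### the orbits of pairs -/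

theorem au_toAut {c : ℕ} (h : good c = true) :
    ∃ hb : gperm c ∈ AutModel.big, au c = AutModel.toAut ⟨gperm c, hb⟩ := by
  obtain ⟨hb, e⟩ := au_of h
  exact ⟨(AutModel.inBig_spec hb).2, e⟩

theorem conj_tour {gs : List (ℕ × ℕ)} (hok : gensOk gs = true) {root : ℕ} (hr : Good root)
    (P : Equiv.Perm GolayPt → Prop) (h1 : P 1) (hmul : ∀ g ∈ gs, ∀ x, P x → P (gperm g.1 * x))
    (prog : List ℕ) {c : ℕ} (hc : c ∈ tour gs root prog) :
    ∃ g ∈ AutModel.big, P g ∧ gperm c = g * gperm root * g⁻¹ := by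
  let Q : ℕ → Prop := fun x =>
    Good x ∧ ∃ g ∈ AutModel.big, P g ∧ gperm x = g * gperm root * g⁻¹
  have hroot : Q root := ⟨hr, 1, one_mem _, h1, by simp⟩
  suffices Q c from this.2
  rcases List.mem_cons.mp hc with rfl | hc
  · exact hroot
  refine tour_all (Q := Q) (fun g hg x hx => ?_) prog [root] (by simpa using hroot) c hc
  obtain ⟨hxg, k, hk, hP, e⟩ := hx
  rcases hg with hg | rfl
  · obtain ⟨g1, g2, hbig, -⟩ := Invol.gens_spec hok hg
    refine ⟨good_mulP (good_mulP g1 hxg) g2, gperm g.1 * k, mul_mem hbig hk, hmul g hg k hP, ?_⟩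
    rw [Invol.gperm_conjC hok hg hxg.1, e]
    group
  · refine ⟨good_mulP (good_mulP good_one hxg) good_one, k, hk, hP, ?_⟩
    rw [conjC, gperm_mul (okCode_mulP okCode_oneCode hxg.1) okCode_oneCode,
      gperm_mul okCode_oneCode hxg.1, gperm_oneCode, one_mul, mul_one, e]

theorem table_all {b : Block} (hb : b ∈ blocks) : tableOk b = true := by
  simp only [blocks, List.mem_cons, List.not_mem_nil, or_false] at hb
  rcases hb with rfl | rfl | rfl | rfl
  exacts [AzChecks.table0, AzChecks.table1, AzChecks.table2, AzChecks.table3]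

theorem pairOk_good {a : ℕ} (h : pairOk (a, a) = true) : good a = true := by
  simp only [pairOk, Bool.and_eq_true] at h
  exact h.1.1

theorem table_good {b : Block} (hb : b ∈ blocks) :
    pairOk (b.code, b.code) = true ∧ ∀ r ∈ b.roots, pairOk (r.code, r.code) = true := by
  have h := table_all hb
  simp only [tableOk, forceNat_eq, Bool.and_eq_true, List.all_eq_true] at h
  exact ⟨h.1.1, fun r hr => (h.2 r hr).1⟩

theorem mem_permSet_aut {α : AutM22} (h : α * α = 1) : ∃ s : ↥AutModel.big,
    α = AutModel.toAut s ∧ (s : Equiv.Perm GolayPt) ∈ Invol.permSet := by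
  obtain ⟨s, rfl⟩ := AutModel.toAut.surjective α
  refine ⟨s, rfl, Invol.mem_permSet_of_sq s.2 ?_⟩
  rw [← map_mul, ← AutModel.toAut.map_one] at h
  exact congrArg Subtype.val (AutModel.toAut.injective h)

/-- An involution is a conjugate of a block representative. -/
theorem exists_block {α : AutM22} (h : α * α = 1) :
    ∃ b ∈ blocks, ∃ g, α = g * au b.code * g⁻¹ := by
  obtain ⟨s, rfl, hs⟩ := mem_permSet_aut h
  obtain ⟨c, hc, e⟩ := Invol.mem_permSet.mp hs
  obtain ⟨b, hb, hcb⟩ := List.mem_flatMap.mp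
    ((AtNum.perm_of_cover AtChecks.cover_outer).mem_iff.mpr hc)
  have hgd := pairOk_good (table_good hb).1
  obtain ⟨hmem, hau⟩ := au_toAut hgd
  obtain ⟨k, hk, -, ek⟩ := conj_tour AtChecks.gens_ok
    (show Good b.code from ⟨(AutModel.inBig_spec (au_of hgd).1).1, hmem.1⟩) (fun _ => True) trivial
    (fun _ _ _ _ => trivial) b.prog hcb
  refine ⟨b, hb, AutModel.toAut ⟨k, hk⟩, ?_⟩
  rw [hau, ← map_inv, ← map_mul, ← map_mul]
  exact congrArg AutModel.toAut (Subtype.ext (by rw [← e, ek]; rfl))

/-- A pair of involutions is a conjugate of a block and one of its roots. -/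
theorem exists_root {α β : AutM22} (hα : α * α = 1) (hβ : β * β = 1) :
    ∃ b ∈ blocks, ∃ r ∈ b.roots, ∃ g, α = g * au b.code * g⁻¹ ∧ β = g * au r.code * g⁻¹ := by
  obtain ⟨b, hb, g, rfl⟩ := exists_block hα
  have hβ' : (g⁻¹ * β * g) * (g⁻¹ * β * g) = 1 := by
    rw [show g⁻¹ * β * g * (g⁻¹ * β * g) = g⁻¹ * (β * β) * g by group, hβ]; group
  obtain ⟨s, hs', hs⟩ := mem_permSet_aut hβ'
  obtain ⟨c, hc, e⟩ := Invol.mem_permSet.mp hs
  obtain ⟨hperm, -⟩ := block_cover hb
  obtain ⟨r, hr, hcr⟩ := List.mem_flatMap.mp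
    (show c ∈ b.roots.flatMap fun r => tour b.cgens r.code r.prog from hperm.mem_iff.mpr hc)
  have hgen := List.all_eq_true.mp AtChecks.cgens_ok b hb
  simp only [Bool.and_eq_true, centOk, List.all_eq_true, Nat.beq_eq] at hgen
  obtain ⟨hok, hcom⟩ := hgen
  obtain ⟨hgb, hgr⟩ := table_good hb
  obtain ⟨hbm, hba⟩ := au_toAut (pairOk_good hgb)
  have hbok : okCode b.code = true := (AutModel.inBig_spec (au_of (pairOk_good hgb)).1).1
  obtain ⟨hrm, hra⟩ := au_toAut (pairOk_good (hgr r hr))
  obtain ⟨k, hk, hcomm, ek⟩ := conj_tour hok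
    (show Good r.code from ⟨(AutModel.inBig_spec (au_of (pairOk_good (hgr r hr))).1).1, hrm.1⟩)
    (fun x => Commute x (gperm b.code)) (Commute.one_left _)
    (fun q hq x hx => Commute.mul_left (show gperm q.1 * gperm b.code = gperm b.code * gperm q.1 by
      obtain ⟨q1, -⟩ := Invol.gens_spec hok hq
      rw [← gperm_mul q1.1 hbok, hcom q hq, gperm_mul hbok q1.1]) hx) r.prog hcr
  refine ⟨b, hb, r, hr, g * AutModel.toAut ⟨k, hk⟩, ?_, ?_⟩
  · have hf : AutModel.toAut ⟨k, hk⟩ * au b.code * (AutModel.toAut ⟨k, hk⟩)⁻¹ = au b.code := by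
      rw [hba, ← map_inv, ← map_mul, ← map_mul]
      exact congrArg AutModel.toAut (Subtype.ext (mul_inv_eq_iff_eq_mul.mpr hcomm))
    conv_lhs => rw [← hf]
    group
  · have hf : AutModel.toAut ⟨k, hk⟩ * au r.code * (AutModel.toAut ⟨k, hk⟩)⁻¹ = g⁻¹ * β * g := by
      rw [hs', hra, ← map_inv, ← map_mul, ← map_mul]
      exact congrArg AutModel.toAut (Subtype.ext (by rw [← e, ek]; rfl))
    calc β = g * (g⁻¹ * β * g) * g⁻¹ := by group
      _ = _ := by rw [← hf]; group

theorem hrep_pair {j : ℕ} (hj : j < 77) : pairOk (Data2.hRep.getD j (0, 0)) = true := by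
  have h := Cert2.hCover_ok
  have hl := Cert2.lens_ok
  simp only [Bool.and_eq_true, Nat.beq_eq] at hl
  simp only [Codes.coverOk, Bool.and_eq_true, List.all_eq_true] at h
  exact getD_ok h.1.1.1.1 (by omega)

theorem rep_inj {i j : ℕ} (hi : i < 77) (hj : j < 77)
    (h : keyOf (Data2.hRep.getD i (0, 0)) Data.uhL = keyOf (Data2.hRep.getD j (0, 0)) Data.uhL) :
    i = j := by
  have hl := Cert2.lens_ok
  simp only [Bool.and_eq_true, Nat.beq_eq] at hl
  have hn := distinct_iff AzChecks.keys_ok
  have hi' : i < Data2.hRep.length := by omega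
  have hj' : j < Data2.hRep.length := by omega
  rw [List.getD_eq_getElem _ _ hi', List.getD_eq_getElem _ _ hj'] at h
  refine (List.getElem_inj (h₀ := by simpa using hi') (h₁ := by simpa using hj') hn).mp ?_
  rw [List.getElem_map, List.getElem_map]
  exact h

theorem normJ_iff {a j : ℕ} (ha : pairOk (a, a) = true) (hj : j < 77) :
    au a ∈ Subgroup.normalizer (rmc Data2.hRep Cert2.Uh j : Set AutM22) ↔ normJ a j = true := by
  rw [normJ, Nat.beq_eq]
  refine ⟨fun h => key2_eq Cert2.uh_closed ha (hrep_pair hj) (hrep_pair hj) (mc_eq_self h),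
    fun h => mem_normalizer_of_mc ?_⟩
  obtain ⟨t, ht, e⟩ := Cert2.hRep_cover (au a * au (Data2.hRep.getD j (0, 0)).1)
  rw [mc_mul] at e
  have hk := key2_eq Cert2.uh_closed ha (hrep_pair hj) (hrep_pair ht) e
  rw [h] at hk
  exact e.trans (congrArg _ (rep_inj hj ht hk).symm)

/-- The count of a pair of representatives. -/
theorem incid_root {a b : ℕ} (ha : pairOk (a, a) = true) (hb : pairOk (b, b) = true) :
    incid (au a) (au b) = 11520 * hexN a b := by
  classical
  haveI := Fintype.ofFinite AutM22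
  set L := ((List.range 77).filter fun j => normJ a j && normJ b j).toFinset with hL
  have hLc : L.card = hexN a b := by
    rw [hexN]; exact List.toFinset_card_of_nodup (List.nodup_range.filter _)
  choose J hJ hJe using fun g : AutM22 => Cert2.hRep_cover g⁻¹
  have hmem : ∀ {x g : AutM22}, g * x * g⁻¹ ∈ NU ↔
      x ∈ Subgroup.normalizer (rmc Data2.hRep Cert2.Uh (J g) : Set AutM22) := fun {x g} => by
    rw [← hJe g]
    refine Iff.symm (mem_normalizer_map.trans ?_)
    rw [inv_inv]
  have hfib : ∀ j ∈ L, (Finset.univ.filter fun g => J g = j).card = 11520 := by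
    intro j hj
    rw [hL, List.mem_toFinset, List.mem_filter, List.mem_range] at hj
    rw [← Cert2.card_norm, Nat.card_eq_fintype_card, ← Finset.card_univ]
    refine (Finset.card_bij (fun (n : ↥NU) _ => n.1⁻¹ * (au (Data2.hRep.getD j (0, 0)).1)⁻¹)
      (fun n _ => ?_) (fun n _ m _ e => Subtype.ext (inv_injective (mul_right_cancel e)))
      (fun g hg => ?_)).symm
    · simp only [Finset.mem_filter, Finset.mem_univ, true_and]
      refine rep_inj (hJ _) hj.1 (key_eq Cert2.uh_closed (hrep_pair (hJ _)) (hrep_pair hj.1) ?_)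
      show rmc _ _ (J _) = rmc Data2.hRep Cert2.Uh j
      rw [← hJe, mul_inv_rev, inv_inv, inv_inv, mc_mul, rmc,
        show mc n.1 Cert2.Uh = Cert2.Uh from mc_eq_self n.2]
    · simp only [Finset.mem_filter, Finset.mem_univ, true_and] at hg
      set r := au (Data2.hRep.getD j (0, 0)).1 with hr
      refine ⟨⟨r⁻¹ * g⁻¹, mem_normalizer_of_mc ?_⟩, Finset.mem_univ _, ?_⟩
      · rw [mc_mul, hJe g, hg, rmc, ← hr, ← mc_mul, inv_mul_cancel, mc_one]
      · show (r⁻¹ * g⁻¹)⁻¹ * r⁻¹ = g
        group
  rw [incid, Nat.card_eq_fintype_card, Fintype.card_subtype, ← hLc, mul_comm,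
    ← smul_eq_mul, ← Finset.sum_const, ← Finset.sum_congr rfl hfib,
    ← Finset.card_biUnion fun i _ j _ hij => Finset.disjoint_left.mpr fun g h1 h2 => hij (by
      simp only [Finset.mem_filter] at h1 h2; exact h1.2.symm.trans h2.2)]
  congr 1
  ext g
  simp only [Finset.mem_filter, Finset.mem_univ, true_and, Finset.mem_biUnion, hL, List.mem_toFinset,
    List.mem_filter, List.mem_range, Bool.and_eq_true, exists_eq_right']
  rw [hmem, hmem, normJ_iff ha (hJ g), normJ_iff hb (hJ g)]
  exact ⟨fun h => ⟨hJ g, h⟩, fun h => h.2⟩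

theorem innC_iff {c : ℕ} (h : good c = true) : innC c = true ↔ au c ∈ inn := by
  rw [innC, Nat.beq_eq, au_inn h]

theorem root_prod {b : Block} (hb : b ∈ blocks) {r : Root} (hr : r ∈ b.roots) :
    orderOf (au b.code * au r.code) = r.ord ∧ ∀ k,
      ((au b.code * au r.code) ^ k ∈ inn ↔ innC (powC (mulP 24 5 b.code r.code) k) = true) := by
  obtain ⟨hgb, hgr⟩ := table_good hb
  obtain ⟨hbm, hba⟩ := au_toAut (pairOk_good hgb)
  obtain ⟨hrm, hra⟩ := au_toAut (pairOk_good (hgr r hr))
  have gb : Good b.code := ⟨(AutModel.inBig_spec (au_of (pairOk_good hgb)).1).1, hbm.1⟩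
  have gr : Good r.code := ⟨(AutModel.inBig_spec (au_of (pairOk_good (hgr r hr))).1).1, hrm.1⟩
  have gp := good_mulP gb gr
  have hR := (block_cover hb).2 r hr
  simp only [rootOk, Bool.and_eq_true, Nat.beq_eq] at hR
  obtain ⟨⟨⟨-, hord⟩, -⟩, -⟩ := hR
  have hval : ((⟨gperm b.code, hbm⟩ : ↥AutModel.big) * ⟨gperm r.code, hrm⟩ : ↥AutModel.big).1 =
      (el (mulP 24 5 b.code r.code) : Equiv.Perm GolayPt) := by
    rw [el_coe gp.2, gperm_mul gb.1 gr.1]; rfl
  rw [hba, hra, ← map_mul]
  refine ⟨?_, fun k => ?_⟩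
  · rw [MulEquiv.orderOf_eq, ← NModel.orderOf_el gp hord,
      ← orderOf_injective AutModel.big.subtype Subtype.coe_injective,
      ← orderOf_injective (M24 : Subgroup (Equiv.Perm GolayPt)).subtype Subtype.coe_injective]
    exact congrArg orderOf hval
  · have hp := NModel.good_powC gp k
    rw [← map_pow, AutModel.toAut_mem_inn, SubmonoidClass.coe_pow, hval, ← SubmonoidClass.coe_pow,
      ← NModel.el_powC gp k, el_coe hp.2, innC, Nat.beq_eq]
    have e23 : idx (none : GolayPt) = 23 := rfl
    have e := idx_gperm hp.1 (none : GolayPt)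
    rw [e23] at e
    rw [← e]
    exact idx_injective.eq_iff.symm.trans (iff_of_eq (congrArg _ e23))

/-- The numbers of a pair of involutions. -/
theorem table {α β : AutM22} (hα : α * α = 1) (hβ : β * β = 1) :
    ∃ h ∈ [0, 1, 2, 3, 5, 9, 13, 21, 77], incid α β = 11520 * h ∧
      (h = 0 → HasC α β ∨ (α ∉ inn ∧ incid α α = 11520 * 5) ∨
        (α ∈ inn ∧ α ≠ 1 ∧ β ∉ inn ∧ orderOf (α * β) = 10)) ∧
      (orderOf (α * β) = 2 → h ≠ 0) ∧
      (α ∈ inn → β ∈ inn → orderOf (α * β) = 3 → h = 3) ∧
      (α ∈ inn → β ∈ inn → orderOf (α * β) = 5 → h = 2) ∧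
      (α ∉ inn → incid α α = 11520 * 21 → orderOf (α * β) = 3 → h = 5) := by
  obtain ⟨b, hb, r, hr, g, rfl, rfl⟩ := exists_root hα hβ
  obtain ⟨hgb, hgr⟩ := table_good hb
  obtain ⟨hord, hpow⟩ := root_prod hb hr
  have hone : ∀ {c}, good c = true → (au c = 1 ↔ c = oneCode) := fun {c} hc => by
    rw [← au_one]
    exact ⟨fun e => au_inj hc Codes.good_one e, fun e => e ▸ rfl⟩
  have hT := table_all hb
  simp only [tableOk, forceNat_eq, Bool.and_eq_true, List.all_eq_true] at hT
  have hT' := (hT.2 r hr).2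
  simp only [pairOkB, Bool.and_eq_true, Bool.or_eq_true, Bool.not_eq_true', ← Bool.not_eq_true,
    Nat.beq_eq, List.contains_iff_mem, innC_iff (pairOk_good hgb),
    innC_iff (pairOk_good (hgr r hr)), ← hord, ← hpow, ← hone (pairOk_good hgb)] at hT'
  obtain ⟨⟨⟨⟨⟨hmem, h0⟩, hn2⟩, h3⟩, h5⟩, h21⟩ := hT'
  simp only [incid_conj, hasC_conj, mem_inn_conj, orderOf_conj_mul, conj_eq_one_iff, ne_eq,
    incid_root hgb (hgr r hr), incid_root hgb hgb]
  refine ⟨_, hmem, rfl, fun e => ?_, fun e => ?_, fun x y n => ?_, fun x y n => ?_, fun x y n => ?_⟩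
  · rcases h0 with ((h | ⟨h, h'⟩) | ⟨h, h'⟩) | ⟨⟨⟨x, y⟩, w⟩, n⟩
    · exact absurd e h
    · exact Or.inl ⟨Nat.even_iff.mpr h, h'⟩
    · exact Or.inr (Or.inl ⟨h, by rw [h']⟩)
    · exact Or.inr (Or.inr ⟨x, y, w, n⟩)
  · rcases hn2 with h | h
    · exact absurd e h
    · exact h
  · tauto
  · tauto
  · have : hexN b.code b.code = 21 := by omega
    tauto

/-- The numbers of one involution. -/
theorem table_one {α : AutM22} (hα : α * α = 1) :
    (α ∈ inn → α ≠ 1 → incid α α = 11520 * 13) ∧
      (α ∉ inn → incid α α = 11520 * 5 ∨ incid α α = 11520 * 21) := by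
  obtain ⟨b, hb, g, rfl⟩ := exists_block hα
  have hgb := (table_good hb).1
  have hT := table_all hb
  simp only [tableOk, forceNat_eq, Bool.and_eq_true] at hT
  have h1 := hT.1.2
  simp only [incid_conj, mem_inn_conj, ne_eq, conj_eq_one_iff, incid_root hgb hgb]
  cases hi : innC b.code with
  | true =>
    rw [hi] at h1
    simp only [cond_true, Bool.or_eq_true, Nat.beq_eq] at h1
    refine ⟨fun _ h => ?_, fun h => absurd ((innC_iff (pairOk_good hgb)).mp hi) h⟩
    rcases h1 with e | e
    · exact absurd (e ▸ au_one) h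
    · rw [e]
  | false =>
    rw [hi] at h1
    simp only [cond_false, Bool.or_eq_true, Nat.beq_eq] at h1
    refine ⟨fun h => absurd ((innC_iff (pairOk_good hgb)).mpr h) (by simp [hi]), fun _ => ?_⟩
    rcases h1 with e | e <;> simp [e]

theorem block3_good : pairOk (block3.code, block3.code) = true :=
  (table_good (show block3 ∈ blocks by simp [blocks])).1

/-- An involution normalising five conjugates exists. -/
theorem exists_five : ∃ α : AutM22, α * α = 1 ∧ α ∉ inn ∧ incid α α = 11520 * 5 := by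
  have h := AzChecks.five_ok
  simp only [fiveOk, Bool.and_eq_true, Bool.not_eq_true', ← Bool.not_eq_true, Nat.beq_eq] at h
  have hg := block3_good
  refine ⟨au block3.code, ?_, (innC_iff (pairOk_good hg)).not.mp h.2,
    by rw [incid_root hg hg, h.1.2]⟩
  simp only [pairOk, Bool.and_eq_true, Nat.beq_eq] at hg
  rw [← au_mul hg.1.1 hg.1.1 (by rw [hg.2]; exact Codes.good_one), hg.2, au_one]

theorem five_conj {α : AutM22} (hα : α * α = 1) (hi : α ∉ inn) (h5 : incid α α = 11520 * 5) :
    ∃ g, α = g * au block3.code * g⁻¹ := by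
  obtain ⟨b, hb, g, rfl⟩ := exists_block hα
  have hgb := (table_good hb).1
  rw [mem_inn_conj, ← innC_iff (pairOk_good hgb)] at hi
  rw [incid_conj, incid_root hgb hgb] at h5
  have h := AzChecks.five_ok
  simp only [fiveOk, Bool.and_eq_true, List.all_eq_true, Bool.or_eq_true, Bool.not_eq_true',
    ← Bool.not_eq_true, Nat.beq_eq] at h
  rcases h.1.1.1 b hb with (h' | h') | h'
  · exact absurd h' hi
  · exact absurd (by omega) h'
  · exact ⟨g, by rw [h']⟩

/-- An involution normalising five conjugates commutes with no element of order three. -/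
theorem five_no_three {α y : AutM22} (hα : α * α = 1) (hi : α ∉ inn)
    (h5 : incid α α = 11520 * 5) (hy : Commute y α) : orderOf y ≠ 3 := by
  classical
  intro hy3
  haveI := Fintype.ofFinite AutM22
  obtain ⟨g, rfl⟩ := five_conj hα hi h5
  have h := AzChecks.five_ok
  simp only [fiveOk, Bool.and_eq_true, Nat.beq_eq] at h
  have hlen := h.1.1.2
  have hnd : (tour gens block3.code block3.prog).Nodup := by
    have hall : (blocks.flatMap fun b => tour gens b.code b.prog).Nodup :=
      ((AtNum.perm_of_cover AtChecks.cover_outer).nodup_iff).mpr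
        (Invol.invol_spec.2.1.imp fun h => ne_of_lt h)
    exact (List.nodup_flatMap.mp hall).1 block3 (by simp [blocks])
  have hgood3 := pairOk_good block3_good
  obtain ⟨hbm, hba⟩ := au_toAut hgood3
  have hG : Good block3.code := ⟨(AutModel.inBig_spec (au_of hgood3).1).1, hbm.1⟩
  set a := au block3.code
  have hin : ∀ c ∈ tour gens block3.code block3.prog, c ∈ invol := fun c hc =>
    (AtNum.perm_of_cover AtChecks.cover_outer).mem_iff.mp
      (List.mem_flatMap.mpr ⟨block3, by simp [blocks], hc⟩)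
  let f : {c // c ∈ tour gens block3.code block3.prog} → AutM22 := fun c =>
    AutModel.toAut ⟨gperm c.1, (big_invol (hin c.1 c.2)).2⟩
  have hf : Function.Injective f := fun c d e => Subtype.ext
    (Cfsg.Agent.Lib.FusionAlperin.MathieuCert.eq_of_gperm (Invol.invol_spec.1 _ (hin _ c.2)).1
      (Invol.invol_spec.1 _ (hin _ d.2)).1 (Invol.invol_spec.1 _ (hin _ c.2)).2
      (Invol.invol_spec.1 _ (hin _ d.2)).2 (congrArg Subtype.val (AutModel.toAut.injective e)))
  have hrange : (fun k => k * a * k⁻¹) '' ((⊤ : Subgroup AutM22) : Set AutM22) = Set.range f := by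
    ext x
    constructor
    · rintro ⟨k, -, rfl⟩
      have hsq : k * a * k⁻¹ * (k * a * k⁻¹) = 1 := by
        have : a * a = 1 := by
          have hh : g * a * g⁻¹ * (g * a * g⁻¹) = 1 := hα
          rwa [show g * a * g⁻¹ * (g * a * g⁻¹) = g * (a * a) * g⁻¹ by group, conj_eq_one_iff] at hh
        rw [show k * a * k⁻¹ * (k * a * k⁻¹) = k * (a * a) * k⁻¹ by group, this]; group
      obtain ⟨s, hs', hs⟩ := mem_permSet_aut hsq
      obtain ⟨c, hc, e⟩ := Invol.mem_permSet.mp hs
      obtain ⟨b, hb, hcb⟩ := List.mem_flatMap.mp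
        ((AtNum.perm_of_cover AtChecks.cover_outer).mem_iff.mpr hc)
      have hgb := pairOk_good (table_good hb).1
      obtain ⟨hmem, hau⟩ := au_toAut hgb
      obtain ⟨l, hl, -, el'⟩ := conj_tour AtChecks.gens_ok
        (show Good b.code from ⟨(AutModel.inBig_spec (au_of hgb).1).1, hmem.1⟩) (fun _ => True) trivial
        (fun _ _ _ _ => trivial) b.prog hcb
      have hx : k * a * k⁻¹ = AutModel.toAut ⟨l, hl⟩ * au b.code * (AutModel.toAut ⟨l, hl⟩)⁻¹ := by
        rw [hs', hau, ← map_inv, ← map_mul, ← map_mul]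
        exact congrArg AutModel.toAut (Subtype.ext (e.symm.trans el'))
      have hb3 : b.code = block3.code := by
        have h1 : a ∉ inn ∧ incid a a = 11520 * 5 := by
          rw [mem_inn_conj] at hi; rw [incid_conj] at h5; exact ⟨hi, h5⟩
        have h2 : au b.code ∉ inn := by
          rw [← mem_inn_conj (c := AutModel.toAut ⟨l, hl⟩), ← hx, mem_inn_conj]; exact h1.1
        have h3 : incid (au b.code) (au b.code) = 11520 * 5 := by
          rw [← incid_conj (AutModel.toAut ⟨l, hl⟩), ← hx, incid_conj]; exact h1.2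
        rw [← innC_iff hgb] at h2
        rw [incid_root (table_good hb).1 (table_good hb).1] at h3
        have hh := AzChecks.five_ok
        simp only [fiveOk, Bool.and_eq_true, List.all_eq_true, Bool.or_eq_true, Bool.not_eq_true',
          ← Bool.not_eq_true, Nat.beq_eq] at hh
        rcases hh.1.1.1 b hb with (h' | h') | h'
        · exact absurd h' h2
        · exact absurd (by omega) h'
        · exact h'
      have hmem3 : c ∈ tour gens block3.code block3.prog := by
        simp only [blocks, List.mem_cons, List.not_mem_nil, or_false] at hb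
        rcases hb with rfl | rfl | rfl | rfl
        · exact absurd hb3 (by decide +kernel)
        · exact absurd hb3 (by decide +kernel)
        · exact absurd hb3 (by decide +kernel)
        · exact hcb
      refine ⟨⟨c, hmem3⟩, ?_⟩
      show f ⟨c, hmem3⟩ = k * a * k⁻¹
      rw [hs']
      exact congrArg AutModel.toAut (Subtype.ext e)
    · rintro ⟨⟨c, hc⟩, rfl⟩
      obtain ⟨k, hk, -, ek⟩ := conj_tour AtChecks.gens_ok hG (fun _ => True) trivial
        (fun _ _ _ _ => trivial) block3.prog hc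
      refine ⟨AutModel.toAut ⟨k, hk⟩, trivial, ?_⟩
      show _ * a * _ = _
      rw [hba, ← map_inv, ← map_mul, ← map_mul]
      exact congrArg AutModel.toAut (Subtype.ext ek.symm)
  have horb := AutLocal.card_orbit (⊤ : Subgroup AutM22) a
  rw [Subgroup.card_top, autFacts.card_aut, top_inf_eq, hrange,
    Set.ncard_range_of_injective hf, Nat.card_eq_fintype_card (α := {c // c ∈ _}),
    Fintype.card_of_subtype (tour gens block3.code block3.prog).toFinset (fun c => List.mem_toFinset),
    List.toFinset_card_of_nodup hnd, hlen] at horb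
  have hy' : g⁻¹ * y * g ∈ Subgroup.centralizer ({a} : Set AutM22) := by
    rw [Subgroup.mem_centralizer_singleton_iff]
    calc g⁻¹ * y * g * a = g⁻¹ * (y * (g * a * g⁻¹)) * g := by group
      _ = _ := by rw [hy.eq]; group
  have ho : orderOf (g⁻¹ * y * g) = 3 := by
    rw [← hy3]
    have := orderOf_injective (MulAut.conj g⁻¹).toMonoidHom (MulAut.conj g⁻¹).injective y
    simpa using this
  have h3 : orderOf (g⁻¹ * y * g) ∣ Nat.card ↥(Subgroup.centralizer ({a} : Set AutM22)) :=
    Subgroup.orderOf_dvd_natCard _ hy'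
  rw [ho] at h3
  omega

/-- The weight sums to a constant over the conjugations. -/
theorem sum_wt [Fintype AutM22] {α β : AutM22} (hα : α * α = 1) (hβ : β * β = 1)
    (h : HasC α β ∨ incid α β ≠ 0) :
    ∑ g : AutM22, wt (g * α * g⁻¹) (g * β * g⁻¹) = 11520 * 90090 := by
  classical
  simp only [wt, hasC_conj, cEl_conj, incid_conj]
  by_cases hC : HasC α β
  · simp only [if_pos hC]
    rw [← Finset.sum_filter, Finset.sum_const, smul_eq_mul, ← Fintype.card_subtype,
      ← Nat.card_eq_fintype_card, card_into hC.2 (cEl_spec hα hβ hC.1).1]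
  · simp only [if_neg hC]
    rw [← Finset.sum_filter, Finset.sum_const, smul_eq_mul, ← Fintype.card_subtype,
      ← Nat.card_eq_fintype_card]
    show incid α β * _ = _
    have hi := h.resolve_left hC
    obtain ⟨k, hk, he, -⟩ := table hα hβ
    have hd : incid α β ∣ 90090 * 11520 := by
      rw [he, mul_comm]
      refine Nat.mul_dvd_mul ?_ (dvd_refl _)
      simp only [List.mem_cons, List.not_mem_nil, or_false] at hk
      rcases hk with rfl | rfl | rfl | rfl | rfl | rfl | rfl | rfl | rfl
      · simp [he] at hi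
      all_goals norm_num
    rw [Nat.mul_div_cancel' hd]

end Cfsg.Agent.Lib.J4Order.AzPairs
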