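import Cfsg.Agent.Lib.J4Order.AzModelCount
import Cfsg.Agent.S5567
import Cfsg.Agent.S5569

/-!
# The order of a group of Janko-four type

`card_eq`: the order, given the two facts on the elementary abelian subgroups of order `2^11` and on the
second class of involutions.
-/

set_option autoImplicit false
set_option linter.unusedSectionVars false

namespace Cfsg.Agent.Lib.J4Order

open Cfsg Cfsg.Agent.Lib.J4Local

variable {G : Type*} [Group G] [Finite G] [IsSimpleGroup G] {z : G}

/-- The order of a group of Janko-four type. -/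
theorem card_eq (hG : ¬ IsMulCommutative G) (hJ : Cfsg.IsOfJankoFourTypeAt z)
    (h67 : ∀ V : Subgroup G, Cfsg.IsElementaryAbelian 2 V → Nat.card ↥V = 2 ^ 11 →
      Subgroup.centralizer (V : Set G) ≤ V ∧ ∃ K : Subgroup G,
        K ≤ Subgroup.normalizer (V : Set G) ∧ K ⊓ V = ⊥ ∧
        K ⊔ V = Subgroup.normalizer (V : Set G) ∧ Cfsg.Spor.IsoM24 ↥K)
    (h69 : ∀ t : G, orderOf t = 2 → ¬ IsConj z t → ∃ V K : Subgroup G,
      V ≤ Subgroup.centralizer ({t} : Set G) ∧ K ≤ Subgroup.centralizer ({t} : Set G) ∧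
      Subgroup.centralizer ({t} : Set G) ≤ Subgroup.normalizer (V : Set G) ∧
      Cfsg.IsElementaryAbelian 2 V ∧ Nat.card ↥V = 2 ^ 11 ∧ K ⊓ V = ⊥ ∧
      K ⊔ V = Subgroup.centralizer ({t} : Set G) ∧ Nonempty (↥K ≃* MulAut ↥Cfsg.Spor.M22)) :
    Nat.card G = 86775571046077562880 := by
  classical
  haveI := Fintype.ofFinite G
  exact card_eq_of_az hG hJ h67 h69 fun p S M hMV h7 o hF =>
    M.az_facts h7 S hMV (S.exists_fused hG autFacts) o hF

/-- The order of a simple group of Janko-four type. -/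
theorem card_eq_of_type (hG : ¬ IsMulCommutative G) (hJ : Cfsg.IsOfJankoFourType G) :
    Nat.card G = 86775571046077562880 := by
  obtain ⟨z, hz⟩ := hJ
  exact card_eq hG hz (Cfsg.Agent.S5567.result hG ⟨z, hz⟩) (Cfsg.Agent.S5569.result hG z hz)

end Cfsg.Agent.Lib.J4Order
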