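import Cfsg.Agent.Lib.J4Order.AzFinal

/-!
# The order of the group from the model facts, stated on `N(V) ∩ C(z)`

`az_sum`, `az_first`, `az_pair`: the hypotheses in the form proved by the model count.
-/

set_option autoImplicit false
set_option linter.unusedSectionVars false

namespace Cfsg.Agent.Lib.J4Order

open Cfsg Cfsg.Agent.Lib.J4Local Cfsg.Agent.Lib.J4Big
open AzPairs

variable {G : Type*} [Group G] [Finite G] {z p : G}

/-- The elements of `N(V) ∩ C(z)` are those with image in the hexad normaliser. -/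
theorem mem_mm_iff (S : Setting z p) (M : NModel z)
    (hMV : M.V = vv S Cert2.normConfig.toBigConfig) {x : G} :
    x ∈ Subgroup.normalizer (M.V : Set G) ⊓ cz z ↔ x ∈ cz z ∧ S.img x ∈ NU := by
  have F := autFacts
  have B := Cert2.normConfig.toBigConfig
  have hcz : M.V ≤ cz z := hMV ▸ (vv_facts S F B).2.2
  have himg : S.imgS M.V = Cert2.Uh := hMV ▸ imgS_vv S F B
  constructor
  · rintro ⟨hn, hx⟩
    refine ⟨hx, J4Local.mem_normalizer_of_le (fun a ha => ?_)⟩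
    rw [← himg] at ha ⊢
    obtain ⟨v, hv, rfl⟩ := (S.mem_imgS hcz).mp ha
    exact (S.mem_imgS hcz).mpr ⟨_, (Subgroup.mem_normalizer_iff.mp hn v).mp hv, by
      rw [S.img_mul (mul_mem hx (hcz hv)) (inv_mem hx), S.img_mul hx (hcz hv), S.img_inv hx]⟩
  · rintro ⟨hx, hN⟩
    refine ⟨?_, hx⟩
    rw [hMV]
    exact mSt_le_normalizer S F B ((mem_mSt S).mpr ⟨hx, hN⟩)

/-- An involution pair of `HasC` type of order two has an inner product. -/
theorem not_hasC_of_mixed {α β : AutM22} (hi : α ∈ inn) (hj : β ∉ inn)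
    (h : orderOf (α * β) = 2) : ¬ HasC α β := by
  rintro ⟨-, hc⟩
  rw [cEl, h, Nat.div_self (by norm_num), pow_one] at hc
  exact hj ((Subgroup.mul_mem_cancel_left inn hi).mp hc)

section
variable [IsSimpleGroup G]

open Classical in
/-- The order of the group from `az_sum`, `az_first`, `az_pair`. -/
theorem card_eq_of_az [Fintype G] (hG : ¬ IsMulCommutative G) (hJ : Cfsg.IsOfJankoFourTypeAt z)
    (h67 : ∀ V : Subgroup G, Cfsg.IsElementaryAbelian 2 V → Nat.card ↥V = 2 ^ 11 →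
      Subgroup.centralizer (V : Set G) ≤ V ∧ ∃ K : Subgroup G,
        K ≤ Subgroup.normalizer (V : Set G) ∧ K ⊓ V = ⊥ ∧
        K ⊔ V = Subgroup.normalizer (V : Set G) ∧ Cfsg.Spor.IsoM24 ↥K)
    (h69 : ∀ t : G, orderOf t = 2 → ¬ IsConj z t → ∃ V K : Subgroup G,
      V ≤ Subgroup.centralizer ({t} : Set G) ∧ K ≤ Subgroup.centralizer ({t} : Set G) ∧
      Subgroup.centralizer ({t} : Set G) ≤ Subgroup.normalizer (V : Set G) ∧
      Cfsg.IsElementaryAbelian 2 V ∧ Nat.card ↥V = 2 ^ 11 ∧ K ⊓ V = ⊥ ∧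
      K ⊔ V = Subgroup.centralizer ({t} : Set G) ∧ Nonempty (↥K ≃* MulAut ↥Cfsg.Spor.M22))
    (hmodel : ∀ (p : G) (S : Setting z p) (M : NModel z),
      M.V = vv S Cert2.normConfig.toBigConfig → M.ψ 7 = z → ∀ o, Fus M o →
        (∑ q ∈ Finset.univ.filter (fun q : G × G =>
            q.1 ∈ Subgroup.normalizer (M.V : Set G) ⊓ cz z ∧
            q.2 ∈ Subgroup.normalizer (M.V : Set G) ⊓ cz z ∧ GoodZ z q),
          wt (S.img q.1) (S.img q.2)) = 34206514673760 ∧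
        (∀ u ∈ Subgroup.normalizer (M.V : Set G) ⊓ cz z, IsConj z u → S.img u ∉ inn →
          incid (S.img u) (S.img u) = 11520 * 21) ∧
        (∀ q : G × G, q.1 ∈ Subgroup.normalizer (M.V : Set G) ⊓ cz z →
          q.2 ∈ Subgroup.normalizer (M.V : Set G) ⊓ cz z → GoodZ z q → S.img q.1 ∈ inn →
          S.img q.1 ≠ 1 → S.img q.2 ∉ inn → HasC (S.img q.1) (S.img q.2))) :
    Nat.card G = 86775571046077562880 := by
  refine card_eq_of_model hG hJ h67 h69 fun p S M hMV h7 o hF => ?_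
  obtain ⟨hsum, hfirst, hpair⟩ := hmodel p S M hMV h7 o hF
  refine ⟨fun u hu hN hi h5 hc => ?_, fun q hq hα hβ hi h1 hj hn => ?_, ?_⟩
  · have := hfirst u ((mem_mm_iff S M hMV).mpr ⟨hu, hN⟩) hc hi
    omega
  · obtain ⟨hu, hv, -, -⟩ := hq.mem_cz S.ord_z
    exact not_hasC_of_mixed hi hj hn (hpair q ((mem_mm_iff S M hMV).mpr ⟨hu, hα⟩)
      ((mem_mm_iff S M hMV).mpr ⟨hv, hβ⟩) hq hi h1 hj)
  · rw [← hsum]
    refine Finset.sum_congr (Finset.ext fun q => ?_) fun _ _ => rfl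
    simp only [mem_goodM, Finset.mem_filter, Finset.mem_univ, true_and]
    refine ⟨fun ⟨hq, hα, hβ⟩ => ?_, fun ⟨hu, hv, hq⟩ =>
      ⟨hq, ((mem_mm_iff S M hMV).mp hu).2, ((mem_mm_iff S M hMV).mp hv).2⟩⟩
    obtain ⟨hu, hv, -, -⟩ := hq.mem_cz S.ord_z
    exact ⟨(mem_mm_iff S M hMV).mpr ⟨hu, hα⟩, (mem_mm_iff S M hMV).mpr ⟨hv, hβ⟩, hq⟩

end

end Cfsg.Agent.Lib.J4Order
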