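import Cfsg.Agent.Lib.J4Order.AzModelCalc

/-!
# Running the checks for the count at `z`: block 4
-/

set_option autoImplicit false
set_option maxRecDepth 100000

namespace Cfsg.Agent.Lib.J4Order.AzModelChecks

open AzModelCalc AzModelData AtCalc

theorem cover4 : coverS (toursS mblock4) = true := by decide +kernel

theorem block4 : blockS mblock4 = true := by decide +kernel

theorem roots4 : mroots4.all (rootS mblock4) = true := by decide +kernel

end Cfsg.Agent.Lib.J4Order.AzModelChecks
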