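import Cfsg.Agent.Lib.J4Order.AzModelCalc

/-!
# Running the checks for the count at `z`: block 6
-/

set_option autoImplicit false
set_option maxRecDepth 100000

namespace Cfsg.Agent.Lib.J4Order.AzModelChecks

open AzModelCalc AzModelData AtCalc

theorem cover6 : coverS (toursS mblock6) = true := by decide +kernel

theorem block6 : blockS mblock6 = true := by decide +kernel

theorem roots6 : mroots6.all (rootS mblock6) = true := by decide +kernel

end Cfsg.Agent.Lib.J4Order.AzModelChecks
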