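import Cfsg.Agent.Lib.J4Order.AzModelBlock0
import Cfsg.Agent.Lib.J4Order.AzModelBlock1
import Cfsg.Agent.Lib.J4Order.AzModelBlock2
import Cfsg.Agent.Lib.J4Order.AzModelBlock3
import Cfsg.Agent.Lib.J4Order.AzModelBlock4
import Cfsg.Agent.Lib.J4Order.AzModelBlock5
import Cfsg.Agent.Lib.J4Order.AzModelBlock6

/-!
# Running the checks for the count at `z`
-/

set_option autoImplicit false
set_option maxRecDepth 100000

namespace Cfsg.Agent.Lib.J4Order.AzModelChecks

open AzModelCalc AzModelData AtCalc

theorem mask_ok : maskOk = true := by decide +kernel

theorem ker_ok : kerOk = true := by decide +kernel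

theorem reps_ok : repsOk = true := by decide +kernel

theorem invol_ok : sInvolOk = true := by decide +kernel

theorem total_ok : totalS = true := by decide +kernel

theorem cover_outer :
    coverS (mblocks.flatMap fun b => tour sGens b.code b.prog) = true := by decide +kernel

end Cfsg.Agent.Lib.J4Order.AzModelChecks
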