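import Cfsg.Agent.Lib.J4Order.AzModelImg
import Cfsg.Agent.Lib.J4Order.AzModelChecks
import Cfsg.Agent.Lib.J4Order.AtCount

/-!
# The involutions of the stabiliser of the sextet of 7, their orbits, and the weighted count
-/

set_option autoImplicit false
set_option linter.unusedSectionVars false
set_option linter.constructorNameAsVariable false
set_option maxRecDepth 100000

namespace Cfsg.Agent.Lib.J4Order

open Cfsg Cfsg.Agent.Lib.Golay Cfsg.Agent.Lib.Computation
open Cfsg.Agent.Lib.J4Big.Cocode (addAll addAll_spec)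
open Cfsg.Agent.Lib.FusionAlperin.MathieuCert (canon canon_congr eq_of_gperm getW_eq_of_gperm
  sortedLT_of_zip)
open AtCalc AzModelCalc AzModelData

attribute [local irreducible] oneCode mulP canon sInvol tupReps M24Classes.Coset.tails

namespace AzModel

theorem forceL_eq {α : Type} : ∀ (l : List ℕ) (k : List ℕ → α), forceL l k = k l
  | [], _ => rfl
  | x :: l, k => by rw [forceL, forceNat_eq, forceL_eq l]

theorem find_tree {l : List ℕ} (hl : l.length ≤ 4096) {x i : ℕ} (h : (treeOf l).find x = some i) :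
    i < l.length ∧ l.getD i 0 = x := by
  obtain ⟨a, ha, h1, h2⟩ := AtNum.find_mem h
  rw [List.mem_iff_getElem] at ha
  obtain ⟨j, hj, rfl⟩ := ha
  simp only [List.length_zipWith, List.length_range, min_self] at hj
  simp only [List.getElem_zipWith, List.getElem_range] at h1 h2
  have e : j = i := by omega
  subst e
  refine ⟨hj, ?_⟩
  rw [List.getD_eq_getElem _ _ hj]
  omega

theorem mark_spec {t : List ℕ} (ht : t.length ≤ 4096) : ∀ {l : List ℕ} {m r : ℕ},
    markAll (treeOf t) l m = some r → ∃ is : List ℕ, addAll is m = some r ∧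
      l = is.map (t.getD · 0) ∧ ∀ i ∈ is, i < t.length
  | [], m, r, h => ⟨[], h, rfl, by simp⟩
  | c :: l, m, r, h => by
    rw [markAll] at h
    cases hf : (treeOf t).find c with
    | none => rw [hf] at h; simp at h
    | some i =>
      simp only [hf] at h
      cases hb : m.testBit i with
      | true => simp [hb] at h
      | false =>
        simp only [hb, cond_false, forceNat_eq] at h
        obtain ⟨is, h1, h2, h3⟩ := mark_spec ht h
        obtain ⟨hlt, hx⟩ := find_tree ht hf
        refine ⟨i :: is, by simp [addAll, hb, h1], by rw [List.map_cons, hx, ← h2], ?_⟩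
        intro j hj
        rcases List.mem_cons.mp hj with rfl | hj
        exacts [hlt, h3 j hj]

/-- A covering list is a rearrangement of the list of involutions. -/
theorem perm_of_coverS {l : List ℕ} (h : coverS l = true) : l.Perm sInvol := by
  rw [coverS] at h
  cases hm : markAll (treeOf sInvol) l 0 with
  | none => rw [hm] at h; simp at h
  | some r =>
    simp only [hm, Nat.beq_eq] at h
    obtain ⟨is, h1, rfl, h3⟩ := mark_spec sInvol_len hm
    obtain ⟨hnd, hbit, -⟩ := addAll_spec h1
    have hp : is.Perm (List.range sInvol.length) := by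
      refine (List.perm_ext_iff_of_nodup hnd List.nodup_range).mpr fun i => ?_
      rw [List.mem_range]
      refine ⟨h3 i, fun hi => ?_⟩
      have := (hbit i).mp (by rw [h, Nat.testBit_two_pow_sub_one]; simp [hi])
      simpa using this
    refine (hp.map _).trans (List.Perm.of_eq ?_)
    refine List.ext_getElem (by simp) fun i h1 h2 => ?_
    rw [List.getElem_map, List.getElem_range]
    exact List.getD_eq_getElem _ _ h2

theorem cover_blocks :
    (mblocks.flatMap fun b => tour sGens b.code b.prog).Perm sInvol :=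
  perm_of_coverS AzModelChecks.cover_outer

theorem block_spec {b : MBlock} (hb : b ∈ mblocks) :
    blockS b = true ∧ (toursS b).Perm sInvol ∧ ∀ r ∈ b.roots, rootS b r = true := by
  simp only [mblocks, List.mem_cons, List.not_mem_nil, or_false] at hb
  rcases hb with rfl | rfl | rfl | rfl | rfl | rfl | rfl
  exacts [⟨AzModelChecks.block0, perm_of_coverS AzModelChecks.cover0, List.all_eq_true.mp AzModelChecks.roots0⟩,
    ⟨AzModelChecks.block1, perm_of_coverS AzModelChecks.cover1, List.all_eq_true.mp AzModelChecks.roots1⟩,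
    ⟨AzModelChecks.block2, perm_of_coverS AzModelChecks.cover2, List.all_eq_true.mp AzModelChecks.roots2⟩,
    ⟨AzModelChecks.block3, perm_of_coverS AzModelChecks.cover3, List.all_eq_true.mp AzModelChecks.roots3⟩,
    ⟨AzModelChecks.block4, perm_of_coverS AzModelChecks.cover4, List.all_eq_true.mp AzModelChecks.roots4⟩,
    ⟨AzModelChecks.block5, perm_of_coverS AzModelChecks.cover5, List.all_eq_true.mp AzModelChecks.roots5⟩,
    ⟨AzModelChecks.block6, perm_of_coverS AzModelChecks.cover6, List.all_eq_true.mp AzModelChecks.roots6⟩]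

theorem stabOk_spec {c : ℕ} (h : stabOk c = true) : Good c ∧ act c 7 = 7 := by
  simp only [stabOk, Bool.and_eq_true, Nat.beq_eq] at h
  exact ⟨good_of_inM24 h.1, h.2⟩

theorem gensS_spec {gs : List (ℕ × ℕ)} (h : gensS gs = true) {g : ℕ × ℕ} (hg : g ∈ gs) :
    Good g.1 ∧ act g.1 7 = 7 ∧ Good g.2 ∧ el g.2 = (el g.1)⁻¹ := by
  simp only [gensS, List.all_eq_true, Bool.and_eq_true, Nat.beq_eq] at h
  obtain ⟨⟨h1, h2⟩, h3⟩ := h g hg
  obtain ⟨g1, s1⟩ := stabOk_spec h1
  have g2 := good_of_inM24 h2
  refine ⟨g1, s1, g2, eq_inv_of_mul_eq_one_right ?_⟩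
  rw [← el_mul g1 g2, el_eq_one_of_canon (good_mulP g1 g2) h3]

theorem centS_spec {gs : List (ℕ × ℕ)} {c : ℕ} (hc : Good c) (hg1 : ∀ g ∈ gs, Good g.1)
    (h : centS c gs = true) {g : ℕ × ℕ} (hg : g ∈ gs) : el g.1 * el c * (el g.1)⁻¹ = el c := by
  simp only [centS, List.all_eq_true, Nat.beq_eq] at h
  have e := el_eq_of_canon (good_mulP (hg1 g hg) hc) (good_mulP hc (hg1 g hg)) (h g hg)
  rw [el_mul (hg1 g hg) hc, el_mul hc (hg1 g hg)] at e
  rw [e, mul_inv_cancel_right]

/-- A property preserved by the generators holds on a tour. -/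
theorem tour_prop {gs : List (ℕ × ℕ)} (hok : gensS gs = true) (P : ↥M24 → Prop)
    (hf : ∀ g ∈ gs, ∀ x, P x → P (el g.1 * x * (el g.1)⁻¹)) {root : ℕ} (hr : Good root)
    (hP : P (el root)) (prog : List ℕ) : ∀ y ∈ tour gs root prog, Good y ∧ P (el y) := by
  intro y hy
  rcases List.mem_cons.mp hy with rfl | hy
  · exact ⟨hr, hP⟩
  refine tour_all (Q := fun y => Good y ∧ P (el y)) (fun g hg x hx => ?_) prog [root]
    (by simpa using ⟨hr, hP⟩) y hy
  rcases hg with hg | rfl
  · obtain ⟨g1, -, g2, hi⟩ := gensS_spec hok hg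
    refine ⟨good_mulP (good_mulP g1 hx.1) g2, ?_⟩
    rw [el_conjC g1 g2 hx.1, hi]
    exact hf g hg _ hx.2
  · refine ⟨good_mulP (good_mulP good_one hx.1) good_one, ?_⟩
    rw [el_conjC good_one good_one hx.1, el_one, one_mul, mul_one]
    exact hx.2

/-- An invariant sums on a tour to its multiple. -/
theorem tour_sum {gs : List (ℕ × ℕ)} (hok : gensS gs = true) (f : ↥M24 → ℕ)
    (hf : ∀ g ∈ gs, ∀ x, f (el g.1 * x * (el g.1)⁻¹) = f x) {root : ℕ} (hr : Good root)
    (prog : List ℕ) :
    ((tour gs root prog).map fun c => f (el c)).sum = (tour gs root prog).length * f (el root) := by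
  rw [List.map_congr_left fun y hy => (tour_prop hok (fun σ => f σ = f (el root))
    (fun g hg x hx => (hf g hg x).trans hx) hr rfl prog y hy).2, List.map_const', List.sum_replicate,
    smul_eq_mul]

theorem sInvol_spec : (∀ c ∈ sInvol, Good c ∧ act c 7 = 7 ∧ canon c = c ∧ el c * el c = 1) ∧
    sInvol.Pairwise (· < ·) := by
  have h := AzModelChecks.invol_ok
  simp only [sInvolOk, Bool.and_eq_true, List.all_eq_true, Nat.beq_eq] at h
  refine ⟨fun c hc => ?_, sortedLT_of_zip (List.all_eq_true.mpr fun q hq => by simpa using h.2 q hq)⟩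
  obtain ⟨⟨h1, h2⟩, h3⟩ := h.1 c hc
  obtain ⟨g, s⟩ := stabOk_spec h1
  exact ⟨g, s, h2, by rw [← el_mul g g, el_eq_one_of_canon (good_mulP g g) h3]⟩

/-- The listed involutions. -/
noncomputable def Lz : Finset ↥M24 := (sInvol.map el).toFinset

theorem nodup_elS : (sInvol.map el).Nodup := by
  obtain ⟨hok, hsort⟩ := sInvol_spec
  refine List.Nodup.map_on (fun a ha b hb e => ?_) (hsort.imp fun h => ne_of_lt h)
  have e' := congrArg Subtype.val e
  rw [el_coe (hok a ha).1.2, el_coe (hok b hb).1.2] at e'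
  exact eq_of_gperm (hok a ha).1.1 (hok b hb).1.1 (hok a ha).2.2.1 (hok b hb).2.2.1 e'

theorem sum_Lz (f : ↥M24 → ℕ) : ∑ σ ∈ Lz, f σ = (sInvol.map fun c => f (el c)).sum := by
  rw [Lz, List.sum_toFinset _ nodup_elS, List.map_map]
  rfl

theorem tails_fix :
    (M24Classes.Coset.tails.all fun t => okCode t &&
      M24Classes.Coset.base4.all fun b => Nat.beq (getW 5 t b) b && Nat.blt b 24) = true := by
  decide +kernel

/-- The involutions of the stabiliser. -/
theorem mem_Lz {c : ℕ} (hc : Good c) :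
    el c ∈ Lz ↔ act c 7 = 7 ∧ el c * el c = 1 := by
  rw [Lz, List.mem_toFinset, List.mem_map]
  constructor
  · rintro ⟨d, hd, he⟩
    obtain ⟨hg, hs, -, h2⟩ := sInvol_spec.1 d hd
    refine ⟨?_, he ▸ h2⟩
    have hg' : gperm d = gperm c := by
      have := congrArg Subtype.val he
      rwa [el_coe hg.2, el_coe hc.2] at this
    have himg : imgL d = imgL c := by
      simp only [imgL]
      exact List.map_congr_left fun i hi => by
        rw [getW_eq_of_gperm hg.1 hc.1 hg' (by norm_num : 23 < 24),
          getW_eq_of_gperm hg.1 hc.1 hg' (lt_of_lt_of_le (List.mem_range.mp hi) (by norm_num))]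
    rw [act, ← himg]
    exact hs
  rintro ⟨hs, h2⟩
  obtain ⟨h, hh, t, ht, hhM, hok, he⟩ := exists_rep hc hs
  have hg : Good (mulP 24 5 h t) := ⟨hok, he ▸ hc.2⟩
  have hel : el (mulP 24 5 h t) = el c := Subtype.ext (by rw [el_coe hg.2, el_coe hc.2, he])
  have hp : gperm (mulP 24 5 h t) * gperm (mulP 24 5 h t) = 1 := by
    rw [← hel] at h2
    have := congrArg Subtype.val h2
    rwa [Subgroup.coe_mul, el_coe hg.2, Subgroup.coe_one] at this
  have htl := List.all_eq_true.mp tails_fix t ht
  simp only [Bool.and_eq_true, List.all_eq_true, Nat.beq_eq, Nat.blt_eq] at htl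
  have htM := htl.1
  have hhk := okCode_of_inM24 hhM
  have e : ∀ x < 24, getW 5 h (getW 5 t x) = getW 5 (mulP 24 5 h t) x := fun x hx => by
    have e1 := idx_gperm hok (pt x)
    rw [gperm_mul hhk htM, Equiv.Perm.mul_apply, idx_gperm hhk, idx_gperm htM, idx_pt hx] at e1
    exact e1
  have hinv : ∀ x < 24, getW 5 (mulP 24 5 h t) (getW 5 (mulP 24 5 h t) x) = x := fun x hx => by
    have e1 := congrArg (fun σ : Equiv.Perm GolayPt => idx (σ (pt x))) hp
    simp only [Equiv.Perm.mul_apply, Equiv.Perm.one_apply, idx_gperm hok, idx_pt hx] at e1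
    exact e1
  have hq := List.all_eq_true.mp AzModelScan.sq_ok h hh
  simp only [sqScan, forceNat_eq, List.all_eq_true, Bool.or_eq_true, Bool.not_eq_true',
    ← Bool.not_eq_true, Nat.beq_eq] at hq
  rcases hq t ht with hn | hn | hn
  · refine absurd (fun b hb => ?_) hn
    obtain ⟨hb1, hb2⟩ := htl.2 b hb
    have hx : getW 5 h b = getW 5 (mulP 24 5 h t) b := by rw [← e b hb2, hb1]
    rw [hx, e _ (getW_lt hok hb2), hinv b hb2]
  · refine absurd ?_ hn
    rw [← canon_oneCode]
    refine canon_congr fun i hi => getW_eq_of_gperm (good_mulP hg hg).1 okCode_oneCode ?_ hi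
    rw [gperm_mul hok hok, hp, gperm_oneCode]
  have hmem := mem_of_find sInvol_len hn
  obtain ⟨hk, -, hkc, -⟩ := sInvol_spec.1 _ hmem
  exact ⟨_, hmem, (el_eq_of_canon hk hg hkc).trans hel⟩

/-! ### the weighted count -/

theorem foldr_eq_sum (l : List ℕ) : l.foldr (fun a c => a + c) 0 = l.sum := rfl

theorem wSum_eq {Ln Lk : List ℕ} (w : ℕ → ℕ → ℕ) {zl tl : List ℕ} (hz : zl.Nodup) (ht : tl.Nodup)
    (hb : ∀ b ∈ tl, b < 2048) :
    wSum Ln Lk w zl tl = ∑ q ∈ (zl.toFinset ×ˢ tl.toFinset).filter (fun q : ℕ × ℕ =>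
      combine Ln q.1 ^^^ combine Ln (combine Lk q.2) = 7), w q.1 q.2 := by
  rw [wSum, forceL_eq, forceNat_eq, Finset.sum_filter, Finset.sum_product, List.sum_toFinset _ hz,
    show List.foldr (· + ·) 0 = List.sum from rfl]
  refine congrArg List.sum (List.map_congr_left fun a _ => ?_)
  rw [forceNat_eq, List.sum_toFinset _ ht, List.map_map]
  set x := combine Ln a ^^^ 7 with hx
  have hiff : ∀ b, combine Ln a ^^^ combine Ln (combine Lk b) = 7 ↔ combine Ln (combine Lk b) = x :=
    fun b => by
      rw [hx]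
      constructor
      · intro h; rw [← h, ← Nat.xor_assoc, Nat.xor_self, Nat.zero_xor]
      · intro h; rw [h, ← Nat.xor_assoc, Nat.xor_self, Nat.zero_xor]
  have hsplit : ∀ b ∈ tl, (combine Ln (combine Lk b) * 2048 + b) / 2048 = combine Ln (combine Lk b) ∧
      (combine Ln (combine Lk b) * 2048 + b) % 2048 = b := fun b hbm => by
    have := hb b hbm
    omega
  have hterm : ∀ b ∈ tl, (bif Nat.beq ((combine Ln (combine Lk b) * 2048 + b) / 2048) x then
      w a ((combine Ln (combine Lk b) * 2048 + b) % 2048) else 0) =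
      if combine Ln a ^^^ combine Ln (combine Lk b) = 7 then w a b else 0 := fun b hbm => by
    rw [(hsplit b hbm).1, (hsplit b hbm).2, cond_eq_ite]
    exact if_congr ((Iff.of_eq Nat.beq_eq).trans (hiff b).symm) rfl rfl
  cases hK : (LabelCalc.maskOf _).testBit x with
  | true =>
    rw [cond_true, List.map_map]
    exact congrArg List.sum (List.map_congr_left fun b hbm => hterm b hbm)
  | false =>
    rw [cond_false]
    refine (List.sum_eq_zero fun y hy => ?_).symm
    obtain ⟨b, hbm, rfl⟩ := List.mem_map.mp hy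
    refine if_neg fun he => ?_
    rw [← Bool.not_eq_true, testBit_maskOf] at hK
    refine hK (List.mem_map.mpr ⟨b, hbm, ?_⟩)
    simp only [Function.comp_apply]
    rw [(hsplit b hbm).1]
    exact (hiff b).mp he

end AzModel

end Cfsg.Agent.Lib.J4Order
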