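import Cfsg.Agent.Lib.J4Order.AzModelWeight
import Cfsg.Agent.Lib.J4Order.AzModelList
import Cfsg.Agent.Lib.J4Order.AzBridge

/-!
# The weighted pairs over the hexad normaliser, counted in the stabiliser of the sextet of 7

`az_facts`: the hypotheses of `card_eq_of_az`.
-/

set_option autoImplicit false
set_option linter.unusedSectionVars false
set_option linter.constructorNameAsVariable false
set_option linter.style.haveILetI false
set_option maxRecDepth 100000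

namespace Cfsg.Agent.Lib.J4Order

open Cfsg Cfsg.Agent.Lib.Golay Cfsg.Agent.Lib.Computation Cfsg.Agent.Lib.J4Local Cfsg.Agent.Lib.J4Big
open Cfsg.Agent.Lib.FusionAlperin.MathieuCert (canon)
open AtCalc AzModelCalc AzModelData AzModel AzPairs

attribute [local irreducible] oneCode mulP canon sInvol sGens kerList powC normL bad mblocks

variable {G : Type*} [Group G] [Finite G] {z p : G}

namespace NModel

variable (M : NModel z)

theorem sigma_sq {a : ℕ} {σ : ↥M24} (h : M.ev a σ * M.ev a σ = 1) : σ * σ = 1 := by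
  refine M.meet ?_
  have e : M.κ (σ * σ) = (M.κ σ * M.ψ a * (M.κ σ)⁻¹)⁻¹ * (M.ψ a)⁻¹ * (M.ev a σ * M.ev a σ) := by
    rw [map_mul, ev]; group
  rw [e, h, mul_one]
  exact mul_mem (inv_mem ((Subgroup.mem_normalizer_iff.mp (M.mem_norm σ) _).mp (M.ψ_mem a)))
    (inv_mem (M.ψ_mem a))

variable (h7 : M.ψ 7 = z)
include h7

theorem seven_mem_zpowers_iff {q c m : ℕ} (hq : Good q) (hc : c < 2048) (hm : orderOf (el q) = m) :
    z ∈ Subgroup.zpowers (M.ev c (el q)) ↔ normV (imgL q) m c = 7 := by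
  have hN : normV (imgL q) m c < 2048 := AtNum.normV_lt (imgL_lt q) m hc
  have hwm : M.ev c (el q) ^ m = M.ψ (normV (imgL q) m c) := by
    rw [M.pow_ev hq hc, ← hm, pow_orderOf_eq_one, M.ev_one_eq, hm]
  refine ⟨fun h => ?_, fun h => ?_⟩
  · rw [← mem_powers_iff_mem_zpowers, Submonoid.mem_powers_iff] at h
    obtain ⟨k, hk⟩ := h
    replace hk := hk.trans h7.symm
    have hk' := hk
    rw [M.pow_ev hq hc, ← M.ev_one_eq] at hk'
    obtain ⟨j, rfl⟩ : m ∣ k := hm ▸ orderOf_dvd_of_pow_eq_one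
      (M.ev_inj (AtNum.normV_lt (imgL_lt q) k hc) (by norm_num) hk').2
    rw [pow_mul, hwm, pow_eq_pow_mod j (show M.ψ (normV (imgL q) m c) ^ 2 = 1 by
      rw [pow_two, M.ψ_sq])] at hk
    rcases Nat.mod_two_eq_zero_or_one j with e | e
    · rw [e, pow_zero, ← M.ψ_zero] at hk
      exact absurd (M.frame.inj 0 7 (by norm_num) (by norm_num) hk) (by norm_num)
    · rw [e, pow_one] at hk
      exact M.frame.inj _ _ hN (by norm_num) hk
  · have hmem := pow_mem (Subgroup.mem_zpowers (M.ev c (el q))) m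
    rwa [hwm, h, h7] at hmem

theorem ev_cz {a c : ℕ} (hc : Good c) (hs : act c 7 = 7) : M.ev a (el c) ∈ M.mm :=
  (M.ev_mem_mm h7).mpr ((M.st_iff h7 hc).mpr hs)

theorem stab_mulP {c d : ℕ} (hc : Good c) (hd : Good d) (hcs : act c 7 = 7) (hds : act d 7 = 7) :
    act (mulP 24 5 c d) 7 = 7 := by
  rw [← M.st_iff h7 (good_mulP hc hd), St, el_mul hc hd, map_mul]
  exact ((M.st_iff h7 hc).mpr hcs).mul_left ((M.st_iff h7 hd).mpr hds)

theorem stab_powC {q : ℕ} (hq : Good q) (hs : act q 7 = 7) (j : ℕ) : act (powC q j) 7 = 7 := by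
  rw [← M.st_iff h7 (good_powC hq j), St, el_powC hq, map_pow]
  exact ((M.st_iff h7 hq).mpr hs).pow_left j

theorem lz_iff {σ : ↥M24} : σ ∈ Lz ↔ M.St σ ∧ σ * σ = 1 := by
  obtain ⟨c, hc, rfl⟩ := encode_exists σ
  rw [mem_Lz hc, M.st_iff h7 hc]

theorem lz_conj {σ τ : ↥M24} (hσ : M.St σ) (hτ : τ ∈ Lz) : σ * τ * σ⁻¹ ∈ Lz := by
  obtain ⟨h1, h2⟩ := (M.lz_iff h7).mp hτ
  refine (M.lz_iff h7).mpr ⟨?_, by
    rw [show σ * τ * σ⁻¹ * (σ * τ * σ⁻¹) = σ * (τ * τ) * σ⁻¹ by group, h2]; group⟩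
  rw [St, map_mul, map_mul, map_inv]
  exact (Commute.mul_left hσ h1).mul_left hσ.inv_left

theorem lz_of_invol {a c : ℕ} (hc : Good c) (hs : act c 7 = 7)
    (h : M.ev a (el c) * M.ev a (el c) = 1) : el c ∈ Lz :=
  (mem_Lz hc).mpr ⟨hs, M.sigma_sq h⟩

variable (S : Setting z p) (hMV : M.V = vv S Cert2.normConfig.toBigConfig)
variable (hE : ∃ e ∈ Q z, IsConj z e ∧ e ≠ z)
include S hMV hE

theorem img_mm {x : G} (hx : x ∈ M.mm) : x ∈ cz z ∧ S.img x ∈ NU :=
  (mem_mm_iff S M hMV).mp hx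

/-- The powers of an element in coordinates. -/
theorem img_pow_iff {c q : ℕ} (hq : Good q) (hs : act q 7 = 7) (hc : c < 2048) (j : ℕ) :
    (S.img (M.ev c (el q)) ^ j = 1 ↔ inW (normV (imgL q) j c) = true ∧ fixC (powC q j) = true) ∧
      (S.img (M.ev c (el q)) ^ j ∈ Cert2.Uh ↔ fixC (powC q j) = true) := by
  have hN : normV (imgL q) j c < 2048 := AtNum.normV_lt (imgL_lt q) j hc
  have hz : M.ev c (el q) ∈ cz z := (M.ev_cz h7 hq hs).2
  rw [← S.img_pow hz, M.pow_ev hq hc, ← el_powC hq]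
  exact ⟨M.img_one_iff_coord h7 S autFacts Cert2.normConfig hMV hE hN (good_powC hq j)
      (M.stab_powC h7 hq hs j),
    M.img_Uh_iff h7 S autFacts Cert2.normConfig hMV hE hN (good_powC hq j) (M.stab_powC h7 hq hs j)⟩

/-- An involution over a block commutes with an element of order three. -/
theorem of_o8 {a s : ℕ} (ha : a < 2048) (hs : Good s) (hss : act s 7 = 7)
    (hu : M.ev a (el s) * M.ev a (el s) = 1) (hi : S.img (M.ev a (el s)) ∉ inn) {w : ℕ × ℕ}
    (hw : o8Test a s w = true) :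
    incid (S.img (M.ev a (el s))) (S.img (M.ev a (el s))) = 11520 * 21 := by
  simp only [o8Test, Bool.and_eq_true, Nat.blt_eq, Nat.beq_eq, Bool.not_eq_true',
    ← Bool.not_eq_true] at hw
  obtain ⟨⟨⟨⟨⟨⟨hw1, hstab⟩, hcom⟩, hd⟩, hcube⟩, hn3⟩, hne⟩ := hw
  obtain ⟨hg, hgs⟩ := stabOk_spec hstab
  set u := M.ev a (el s)
  set y := M.ev w.1 (el w.2)
  have hum := M.ev_cz h7 (a := a) hs hss
  have hym := M.ev_cz h7 (a := w.1) hg hgs
  have hel : el w.2 * el s = el s * el w.2 := by rw [← el_mul hg hs, hcom, el_mul hs hg]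
  have hyu : y * u = M.ψ (a ^^^ act s w.1 ^^^ (w.1 ^^^ act w.2 a)) * (u * y) := by
    have l1 := Nat.xor_lt_two_pow (n := 11) ha (act_lt s w.1)
    have l2 := Nat.xor_lt_two_pow (n := 11) hw1 (act_lt w.2 a)
    rw [M.ev_mul hw1 ha hg, M.ev_mul ha hw1 hs, ev, ev, ← mul_assoc,
      ← M.frame.mul _ _ (Nat.xor_lt_two_pow (n := 11) l1 l2) l1, hel]
    congr 2
    generalize a ^^^ act s w.1 = x
    rw [Nat.xor_comm x, Nat.xor_assoc, Nat.xor_self, Nat.xor_zero]
  have hcm : Commute (S.img y) (S.img u) := by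
    obtain ⟨hv1, hv2⟩ := M.psi_img h7 S autFacts Cert2.normConfig hMV hE hd
    rw [Commute, SemiconjBy, ← S.img_mul hym.2 hum.2, ← S.img_mul hum.2 hym.2, hyu,
      S.img_mul hv1 (mul_mem hum.2 hym.2), hv2, one_mul]
  have hone : ∀ {c : ℕ}, Good c → canon c = oneCode → act c 7 = 7 → fixC c = true := fun {c} hc h hs7 => by
    refine (M.img_Uh_iff h7 S autFacts Cert2.normConfig hMV hE (a := 0) (by norm_num) hc hs7).mp ?_
    rw [el_eq_one_of_canon hc h, ev, map_one, mul_one, M.ψ_zero, S.img_Q (one_mem _)]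
    exact one_mem _
  have h3 : orderOf (S.img y) = 3 := by
    haveI := Fact.mk Nat.prime_three
    refine orderOf_eq_prime ((M.img_pow_iff h7 S hMV hE hg hgs hw1 3).1.mpr ⟨hn3,
      hone (good_powC hg 3) hcube (M.stab_powC h7 hg hgs 3)⟩) fun h => hne ?_
    exact ((M.img_one_iff_coord h7 S autFacts Cert2.normConfig hMV hE hw1 hg hgs).mp h).symm
  exact AzWeight.twentyone (img_sq S hum.2 hu) hi hcm h3

/-- The witness of an involution normalising five conjugates. -/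
theorem of_eo {b t : ℕ} (hb : b < 2048) (ht : Good t) (hts : act t 7 = 7)
    (hv : M.ev b (el t) * M.ev b (el t) = 1) (hi : S.img (M.ev b (el t)) ∉ inn) {w : ℕ × ℕ}
    (hw : eoTest b t w = true) :
    incid (S.img (M.ev b (el t))) (S.img (M.ev b (el t))) = 11520 * 5 := by
  simp only [eoTest, forceNat_eq, Bool.and_eq_true, Nat.blt_eq, Nat.beq_eq, Bool.not_eq_true',
    ← Bool.not_eq_true] at hw
  obtain ⟨⟨⟨⟨⟨hw1, hstab⟩, hsq⟩, hinn⟩, hsqW⟩, ⟨⟨h8a, h8b⟩, h4⟩⟩ := hw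
  obtain ⟨hg, hgs⟩ := stabOk_spec hstab
  have h2 : el w.2 * el w.2 = 1 := by rw [← el_mul hg hg, el_eq_one_of_canon (good_mulP hg hg) hsq]
  have hem := M.ev_cz h7 (a := w.1) hg hgs
  have hvm := M.ev_cz h7 (a := b) ht hts
  have hεi := (M.img_inn_iff h7 S autFacts Cert2.normConfig hMV hE hw1 hg hgs h2).mpr hinn
  have hε : S.img (M.ev w.1 (el w.2)) * S.img (M.ev w.1 (el w.2)) = 1 := by
    rw [← S.img_mul hem.2 hem.2, M.ev_mul hw1 hw1 hg, h2, M.ev_one_eq]
    exact (M.psi_img h7 S autFacts Cert2.normConfig hMV hE hsqW).2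
  refine AzWeight.five_of_eight (img_sq S hvm.2 hv) hε hi hεi ?_
  have hq := good_mulP hg ht
  have hqs := M.stab_mulP h7 hg ht hgs hts
  have hv' : w.1 ^^^ act w.2 b < 2048 := Nat.xor_lt_two_pow (n := 11) hw1 (act_lt _ _)
  rw [← S.img_mul hem.2 hvm.2, M.ev_mul hw1 hb hg, ← el_mul hg ht]
  haveI := Fact.mk Nat.prime_two
  refine orderOf_eq_prime_pow (p := 2) (n := 2) (fun h => h4 ?_) ?_
  · have := (M.img_pow_iff h7 S hMV hE hq hqs hv' 4).1.mp (by simpa using h)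
    exact ⟨this.2, this.1⟩
  · have := (M.img_pow_iff h7 S hMV hE hq hqs hv' 8).1.mpr ⟨h8b, h8a⟩
    simpa using this

/-- The weight over two coded involutions. -/
theorem weight_key {a b s t m0 : ℕ} {ws : List (ℕ × ℕ)} (ha : a < 2048) (hb : b < 2048)
    (hs : Good s) (ht : Good t) (hss : act s 7 = 7) (hts : act t 7 = 7)
    (hs2 : el s * el s = 1) (ht2 : el t * el t = 1)
    (hu : M.ev a (el s) * M.ev a (el s) = 1) (hv : M.ev b (el t) * M.ev b (el t) = 1)
    (h0 : 0 < m0) (hfix : fixC (powC (mulP 24 5 s t) m0) = true)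
    (hmin : ∀ j < m0, j ≠ 0 → fixC (powC (mulP 24 5 s t) j) ≠ true)
    (h21 : S.img (M.ev a (el s)) ∉ inn →
      incid (S.img (M.ev a (el s))) (S.img (M.ev a (el s))) = 11520 * 21)
    (hne : wPair (normL (mulP 24 5 s t) m0) (imgL s) (fixC s) (fixC t) (innC s) (innC t) m0 t ws a b
      < bad) :
    wPair (normL (mulP 24 5 s t) m0) (imgL s) (fixC s) (fixC t) (innC s) (innC t) m0 t ws a b =
        wt (S.img (M.ev a (el s))) (S.img (M.ev b (el t))) ∧
      (S.img (M.ev a (el s)) ∈ inn → S.img (M.ev a (el s)) ≠ 1 → S.img (M.ev b (el t)) ∉ inn →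
        HasC (S.img (M.ev a (el s))) (S.img (M.ev b (el t)))) := by
  have hum := M.ev_cz h7 (a := a) hs hss
  have hvm := M.ev_cz h7 (a := b) ht hts
  set α := S.img (M.ev a (el s)) with hαdef
  set β := S.img (M.ev b (el t)) with hβdef
  set q := mulP 24 5 s t with hqdef
  have hq : Good q := good_mulP hs ht
  have hqs : act q 7 = 7 := M.stab_mulP h7 hs ht hss hts
  have hc : a ^^^ combine (imgL s) b < 2048 := Nat.xor_lt_two_pow (n := 11) ha (act_lt s b)
  have hαβ : α * β = S.img (M.ev (a ^^^ combine (imgL s) b) (el q)) := by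
    rw [hαdef, hβdef, ← S.img_mul hum.2 hvm.2, M.ev_mul ha hb hs, el_mul hs ht]
    rfl
  have hp := fun j => M.img_pow_iff h7 S hMV hE hq hqs hc j
  simp only [← hαβ] at hp
  have hdvd : ∀ j, (α * β) ^ j ∈ Cert2.Uh → m0 ∣ j := by
    intro j hj
    have h1 : (α * β) ^ (m0 * (j / m0)) ∈ Cert2.Uh := by
      rw [pow_mul]; exact pow_mem ((hp m0).2.mpr hfix) _
    have h2 : (α * β) ^ (j % m0) ∈ Cert2.Uh := by
      refine (Subgroup.mul_mem_cancel_right _ h1).mp ?_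
      rw [← pow_add, Nat.mod_add_div]; exact hj
    by_contra hn
    exact hmin _ (Nat.mod_lt j h0) (fun e => hn (Nat.dvd_of_mod_eq_zero e)) ((hp _).2.mp h2)
  unfold wPair at hne ⊢
  rw [AtNum.normL_eq _ _ hc] at hne ⊢
  cases hW : inW (normV (imgL q) m0 (a ^^^ combine (imgL s) b)) with
  | false =>
    rw [cond_false]
    have hmem := (hp m0).2.mpr hfix
    have hn : orderOf (α * β) = 2 * m0 := by
      refine (orderOf_eq_iff (by omega)).mpr ⟨?_, fun j hj h0' e => ?_⟩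
      · rw [mul_comm, pow_mul, pow_two]; exact Cert2.normConfig.exp_Uh _ hmem
      · obtain ⟨k, rfl⟩ := hdvd j (by rw [e]; exact one_mem _)
        have : k = 1 := by
          rcases k with _ | _ | k
          · omega
          · rfl
          · exfalso; nlinarith
        subst this
        rw [mul_one] at e
        have := ((hp m0).1.mp e).1
        rw [hW] at this
        exact absurd this (by simp)
    obtain ⟨h1, h2⟩ := AzWeight.wt_twice hn hmem
    exact ⟨h2.symm, fun _ _ _ => h1⟩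
  | true =>
    rw [hW, cond_true] at hne
    rw [cond_true]
    have hn : orderOf (α * β) = m0 := by
      refine (orderOf_eq_iff h0).mpr ⟨(hp m0).1.mpr ⟨hW, hfix⟩, fun j hj h0' e => ?_⟩
      exact hmin j hj (by omega) ((hp j).1.mp e).2
    refine AzWeight.wt_same (img_sq S hum.2 hu) (img_sq S hvm.2 hv) (M.img_mm h7 S hMV hE hum).2
      (M.img_mm h7 S hMV hE hvm).2 hn ?_
      (M.img_inn_iff h7 S autFacts Cert2.normConfig hMV hE ha hs hss hs2).symm
      (M.img_inn_iff h7 S autFacts Cert2.normConfig hMV hE hb ht hts ht2).symm ?_ h21 ?_ hne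
    · rw [Bool.and_eq_true, and_comm]
      exact (M.img_one_iff_coord h7 S autFacts Cert2.normConfig hMV hE ha hs hss).symm
    · rintro ⟨k, hk⟩ hmem
      exact hmin (m0 / 2) (by omega) (by omega) ((hp _).2.mp hmem)
    · intro he hi
      obtain ⟨w, -, hw⟩ := List.any_eq_true.mp he
      exact M.of_eo h7 S hMV hE hb ht hts hv hi hw

omit h7 hMV hE in
/-- The weighted pairs over two permutations. -/
noncomputable def pairW (σ τ : ↥M24) : ℕ := by
  classical
  exact ∑ q ∈ (Finset.range 2048 ×ˢ Finset.range 2048).filter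
    (fun q : ℕ × ℕ => GoodZ z (M.ev q.1 σ, M.ev q.2 τ)),
    wt (S.img (M.ev q.1 σ)) (S.img (M.ev q.2 τ))

omit h7 hMV hE in
/-- The weighted pairs over one permutation and all the others. -/
noncomputable def rowW (σ : ↥M24) : ℕ := ∑ τ ∈ Lz, M.pairW S σ τ

omit h7 hMV hE in
/-- The first elements have no image normalising five conjugates. -/
def FirstP (σ : ↥M24) : Prop :=
  ∀ a < 2048, IsConj z (M.ev a σ) → S.img (M.ev a σ) ∉ inn →
    incid (S.img (M.ev a σ)) (S.img (M.ev a σ)) = 11520 * 21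

omit h7 hMV hE in
/-- The mixed pairs have an inner central involution. -/
def MixP (σ τ : ↥M24) : Prop :=
  ∀ a < 2048, ∀ b < 2048, GoodZ z (M.ev a σ, M.ev b τ) → S.img (M.ev a σ) ∈ inn →
    S.img (M.ev a σ) ≠ 1 → S.img (M.ev b τ) ∉ inn → HasC (S.img (M.ev a σ)) (S.img (M.ev b τ))

theorem conj_facts {g : ℕ} (hg : Good g) (hgs : act g 7 = 7) {a : ℕ} (ha : a < 2048) {σ : ↥M24}
    (hσ : M.St σ) :
    M.ev (act g a) (el g * σ * (el g)⁻¹) = M.κ (el g) * M.ev a σ * (M.κ (el g))⁻¹ ∧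
      S.img (M.ev (act g a) (el g * σ * (el g)⁻¹)) =
        S.img (M.κ (el g)) * S.img (M.ev a σ) * (S.img (M.κ (el g)))⁻¹ := by
  have hk : M.κ (el g) ∈ cz z := mem_cz.mpr ((M.st_iff h7 hg).mpr hgs)
  refine ⟨(M.conj_ev hg ha).symm, ?_⟩
  rw [← M.conj_ev hg ha, img_conj S hk ((M.ev_mem_mm h7).mpr hσ).2]

theorem kappa_NU {g : ℕ} (hg : Good g) (hgs : act g 7 = 7) : S.img (M.κ (el g)) ∈ NU := by
  have := (M.img_mm h7 S hMV hE (M.ev_cz h7 (a := 0) hg hgs)).2
  rwa [ev, M.ψ_zero, one_mul] at this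

theorem wt_conj {c α β : AutM22} (hc : c ∈ NU) :
    wt (c * α * c⁻¹) (c * β * c⁻¹) = wt α β := by
  have h1 : ∀ {x}, c * x * c⁻¹ ∈ Cert2.Uh ↔ x ∈ Cert2.Uh := fun {x} =>
    (Subgroup.mem_normalizer_iff.mp hc x).symm
  have h2 : ∀ {x}, c * x * c⁻¹ ∈ NU ↔ x ∈ NU := fun {x} => by
    rw [Subgroup.mul_mem_cancel_right _ (inv_mem hc), Subgroup.mul_mem_cancel_left _ hc]
  classical
  simp only [wt, hasC_conj, cEl_conj, incid_conj, h1, h2]

theorem goodZ_conj {g : ℕ} (hg : Good g) (hgs : act g 7 = 7) {x y : G}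
    (h : GoodZ z (M.κ (el g) * x * (M.κ (el g))⁻¹, M.κ (el g) * y * (M.κ (el g))⁻¹)) :
    GoodZ z (x, y) := by
  have hk : (M.κ (el g))⁻¹ ∈ cz z := inv_mem (mem_cz.mpr ((M.st_iff h7 hg).mpr hgs))
  have := h.conj hk
  simpa [mul_assoc] using this

theorem pairW_conj {g : ℕ} (hg : Good g) (hgs : act g 7 = 7) {σ τ : ↥M24} (hσ : M.St σ)
    (hτ : M.St τ) :
    M.pairW S (el g * σ * (el g)⁻¹) (el g * τ * (el g)⁻¹) = M.pairW S σ τ := by
  classical
  have hk : M.κ (el g) ∈ cz z := mem_cz.mpr ((M.st_iff h7 hg).mpr hgs)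
  rw [pairW, pairW]
  refine (Finset.sum_bij (fun q _ => (act g q.1, act g q.2)) ?_ ?_ ?_ ?_).symm
  · rintro ⟨a, b⟩ h
    simp only [Finset.mem_filter, Finset.mem_product, Finset.mem_range] at h ⊢
    refine ⟨⟨act_lt g a, act_lt g b⟩, ?_⟩
    rw [(M.conj_facts h7 S hMV hE hg hgs h.1.1 hσ).1, (M.conj_facts h7 S hMV hE hg hgs h.1.2 hτ).1]
    exact h.2.conj hk
  · rintro ⟨a, b⟩ h ⟨a', b'⟩ h' he
    simp only [Finset.mem_filter, Finset.mem_product, Finset.mem_range] at h h'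
    simp only [Prod.mk.injEq] at he
    exact Prod.ext (M.act_inj hg h.1.1 h'.1.1 he.1) (M.act_inj hg h.1.2 h'.1.2 he.2)
  · rintro ⟨x, y⟩ h
    simp only [Finset.mem_filter, Finset.mem_product, Finset.mem_range] at h
    obtain ⟨a, ha, rfl⟩ := M.act_surj hg h.1.1
    obtain ⟨b, hb, rfl⟩ := M.act_surj hg h.1.2
    refine ⟨(a, b), ?_, rfl⟩
    simp only [Finset.mem_filter, Finset.mem_product, Finset.mem_range]
    have h2 := h.2
    rw [(M.conj_facts h7 S hMV hE hg hgs ha hσ).1, (M.conj_facts h7 S hMV hE hg hgs hb hτ).1] at h2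
    exact ⟨⟨ha, hb⟩, M.goodZ_conj h7 S hMV hE hg hgs h2⟩
  · rintro ⟨a, b⟩ h
    simp only [Finset.mem_filter, Finset.mem_product, Finset.mem_range] at h
    rw [(M.conj_facts h7 S hMV hE hg hgs h.1.1 hσ).2, (M.conj_facts h7 S hMV hE hg hgs h.1.2 hτ).2,
      M.wt_conj h7 S hMV hE (M.kappa_NU h7 S hMV hE hg hgs)]

theorem rowW_conj {g : ℕ} (hg : Good g) (hgs : act g 7 = 7) {σ : ↥M24} (hσ : M.St σ) :
    M.rowW S (el g * σ * (el g)⁻¹) = M.rowW S σ := by
  have hG : M.St (el g) := (M.st_iff h7 hg).mpr hgs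
  have hG' : M.St (el g)⁻¹ := by rw [St, map_inv]; exact hG.inv_left
  symm
  refine Finset.sum_bij (fun τ _ => el g * τ * (el g)⁻¹) (fun τ hτ => M.lz_conj h7 hG hτ)
    (fun a _ b _ e => mul_left_cancel (mul_right_cancel e)) ?_
    (fun τ hτ => (M.pairW_conj h7 S hMV hE hg hgs hσ ((M.lz_iff h7).mp hτ).1).symm)
  intro τ hτ
  refine ⟨(el g)⁻¹ * τ * el g, ?_, by group⟩
  have := M.lz_conj h7 hG' hτ
  rwa [inv_inv] at this

theorem firstP_conj {g : ℕ} (hg : Good g) (hgs : act g 7 = 7) {σ : ↥M24} (hσ : M.St σ)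
    (h : M.FirstP S σ) : M.FirstP S (el g * σ * (el g)⁻¹) := by
  intro x hx hc hi
  obtain ⟨a, ha, rfl⟩ := M.act_surj hg hx
  obtain ⟨e1, e2⟩ := M.conj_facts h7 S hMV hE hg hgs ha hσ
  rw [e1, isConj_conj] at hc
  rw [e2, mem_inn_conj] at hi
  rw [e2, incid_conj]
  exact h a ha hc hi

theorem mixP_conj {g : ℕ} (hg : Good g) (hgs : act g 7 = 7) {σ τ : ↥M24} (hσ : M.St σ)
    (hτ : M.St τ) (h : M.MixP S σ τ) :
    M.MixP S (el g * σ * (el g)⁻¹) (el g * τ * (el g)⁻¹) := by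
  intro x hx y hy hq hi h1 hj
  obtain ⟨a, ha, rfl⟩ := M.act_surj hg hx
  obtain ⟨b, hb, rfl⟩ := M.act_surj hg hy
  obtain ⟨e1, e2⟩ := M.conj_facts h7 S hMV hE hg hgs ha hσ
  obtain ⟨f1, f2⟩ := M.conj_facts h7 S hMV hE hg hgs hb hτ
  rw [e1, f1] at hq
  rw [e2, mem_inn_conj] at hi
  rw [f2, mem_inn_conj] at hj
  rw [e2, f2, hasC_conj]
  exact h a ha b hb (M.goodZ_conj h7 S hMV hE hg hgs hq) hi
    (fun e => h1 (by rw [e2, e]; group)) hj

variable (o : Bool) (hF : Fus M o)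
include hF

omit h7 S hMV hE hF in
theorem root_mem {b : MBlock} (hb : b ∈ mblocks) :
    b.code ∈ sInvol ∧ ∀ r ∈ b.roots, r.code ∈ sInvol :=
  ⟨cover_blocks.mem_iff.mp (List.mem_flatMap.mpr ⟨b, hb, List.mem_cons_self⟩),
    fun _ hr => (block_spec hb).2.1.mem_iff.mp (List.mem_flatMap.mpr ⟨_, hr, List.mem_cons_self⟩)⟩

theorem first_block {b : MBlock} (hb : b ∈ mblocks) : M.FirstP S (el b.code) := by
  intro a ha hc hi
  obtain ⟨hg, hs, -, h2⟩ := sInvol_spec.1 _ (root_mem hb).1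
  have hB := (block_spec hb).1
  simp only [blockS, Bool.and_eq_true, Bool.or_eq_true, List.all_eq_true, List.any_eq_true] at hB
  obtain ⟨⟨⟨hwit, ho8⟩, -⟩, -⟩ := hB
  obtain ⟨⟨hwit, -⟩, -⟩ := hwit
  rcases ho8 with h | h
  · exact absurd ((M.img_inn_iff h7 S autFacts Cert2.normConfig hMV hE ha hg hs h2).mpr h) hi
  obtain ⟨w, -, hw⟩ := h o (by cases o <;> simp) a (((M.lists_moved o hF hwit).2.memz a).mpr ⟨ha, hc⟩)
  exact M.of_o8 h7 S hMV hE ha hg hs (sq_of_isConj hF.ord_z hc) hi hw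

/-- The value of a root. -/
theorem root_value {b : MBlock} (hb : b ∈ mblocks) {r : MRoot} (hr : r ∈ b.roots) :
    M.pairW S (el b.code) (el r.code) = (bif o then r.valT else r.valF) ∧
      M.MixP S (el b.code) (el r.code) := by
  classical
  obtain ⟨hsm, hrm⟩ := root_mem hb
  obtain ⟨hs, hss, -, hs2⟩ := sInvol_spec.1 _ hsm
  obtain ⟨ht, hts, -, ht2⟩ := sInvol_spec.1 _ (hrm r hr)
  have hB := (block_spec hb).1
  simp only [blockS, Bool.and_eq_true] at hB
  have hwb := hB.1.1.1.1.1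
  have hR := (block_spec hb).2.2 r hr
  simp only [rootS, ordsOk, Bool.and_eq_true, Nat.beq_eq, Nat.blt_eq, List.all_eq_true, Bool.or_eq_true,
    Bool.not_eq_true', ← Bool.not_eq_true, List.mem_range] at hR
  obtain ⟨⟨⟨⟨⟨hwr, ⟨⟨hord, h0⟩, hfix⟩, hmin⟩, hbT⟩, hbF⟩, hvT⟩, hvF⟩ := hR
  have hval : rootVal o b r = (bif o then r.valT else r.valF) := by
    cases o with
    | true => exact hvT
    | false => exact hvF
  have hlt : rootVal o b r < bad := by
    rw [hval]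
    cases o with
    | true => exact hbT
    | false => exact hbF
  obtain ⟨-, hLs⟩ := M.lists_moved o hF hwb
  obtain ⟨-, hLt⟩ := M.lists_moved o hF hwr
  rw [rootVal, forceNat_eq, forceL_eq, forceL_eq, forceL_eq, forceL_eq, forceL_eq,
    wSum_eq _ hLs.nz hLt.nt fun x hx => ((hLt.memt x).mp hx).1] at hval hlt
  have hset : ((moveL b.wit (zStd o b.kind)).toFinset ×ˢ (moveL r.wit (tStd o r.kind)).toFinset).filter
      (fun q : ℕ × ℕ => combine (normL (mulP 24 5 b.code r.code) r.ord) q.1 ^^^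
        combine (normL (mulP 24 5 b.code r.code) r.ord) (combine (imgL b.code) q.2) = 7) =
      (Finset.range 2048 ×ˢ Finset.range 2048).filter
        (fun q : ℕ × ℕ => GoodZ z (M.ev q.1 (el b.code), M.ev q.2 (el r.code))) := by
    ext ⟨a, c⟩
    simp only [Finset.mem_filter, Finset.mem_product, List.mem_toFinset, Finset.mem_range, hLs.memz,
      hLt.memt]
    rw [GoodZ]
    have key : a < 2048 → c < 2048 →
        (z ∈ Subgroup.zpowers (M.ev a (el b.code) * M.ev c (el r.code)) ↔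
          combine (normL (mulP 24 5 b.code r.code) r.ord) a ^^^
            combine (normL (mulP 24 5 b.code r.code) r.ord) (combine (imgL b.code) c) = 7) :=
      fun ha hc => by
        have hc' : combine (imgL b.code) c < 2048 := act_lt b.code c
        rw [M.ev_mul ha hc hs, ← el_mul hs ht,
          M.seven_mem_zpowers_iff h7 (good_mulP hs ht) (Nat.xor_lt_two_pow (n := 11) ha (act_lt _ _))
            (orderOf_el (good_mulP hs ht) hord),
          AtNum.normV_xor, AtNum.normL_eq _ _ ha, AtNum.normL_eq _ _ hc']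
        rfl
    exact ⟨fun ⟨⟨⟨ha, h1⟩, hc, h2, h3⟩, h4⟩ => ⟨⟨ha, hc⟩, h1, h2, h3, (key ha hc).mpr h4⟩,
      fun ⟨⟨ha, hc⟩, h1, h2, h3, h4⟩ => ⟨⟨⟨ha, h1⟩, hc, h2, h3⟩, (key ha hc).mp h4⟩⟩
  rw [hset] at hval hlt
  have hkey : ∀ q ∈ (Finset.range 2048 ×ˢ Finset.range 2048).filter
      (fun q : ℕ × ℕ => GoodZ z (M.ev q.1 (el b.code), M.ev q.2 (el r.code))),
      wPair (normL (mulP 24 5 b.code r.code) r.ord0) (imgL b.code) (fixC b.code) (fixC r.code)
          (innC b.code) (innC r.code) r.ord0 r.code r.eo q.1 q.2 =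
        wt (S.img (M.ev q.1 (el b.code))) (S.img (M.ev q.2 (el r.code))) ∧
      (S.img (M.ev q.1 (el b.code)) ∈ inn → S.img (M.ev q.1 (el b.code)) ≠ 1 →
        S.img (M.ev q.2 (el r.code)) ∉ inn →
        HasC (S.img (M.ev q.1 (el b.code))) (S.img (M.ev q.2 (el r.code)))) := by
    intro q hq
    have hle := lt_of_le_of_lt (Finset.single_le_sum (f := fun q : ℕ × ℕ =>
      wPair (normL (mulP 24 5 b.code r.code) r.ord0) (imgL b.code) (fixC b.code) (fixC r.code)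
          (innC b.code) (innC r.code) r.ord0 r.code r.eo q.1 q.2) (fun _ _ => Nat.zero_le _) hq) hlt
    simp only [Finset.mem_filter, Finset.mem_product, Finset.mem_range] at hq
    obtain ⟨⟨ha, hc⟩, hG⟩ := hq
    refine M.weight_key h7 S hMV hE ha hc hs ht hss hts hs2 ht2 (sq_of_isConj hF.ord_z hG.1)
      (by rw [← pow_two, ← hG.2.1, pow_orderOf_eq_one]) h0 hfix
      (fun j hj hj0 => (hmin j hj).resolve_left hj0) ?_ hle
    exact M.first_block h7 S hMV hE o hF hb q.1 ha hG.1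
  refine ⟨?_, fun a ha c hc hG => (hkey (a, c) (by
    simp only [Finset.mem_filter, Finset.mem_product, Finset.mem_range]
    exact ⟨⟨ha, hc⟩, hG⟩)).2⟩
  rw [pairW, ← hval]
  exact Finset.sum_congr rfl fun q hq => (hkey q hq).1.symm

theorem block_value {b : MBlock} (hb : b ∈ mblocks) :
    M.rowW S (el b.code) = (bif o then b.subT else b.subF) ∧
      ∀ τ ∈ Lz, M.MixP S (el b.code) τ := by
  obtain ⟨hsm, hrm⟩ := root_mem hb
  obtain ⟨hs, hss, -, -⟩ := sInvol_spec.1 _ hsm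
  have hB := (block_spec hb).1
  simp only [blockS, Bool.and_eq_true, Nat.beq_eq] at hB
  obtain ⟨⟨⟨⟨⟨-, hgen⟩, hcent⟩, -⟩, hsT⟩, hsF⟩ := hB
  have hperm := (block_spec hb).2.1
  have hfix : ∀ g ∈ b.cgens, el g.1 * el b.code * (el g.1)⁻¹ = el b.code := fun g hg =>
    centS_spec hs (fun g hg => (gensS_spec hgen hg).1) hcent hg
  have hst := (M.st_iff h7 hs).mpr hss
  have htour : ∀ r ∈ b.roots, ∀ y ∈ tour b.cgens r.code r.prog, Good y ∧
      (M.St (el y) ∧ M.pairW S (el b.code) (el y) = M.pairW S (el b.code) (el r.code) ∧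
        M.MixP S (el b.code) (el y)) := fun r hr => by
    obtain ⟨ht, hts, -, -⟩ := sInvol_spec.1 _ (hrm r hr)
    refine tour_prop hgen (fun τ => M.St τ ∧
      M.pairW S (el b.code) τ = M.pairW S (el b.code) (el r.code) ∧ M.MixP S (el b.code) τ)
      (fun g hg τ h => ?_) ht
      ⟨(M.st_iff h7 ht).mpr hts, rfl, (M.root_value h7 S hMV hE o hF hb hr).2⟩ r.prog
    obtain ⟨g1, s1, -, -⟩ := gensS_spec hgen hg
    have hG := (M.st_iff h7 g1).mpr s1
    have e1 := M.pairW_conj h7 S hMV hE g1 s1 hst h.1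
    have e2 := M.mixP_conj h7 S hMV hE g1 s1 hst h.1 h.2.2
    rw [hfix g hg] at e1 e2
    refine ⟨?_, e1.trans h.2.1, e2⟩
    rw [St, map_mul, map_mul, map_inv]
    exact (Commute.mul_left hG h.1).mul_left hG.inv_left
  refine ⟨?_, fun τ hτ => ?_⟩
  · rw [rowW, sum_Lz, ← (hperm.map _).sum_eq, toursS,
      sum_flat _ _ (fun r : MRoot => (tour b.cgens r.code r.prog).length *
        (bif o then r.valT else r.valF)) b.roots fun r hr => ?_]
    · cases o with
      | true => exact hsT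
      | false => exact hsF
    rw [List.map_congr_left fun y hy => (htour r hr y hy).2.2.1, List.map_const', List.sum_replicate,
      smul_eq_mul, (M.root_value h7 S hMV hE o hF hb hr).1]
  · rw [Lz, List.mem_toFinset, List.mem_map] at hτ
    obtain ⟨c, hc, rfl⟩ := hτ
    obtain ⟨r, hr, hcr⟩ := List.mem_flatMap.mp (show c ∈ toursS b from hperm.mem_iff.mpr hc)
    exact (htour r hr c hcr).2.2.2

theorem all_first_mix {σ : ↥M24} (hσ : σ ∈ Lz) :
    M.FirstP S σ ∧ ∀ τ ∈ Lz, M.MixP S σ τ := by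
  rw [Lz, List.mem_toFinset, List.mem_map] at hσ
  obtain ⟨c, hc, rfl⟩ := hσ
  obtain ⟨b, hb, hcb⟩ := List.mem_flatMap.mp (cover_blocks.mem_iff.mpr hc)
  have hgen : gensS sGens = true := by
    have h := AzModelChecks.total_ok
    simp only [totalS, Bool.and_eq_true] at h
    exact h.1.1
  obtain ⟨hs, hss, -, -⟩ := sInvol_spec.1 _ (root_mem hb).1
  refine (tour_prop hgen (fun σ => M.St σ ∧ M.FirstP S σ ∧ ∀ τ ∈ Lz, M.MixP S σ τ)
    (fun g hg x h => ?_) hs ⟨(M.st_iff h7 hs).mpr hss, M.first_block h7 S hMV hE o hF hb,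
      (M.block_value h7 S hMV hE o hF hb).2⟩ b.prog c hcb).2.2
  obtain ⟨g1, s1, -, -⟩ := gensS_spec hgen hg
  have hG := (M.st_iff h7 g1).mpr s1
  refine ⟨?_, M.firstP_conj h7 S hMV hE g1 s1 h.1 h.2.1, fun τ hτ => ?_⟩
  · rw [St, map_mul, map_mul, map_inv]
    exact (Commute.mul_left hG h.1).mul_left hG.inv_left
  · have hG' : M.St (el g.1)⁻¹ := by rw [St, map_inv]; exact hG.inv_left
    have hτ' := M.lz_conj h7 hG' hτ
    rw [inv_inv] at hτ'
    have := M.mixP_conj h7 S hMV hE g1 s1 h.1 ((M.lz_iff h7).mp hτ').1 (h.2.2 _ hτ')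
    rwa [show el g.1 * ((el g.1)⁻¹ * τ * el g.1) * (el g.1)⁻¹ = τ by group] at this

theorem total_value : ∑ σ ∈ Lz, M.rowW S σ = 34206514673760 := by
  have ht := AzModelChecks.total_ok
  simp only [totalS, Bool.and_eq_true, Nat.beq_eq] at ht
  obtain ⟨⟨hgen, hT⟩, hF'⟩ := ht
  rw [sum_Lz, ← (cover_blocks.map _).sum_eq,
    sum_flat _ _ (fun b : MBlock => (tour sGens b.code b.prog).length *
      (bif o then b.subT else b.subF)) mblocks fun b hb => ?_]
  · cases o with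
    | true => exact hT
    | false => exact hF'
  obtain ⟨hs, hss, -, -⟩ := sInvol_spec.1 _ (root_mem hb).1
  rw [List.map_congr_left fun y hy => ((tour_prop hgen
    (fun σ => M.St σ ∧ M.rowW S σ = M.rowW S (el b.code)) (fun g hg x h => ?_) hs
    ⟨(M.st_iff h7 hs).mpr hss, rfl⟩ b.prog y hy).2).2, List.map_const', List.sum_replicate,
    smul_eq_mul, (M.block_value h7 S hMV hE o hF hb).1]
  obtain ⟨g1, s1, -, -⟩ := gensS_spec hgen hg
  have hG := (M.st_iff h7 g1).mpr s1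
  refine ⟨?_, (M.rowW_conj h7 S hMV hE g1 s1 h.1).trans h.2⟩
  rw [St, map_mul, map_mul, map_inv]
  exact (Commute.mul_left hG h.1).mul_left hG.inv_left

omit S hMV hE hF in
theorem exists_coord {u : G} (hu : u ∈ M.mm) (h2 : u * u = 1) :
    ∃ a < 2048, ∃ σ ∈ Lz, u = M.ev a σ := by
  obtain ⟨a, ha, c, hc, hs, rfl⟩ := M.exists_mm h7 hu
  exact ⟨a, ha, _, M.lz_of_invol h7 hc hs h2, rfl⟩

open Classical in
/-- The three facts. -/
theorem az_facts [Fintype G] :
    (∑ q ∈ Finset.univ.filter (fun q : G × G =>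
        q.1 ∈ Subgroup.normalizer (M.V : Set G) ⊓ cz z ∧
        q.2 ∈ Subgroup.normalizer (M.V : Set G) ⊓ cz z ∧ GoodZ z q),
      wt (S.img q.1) (S.img q.2)) = 34206514673760 ∧
    (∀ u ∈ Subgroup.normalizer (M.V : Set G) ⊓ cz z, IsConj z u → S.img u ∉ inn →
      incid (S.img u) (S.img u) = 11520 * 21) ∧
    (∀ q : G × G, q.1 ∈ Subgroup.normalizer (M.V : Set G) ⊓ cz z →
      q.2 ∈ Subgroup.normalizer (M.V : Set G) ⊓ cz z → GoodZ z q → S.img q.1 ∈ inn →
      S.img q.1 ≠ 1 → S.img q.2 ∉ inn → HasC (S.img q.1) (S.img q.2)) := by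
  refine ⟨?_, ?_, ?_⟩
  · rw [← M.total_value h7 S hMV hE o hF]
    simp only [rowW, pairW]
    rw [← Finset.sum_product', Finset.sum_sigma']
    symm
    refine Finset.sum_bij (fun x _ => (M.ev x.2.1 x.1.1, M.ev x.2.2 x.1.2)) ?_ ?_ ?_ (fun _ _ => rfl)
    · rintro ⟨⟨σ, τ⟩, a, b⟩ h
      simp only [Finset.mem_sigma, Finset.mem_product, Finset.mem_filter, Finset.mem_range] at h
      obtain ⟨⟨hσ, hτ⟩, -, hG⟩ := h
      simp only [Finset.mem_filter, Finset.mem_univ, true_and]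
      exact ⟨(M.ev_mem_mm h7).mpr ((M.lz_iff h7).mp hσ).1,
        (M.ev_mem_mm h7).mpr ((M.lz_iff h7).mp hτ).1, hG⟩
    · rintro ⟨⟨σ, τ⟩, a, b⟩ h ⟨⟨σ', τ'⟩, a', b'⟩ h' e
      simp only [Finset.mem_sigma, Finset.mem_product, Finset.mem_filter, Finset.mem_range] at h h'
      simp only [Prod.mk.injEq] at e
      obtain ⟨rfl, rfl⟩ := M.ev_inj h.2.1.1 h'.2.1.1 e.1
      obtain ⟨rfl, rfl⟩ := M.ev_inj h.2.1.2 h'.2.1.2 e.2
      rfl
    · rintro ⟨u, v⟩ h
      simp only [Finset.mem_filter, Finset.mem_univ, true_and] at h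
      obtain ⟨hu, hv, hG⟩ := h
      obtain ⟨a, ha, σ, hσ, rfl⟩ := M.exists_coord h7 hu (sq_of_isConj hF.ord_z hG.1)
      obtain ⟨b, hb, τ, hτ, rfl⟩ := M.exists_coord h7 hv (by rw [← pow_two, ← hG.2.1, pow_orderOf_eq_one])
      refine ⟨⟨(σ, τ), (a, b)⟩, ?_, rfl⟩
      simp only [Finset.mem_sigma, Finset.mem_product, Finset.mem_filter, Finset.mem_range]
      exact ⟨⟨hσ, hτ⟩, ⟨ha, hb⟩, hG⟩
  · intro u hu hc hi
    obtain ⟨a, ha, σ, hσ, rfl⟩ := M.exists_coord h7 hu (sq_of_isConj hF.ord_z hc)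
    exact (M.all_first_mix h7 S hMV hE o hF hσ).1 a ha hc hi
  · rintro ⟨u, v⟩ hu hv hG
    obtain ⟨a, ha, σ, hσ, rfl⟩ := M.exists_coord h7 hu (sq_of_isConj hF.ord_z hG.1)
    obtain ⟨b, hb, τ, hτ, rfl⟩ := M.exists_coord h7 hv (by rw [← pow_two, ← hG.2.1, pow_orderOf_eq_one])
    exact (M.all_first_mix h7 S hMV hE o hF hσ).2 τ hτ a ha b hb hG

end NModel

end Cfsg.Agent.Lib.J4Order
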