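import Cfsg.Agent.Lib.J4Order.AtTypes
import Cfsg.Agent.Lib.M24Classes.Classes

/-!
# The involutions of the normaliser of the `2^11` up to conjugacy
-/

set_option autoImplicit false
set_option linter.unusedSectionVars false
set_option linter.constructorNameAsVariable false

namespace Cfsg.Agent.Lib.J4Order

open Cfsg Cfsg.Agent.Lib.Golay Cfsg.Agent.Lib.Computation
open AtCalc AtData

variable {G : Type*} [Group G] [Finite G] {z : G}

namespace NModel

variable (M : NModel z)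

/-- The vectors which are not sums of two points are conjugates of `z`. -/
theorem isConj_psi {a : ℕ} (ha : a < 2048) (h0 : a ≠ 0)
    (hd : J4Big.Cocode.dGood.testBit a = false) : IsConj z (M.ψ a) := by
  by_contra hc
  have := (M.frame.mem_D a ha).mp ⟨M.ψ_mem a, fun e => h0 ((M.psi_eq_one ha).mp e), hc⟩
  rw [hd] at this
  exact Bool.false_ne_true this

/-- The four standard involutions outside the `2^11`. -/
def IsStd (x : G) : Prop :=
  x = M.ev 0 (el stdA) ∨ x = M.ev outA (el stdA) ∨ x = M.ev 0 (el stdB) ∨ x = M.ev outB (el stdB)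

/-- A fixed vector over a standard involution is a translate of one of the two standard ones. -/
theorem family_conj {c y : ℕ} {bs gs : List ℕ} {rs : List (ℕ × ℕ)}
    (hok : stdOk c y bs gs rs (comList c bs) (restList c y gs rs) = true) (hne : el c ≠ 1) {a : ℕ}
    (ha : a < 2048) (h : M.ev a (el c) * M.ev a (el c) = 1) :
    ∃ m ∈ Subgroup.normalizer (M.V : Set G),
      M.ev a (el c) = m * M.ev 0 (el c) * m⁻¹ ∨ M.ev a (el c) = m * M.ev y (el c) * m⁻¹ := by
  obtain ⟨-, -, -, hcov⟩ := M.std_family hok hne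
  simp only [stdOk, Bool.and_eq_true, List.all_eq_true, Nat.beq_eq, Nat.blt_eq] at hok
  obtain ⟨⟨⟨⟨⟨⟨⟨hin, hcc⟩, hy⟩, hyf⟩, hgs⟩, hbs⟩, hrs⟩, -⟩ := hok
  have hc : Good c := good_of_inM24 hin
  rcases hcov a ha h with hmem | hmem
  · simp only [comList, List.mem_map] at hmem
    obtain ⟨b, hb, rfl⟩ := hmem
    refine ⟨M.ψ b, Subgroup.le_normalizer (M.ψ_mem b), Or.inl ?_⟩
    rw [M.conj_ev_psi zero_lt_2048 (hbs b hb) hc, Nat.xor_zero]
  · simp only [restList, List.mem_map] at hmem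
    obtain ⟨⟨j, b⟩, hq, rfl⟩ := hmem
    obtain ⟨hj, hb'⟩ := hrs _ hq
    simp only at hj hb' ⊢
    rw [List.getD_eq_getElem _ _ hj]
    obtain ⟨hgin, hgc⟩ := hgs _ (List.getElem_mem hj)
    have hg : Good gs[j] := good_of_inM24 hgin
    have hcom : el gs[j] * el c * (el gs[j])⁻¹ = el c := by
      rw [← el_mul hg hc, hgc, el_mul hc hg, mul_inv_cancel_right]
    have e2 := M.conj_ev (σ := el c) hg hy
    rw [hcom] at e2
    refine ⟨M.ψ b * M.κ (el gs[j]), mul_mem (Subgroup.le_normalizer (M.ψ_mem b)) (M.mem_norm _),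
      Or.inr ?_⟩
    rw [show M.ψ b * M.κ (el gs[j]) * M.ev y (el c) * (M.ψ b * M.κ (el gs[j]))⁻¹ =
        M.ψ b * (M.κ (el gs[j]) * M.ev y (el c) * (M.κ (el gs[j]))⁻¹) * (M.ψ b)⁻¹ by group, e2,
      M.conj_ev_psi (act_lt _ y) hb' hc, Nat.xor_comm b (act gs[j] y)]

/-- An involution of the normaliser outside the `2^11` is conjugate in the normaliser to a standard one. -/
theorem invol_cases {n : G} (hn : n ∈ Subgroup.normalizer (M.V : Set G)) (h2 : n * n = 1)
    (hV : n ∉ M.V) :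
    ∃ m ∈ Subgroup.normalizer (M.V : Set G), ∃ x, M.IsStd x ∧ n = m * x * m⁻¹ := by
  obtain ⟨a, ha, σ, rfl⟩ := M.exists_ev hn
  have hσ1 : σ ≠ 1 := fun e => hV (by rw [e, M.ev_one_eq]; exact M.ψ_mem a)
  have hσ2 : σ * σ = 1 := by
    refine M.meet ?_
    have e : M.κ (σ * σ) = (M.κ σ * M.ψ a * (M.κ σ)⁻¹)⁻¹ * (M.ψ a)⁻¹ * (M.ev a σ * M.ev a σ) := by
      rw [map_mul, ev]; group
    rw [e, h2, mul_one]
    exact mul_mem (inv_mem ((Subgroup.mem_normalizer_iff.mp (M.mem_norm σ) _).mp (M.ψ_mem a)))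
      (inv_mem (M.ψ_mem a))
  obtain ⟨m, hm, hcase⟩ := M24Classes.Classes.invol_conj σ.2
    (fun e => hσ1 (Subtype.ext e)) (congrArg Subtype.val hσ2)
  have key : ∀ {c y : ℕ} {bs gs : List ℕ} {rs : List (ℕ × ℕ)},
      stdOk c y bs gs rs (comList c bs) (restList c y gs rs) = true → el c ≠ 1 →
      (σ : Equiv.Perm GolayPt) = m * gperm c * m⁻¹ →
      M.IsStd (M.ev 0 (el c)) → M.IsStd (M.ev y (el c)) →
      ∃ m' ∈ Subgroup.normalizer (M.V : Set G), ∃ x, M.IsStd x ∧ M.ev a σ = m' * x * m'⁻¹ := by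
    intro c y bs gs rs hok hne hs hx hy
    have hc : Good c := by
      simp only [stdOk, Bool.and_eq_true] at hok
      exact good_of_inM24 hok.1.1.1.1.1.1.1
    let μ : ↥M24 := ⟨m, hm⟩
    have hs' : σ = μ * el c * μ⁻¹ := Subtype.ext (by
      simp only [Subgroup.coe_mul, Subgroup.coe_inv, el_coe hc.2, μ]
      exact hs)
    obtain ⟨a', ha', hconj⟩ : ∃ a' < 2048, (M.κ μ)⁻¹ * M.ψ a * M.κ μ = M.ψ a' := by
      have hmem : (M.κ μ)⁻¹ * M.ψ a * M.κ μ ∈ M.V := by
        have := (Subgroup.mem_normalizer_iff.mp (inv_mem (M.mem_norm μ)) _).mp (M.ψ_mem a)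
        rwa [inv_inv] at this
      obtain ⟨a', ha', e⟩ := M.frame.surj _ hmem
      exact ⟨a', ha', e.symm⟩
    have hev : M.ev a σ = M.κ μ * M.ev a' (el c) * (M.κ μ)⁻¹ := by
      simp only [ev, ← hconj, hs', map_mul, map_inv]
      group
    have hsq : M.ev a' (el c) * M.ev a' (el c) = 1 := by
      rw [hev] at h2
      calc M.ev a' (el c) * M.ev a' (el c) =
          (M.κ μ)⁻¹ * (M.κ μ * M.ev a' (el c) * (M.κ μ)⁻¹ * (M.κ μ * M.ev a' (el c) * (M.κ μ)⁻¹)) * M.κ μ := by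
            group
        _ = 1 := by rw [h2]; group
    obtain ⟨m', hm', h⟩ := M.family_conj hok hne ha' hsq
    refine ⟨M.κ μ * m', mul_mem (M.mem_norm μ) hm', ?_⟩
    rcases h with h | h
    · exact ⟨_, hx, by rw [hev, h]; group⟩
    · exact ⟨_, hy, by rw [hev, h]; group⟩
  have ht := AtChecks.total_ok
  simp only [totalOk, Bool.and_eq_true, Nat.beq_eq] at ht
  rcases hcase with h | h
  · refine key AtChecks.std_A (el_ne_one (good_std (k := 1) (by norm_num)) ht.2) h (Or.inl rfl)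
      (Or.inr (Or.inl rfl))
  · refine key AtChecks.std_B (el_ne_one (good_std (k := 2) (by norm_num)) ht.1.2) h
      (Or.inr (Or.inr (Or.inl rfl))) (Or.inr (Or.inr (Or.inr rfl)))

end NModel

end Cfsg.Agent.Lib.J4Order
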