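import Cfsg.Agent.Lib.J4Big.RowS5568

/-!
# The 1387 conjugates of `z` in the largest normal 2-subgroup of its centraliser
-/

set_option autoImplicit false
set_option linter.unusedSectionVars false

namespace Cfsg.Agent.Lib.J4Order

open Cfsg Cfsg.Agent.Lib.LargeExtraspecial.Basic Cfsg.Agent.Lib.J4Local Cfsg.Agent.Lib.J4Big

variable {G : Type*} [Group G] [Finite G] {z p : G} {T₀ Uh U0 : Subgroup AutM22}

theorem ncard_conj_core (S : Setting z p) (F : AutFacts) (B : NormConfig T₀ Uh U0)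
    (Me : MeetConfig Uh U0) (hE : ∃ e ∈ Q z, IsConj z e ∧ e ≠ z) :
    {e | e ∈ Q z ∧ IsConj z e}.ncard = 1387 := by
  classical
  have := Fintype.ofFinite G
  have := Fintype.ofFinite (Subgroup AutM22)
  set D : Set (Subgroup AutM22) := {U' | ∃ g : AutM22, U' = U0.map (MulAut.conj g).toMonoidHom}
  set X := {e | e ∈ Q z ∧ IsConj z e} \ {z} with hX
  have hmaps : ∀ e ∈ X.toFinset, uE S e ∈ D.toFinset := by
    intro e he
    rw [Set.mem_toFinset] at he ⊢
    obtain ⟨⟨heQ, hc⟩, hne⟩ := he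
    obtain ⟨r, T⟩ := S.exists_setting hc
    exact (uE_facts S F B T heQ hne).2.2
  have hz : z ∈ {e | e ∈ Q z ∧ IsConj z e} := ⟨S.es.mem, IsConj.refl z⟩
  have h6 : X.ncard = 1386 := by
    rw [Set.ncard_eq_toFinset_card', Finset.card_eq_sum_card_fiberwise hmaps,
      Finset.sum_const_nat (m := 6), ← Set.ncard_eq_toFinset_card', Me.duads]
    intro U' hU'
    rw [Set.mem_toFinset] at hU'
    obtain ⟨g, hg⟩ := hU'
    have hx2 : IsExp2 U' := hg ▸ isExp2_map B.exp_U0 g
    obtain ⟨h4, hl⟩ := line_of_duad S F B hE hx2 ⟨g, hg⟩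
    have hP : (X.toFinset.filter fun e => uE S e = U') =
        ((up z (wFix S U' hx2) : Set G) \ {1, z}).toFinset := by
      ext e
      simp only [Finset.mem_filter, Set.mem_toFinset, Set.mem_sdiff, SetLike.mem_coe,
        Set.mem_insert_iff, Set.mem_singleton_iff, not_or]
      constructor
      · rintro ⟨⟨⟨heQ, hc⟩, hne⟩, rfl⟩
        obtain ⟨r, T⟩ := S.exists_setting hc
        exact ⟨mem_up.mpr ⟨heQ, mk_mem_uE S F B T heQ hne hx2⟩, T.z_ne_one, hne⟩
      · rintro ⟨he, h1, hne⟩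
        obtain ⟨heQ, hm⟩ := mem_up.mp he
        obtain ⟨hc, hu⟩ := hl e heQ h1 hne hm
        exact ⟨⟨⟨heQ, hc⟩, hne⟩, hu⟩
    have hsub : ({1, z} : Set G) ⊆ (up z (wFix S U' hx2) : Set G) := by
      rintro x (rfl | rfl)
      exacts [one_mem _, z_mem_up S _]
    rw [hP, ← Set.ncard_eq_toFinset_card', Set.ncard_sdiff hsub, ← Nat.card_coe_set_eq,
      SetLike.coe_sort_coe, card_up S, h4, Set.ncard_pair S.z_ne_one.symm]
  rw [← Set.ncard_sdiff_singleton_add_one hz, h6]

end Cfsg.Agent.Lib.J4Order
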