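import Cfsg.Agent.Lib.J4Order.CoreShape
import Cfsg.Agent.Lib.J4Order.CoreCount

/-!
# The labels of the four classes outside the `2^11`

The 1387 conjugates of `z` in the largest normal 2-subgroup of its centraliser force the first class
to be that of `z`, the second the other one, and exactly one of the last two to be that of `z`.
-/

set_option autoImplicit false
set_option linter.unusedSectionVars false
set_option linter.constructorNameAsVariable false
set_option linter.style.haveILetI false

namespace Cfsg.Agent.Lib.J4Order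

open Cfsg Cfsg.Agent.Lib.Golay Cfsg.Agent.Lib.Computation Cfsg.Agent.Lib.J4Local Cfsg.Agent.Lib.J4Big
open Cfsg.Agent.Lib.J4Big.Cocode (dGood noRep_spec)
open Cfsg.Agent.Lib.FusionAlperin.MathieuCert (sortedLT_of_zip eq_of_gperm)
open LabelCalc LabelData AtCalc

attribute [local irreducible] coreW imageRows

theorem testBit_maskOf (a : ℕ) : ∀ (l : List ℕ), (maskOf l).testBit a = true ↔ a ∈ l
  | [] => by simp [maskOf]
  | b :: l => by
    have ih := testBit_maskOf a l
    simp only [maskOf] at ih ⊢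
    simp only [List.foldr_cons, Nat.testBit_or, Bool.or_eq_true, ih, Nat.testBit_two_pow,
      decide_eq_true_eq, List.mem_cons]
    exact ⟨fun h => h.elim Or.inr fun e => Or.inl e.symm, fun h => h.elim (fun e => Or.inr e.symm) Or.inl⟩

theorem countIn_eq (l : List ℕ) : countIn l = (coreW.filter fun a => decide (a ∈ l)).length := by
  rw [countIn, forceNat_eq]
  refine congrArg List.length (List.filter_congr fun a _ => ?_)
  rw [Bool.eq_iff_iff, testBit_maskOf, decide_eq_true_iff]

theorem length_filter_or {α : Type*} (f g : α → Bool) : ∀ (l : List α),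
    (∀ a ∈ l, ¬ (f a = true ∧ g a = true)) →
      (l.filter fun a => f a || g a).length = (l.filter f).length + (l.filter g).length
  | [], _ => rfl
  | a :: l, h => by
    have ih := length_filter_or f g l fun b hb => h b (List.mem_cons_of_mem _ hb)
    have h0 := h a List.mem_cons_self
    cases hf : f a <;> cases hg : g a <;> simp_all <;> omega

/-- A sum split by kinds. -/
theorem sum_by_kind {α : Type*} (kd : α → ℕ) (nx ny : α → ℕ) (bx byy : ℕ → ℕ) : ∀ (l : List α),
    (∀ r ∈ l, kd r < 3) →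
    (l.map fun r => bif Nat.beq (kd r) 0 then 91 else bx (kd r) * nx r + byy (kd r) * ny r).sum =
      91 * (l.filter fun r => Nat.beq (kd r) 0).length +
      (bx 1 * ((l.filter fun r => Nat.beq (kd r) 1).map nx).sum +
        byy 1 * ((l.filter fun r => Nat.beq (kd r) 1).map ny).sum) +
      (bx 2 * ((l.filter fun r => Nat.beq (kd r) 2).map nx).sum +
        byy 2 * ((l.filter fun r => Nat.beq (kd r) 2).map ny).sum)
  | [], _ => by simp
  | r :: l, h => by
    have ih := sum_by_kind kd nx ny bx byy l fun b hb => h b (List.mem_cons_of_mem _ hb)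
    have hk := h r List.mem_cons_self
    rw [List.map_cons, List.sum_cons, ih]
    have hk' : kd r = 0 ∨ kd r = 1 ∨ kd r = 2 := by omega
    rcases hk' with e | e | e <;>
      simp [e, mul_add, show Nat.beq 1 0 = false from rfl, show Nat.beq 2 0 = false from rfl,
        show Nat.beq 0 1 = false from rfl, show Nat.beq 0 2 = false from rfl,
        show Nat.beq 1 2 = false from rfl, show Nat.beq 2 1 = false from rfl] <;> ring

variable {G : Type*} [Group G] [Finite G] {z p : G} {T₀ Uh U0 : Subgroup AutM22}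

theorem rows_good {r : ℕ × ℕ × ℕ × ℕ × ℕ} (hr : r ∈ imageRows) :
    Good r.1 ∧ FusionAlperin.MathieuCert.canon r.1 = r.1 := by
  have h := List.all_eq_true.mp rows_ok r hr
  simp only [rowOk, witOk, Bool.and_eq_true, Nat.beq_eq] at h
  exact ⟨good_of_inM24 h.1.1.1.1.1, h.1.2⟩

theorem rows_nodup : (imageRows.map fun r => el r.1).Nodup := by
  have h := sums_ok
  simp only [sumsOk, Bool.and_eq_true] at h
  have hp := sortedLT_of_zip h.1.1.1.1.1.1.2
  have hn : (imageRows.map fun r => r.1).Nodup := hp.imp fun hab => ne_of_lt hab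
  rw [show (imageRows.map fun r => el r.1) = (imageRows.map fun r => r.1).map el by rw [List.map_map]; rfl]
  refine List.Nodup.map_on (fun a ha b hb e => ?_) hn
  obtain ⟨r, hr, rfl⟩ := List.mem_map.mp ha
  obtain ⟨r', hr', rfl⟩ := List.mem_map.mp hb
  obtain ⟨g, c⟩ := rows_good hr
  obtain ⟨g', c'⟩ := rows_good hr'
  have e' := congrArg Subtype.val e
  rw [el_coe g.2, el_coe g'.2] at e'
  exact eq_of_gperm g.1 g'.1 c c' e'

namespace NModel

variable (M : NModel z) (S : Setting z p) (F : AutFacts) (B : NormConfig T₀ Uh U0)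
variable (hMV : M.V = vv S B.toBigConfig) (h7 : M.ψ 7 = z) (hE : ∃ e ∈ Q z, IsConj z e ∧ e ≠ z)

open Classical in
/-- Conjugates of `z` in the core over a row. -/
noncomputable def rowCount (c : ℕ) : ℕ := (coreW.filter fun a => decide (IsConj z (M.ev a (el c)))).length

theorem coreW_lt {a : ℕ} (ha : a ∈ coreW) : a < 2048 := by
  have h := core_ok
  simp only [coreOk, Bool.and_eq_true, List.all_eq_true, Nat.blt_eq] at h
  exact h.1.1.1.1.1.2 a ha

theorem coreW_nodup : coreW.Nodup ∧ coreW.length = 128 := by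
  have h := core_ok
  simp only [coreOk, Bool.and_eq_true, Nat.beq_eq] at h
  exact ⟨noRep_spec h.1.1.1.1.2, h.1.1.1.2⟩

open Classical in
theorem rowCount_eq {r : ℕ × ℕ × ℕ × ℕ × ℕ} (hr : r ∈ imageRows) (hz : orderOf z = 2) :
    M.rowCount r.1 = bif Nat.beq r.2.1 0 then 91 else
      (if IsConj z (M.ev 0 (el (std r.2.1))) then 1 else 0) * r.2.2.2.1 +
      (if IsConj z (M.ev (bif Nat.beq r.2.1 1 then AtData.outA else AtData.outB) (el (std r.2.1)))
        then 1 else 0) * r.2.2.2.2 := by
  obtain ⟨c, k, g, nx, ny⟩ := r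
  have hR := List.all_eq_true.mp rows_ok _ hr
  simp only [rowOk, witOk, Bool.and_eq_true, Nat.beq_eq, Nat.blt_eq] at hR
  obtain ⟨⟨⟨⟨⟨hcM, hgM⟩, hk⟩, hwit⟩, -⟩, hcnt⟩ := hR
  have hc := good_of_inM24 hcM
  have hg := good_of_inM24 hgM
  rcases Nat.eq_zero_or_pos k with rfl | hk0
  · simp only [Nat.beq_refl, cond_true, Bool.and_eq_true, Nat.beq_eq] at hcnt ⊢
    obtain ⟨⟨rfl, -⟩, -⟩ := hcnt
    have h91 := sums_ok
    simp only [sumsOk, Bool.and_eq_true, Nat.beq_eq] at h91
    rw [rowCount, ← h91.2, el_one]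
    refine congrArg List.length (List.filter_congr fun a ha => ?_)
    rw [M.ev_one_eq, Bool.eq_iff_iff, decide_eq_true_iff]
    simp only [Bool.and_eq_true, Bool.not_eq_true', ← Bool.not_eq_true, Nat.beq_eq]
    refine ⟨fun h => ⟨?_, fun hd => ((M.frame.mem_D a (coreW_lt ha)).mpr hd).2.2 h⟩,
      fun ⟨h0, hd⟩ => M.isConj_psi (coreW_lt ha) h0 (by simpa using hd)⟩
    rintro rfl
    rw [M.ψ_zero, isConj_one_left] at h
    rw [h, orderOf_one] at hz
    exact absurd hz (by norm_num)
  have hb : Nat.beq k 0 = false := by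
    rw [← Bool.not_eq_true, Nat.beq_eq]; omega
  simp only [hb, cond_false, Bool.and_eq_true, Nat.beq_eq] at hcnt ⊢
  obtain ⟨hnx, hny⟩ := hcnt
  subst hnx hny
  have hs : Good (std k) := good_std hk
  have hconj : el g * el (std k) * (el g)⁻¹ = el c := by
    rw [← el_mul hg hs, hwit, el_mul hc hg, mul_inv_cancel_right]
  have ht := AtChecks.total_ok
  simp only [totalOk, Bool.and_eq_true, Nat.beq_eq] at ht
  have hmv : ∀ l : List ℕ, moveL g l = l.map (act g) := fun l => rfl
  -- the two families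
  have fam : ∀ (xl yl : List ℕ) (y : ℕ), (xl ++ yl).Nodup →
      (∀ a ∈ xl, a < 2048 ∧ orderOf (M.ev a (el (std k))) = 2 ∧
        (IsConj z (M.ev a (el (std k))) ↔ IsConj z (M.ev 0 (el (std k))))) →
      (∀ a ∈ yl, a < 2048 ∧ orderOf (M.ev a (el (std k))) = 2 ∧
        (IsConj z (M.ev a (el (std k))) ↔ IsConj z (M.ev y (el (std k))))) →
      (∀ a < 2048, M.ev a (el (std k)) * M.ev a (el (std k)) = 1 → a ∈ xl ∨ a ∈ yl) →
      M.rowCount c = (if IsConj z (M.ev 0 (el (std k))) then 1 else 0) * countIn (moveL g xl) +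
        (if IsConj z (M.ev y (el (std k))) then 1 else 0) * countIn (moveL g yl) := by
    intro xl yl y hnd hX hY hcov
    have key : ∀ a ∈ coreW, IsConj z (M.ev a (el c)) ↔
        ((a ∈ moveL g xl ∧ IsConj z (M.ev 0 (el (std k)))) ∨
          (a ∈ moveL g yl ∧ IsConj z (M.ev y (el (std k))))) := by
      intro a ha
      obtain ⟨b, hb, rfl⟩ := M.act_surj hg (coreW_lt ha)
      rw [← hconj, ← M.conj_ev hg hb, isConj_conj, hmv, hmv, List.mem_map, List.mem_map]
      constructor
      · intro h
        rcases hcov b hb (sq_of_isConj hz h) with h' | h'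
        · exact Or.inl ⟨⟨b, h', rfl⟩, (hX b h').2.2.mp h⟩
        · exact Or.inr ⟨⟨b, h', rfl⟩, (hY b h').2.2.mp h⟩
      · rintro (⟨⟨b', hb', e⟩, h⟩ | ⟨⟨b', hb', e⟩, h⟩)
        · rw [← M.act_inj hg (hX b' hb').1 hb e]; exact (hX b' hb').2.2.mpr h
        · rw [← M.act_inj hg (hY b' hb').1 hb e]; exact (hY b' hb').2.2.mpr h
    have hex : ∀ a ∈ coreW, ¬ (a ∈ moveL g xl ∧ a ∈ moveL g yl) := fun a _ ⟨h, h'⟩ => by
      rw [hmv, List.mem_map] at h h'
      obtain ⟨b, hb, rfl⟩ := h
      obtain ⟨b', hb', e⟩ := h'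
      rw [M.act_inj hg (hY b' hb').1 (hX b hb).1 e] at hb'
      exact (List.nodup_append.mp hnd).2.2 b hb b hb' rfl
    rw [countIn_eq, countIn_eq, rowCount]
    by_cases hx : IsConj z (M.ev 0 (el (std k))) <;> by_cases hy : IsConj z (M.ev y (el (std k))) <;>
      simp only [hx, hy, if_true, if_false, one_mul, zero_mul, add_zero, zero_add]
    · rw [← length_filter_or _ _ coreW (fun a ha h => hex a ha ⟨of_decide_eq_true h.1, of_decide_eq_true h.2⟩)]
      refine congrArg List.length (List.filter_congr fun a ha => ?_)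
      rw [Bool.eq_iff_iff, decide_eq_true_iff, Bool.or_eq_true, decide_eq_true_iff, decide_eq_true_iff, key a ha]
      exact ⟨fun h => h.imp And.left And.left, fun h => h.imp (fun h => ⟨h, hx⟩) fun h => ⟨h, hy⟩⟩
    · refine congrArg List.length (List.filter_congr fun a ha => ?_)
      rw [Bool.eq_iff_iff, decide_eq_true_iff, decide_eq_true_iff, key a ha]
      exact ⟨fun h => h.elim And.left fun h => absurd h.2 hy, fun h => Or.inl ⟨h, hx⟩⟩
    · refine congrArg List.length (List.filter_congr fun a ha => ?_)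
      rw [Bool.eq_iff_iff, decide_eq_true_iff, decide_eq_true_iff, key a ha]
      exact ⟨fun h => h.elim (fun h => absurd h.2 hx) And.left, fun h => Or.inr ⟨h, hy⟩⟩
    · rw [List.length_eq_zero_iff, List.filter_eq_nil_iff]
      intro a ha
      rw [decide_eq_true_iff, key a ha]
      exact fun h => h.elim (fun h => hx h.2) fun h => hy h.2
  interval_cases k
  · obtain ⟨h1, h2, h3, h4⟩ := M.std_family AtChecks.std_A (el_ne_one hs ht.2)
    exact fam _ _ _ h1 h2 h3 h4
  · obtain ⟨h1, h2, h3, h4⟩ := M.std_family AtChecks.std_B (el_ne_one hs ht.1.2)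
    exact fam _ _ _ h1 h2 h3 h4

include S F B hMV h7 hE

open Classical in
theorem count_rows (Me : MeetConfig Uh U0) :
    (imageRows.map fun r => M.rowCount r.1).sum = 1387 := by
  haveI := Fintype.ofFinite G
  obtain ⟨hnd, hlen⟩ := coreW_nodup
  let rs : Finset ↥M24 := (imageRows.map fun r => el r.1).toFinset
  let img : Finset G := (rs ×ˢ coreW.toFinset).image fun x => M.ev x.2 x.1
  have hQimg : (Q z : Set G).toFinset ⊆ img := by
    intro e he
    rw [Set.mem_toFinset] at he
    obtain ⟨r, hr, a, ha, rfl⟩ := M.core_elem S F B hMV h7 hE he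
    exact Finset.mem_image.mpr ⟨(el r.1, a), Finset.mem_product.mpr
      ⟨List.mem_toFinset.mpr (List.mem_map.mpr ⟨r, hr, rfl⟩), List.mem_toFinset.mpr ha⟩, rfl⟩
  have heq : (Q z : Set G).toFinset = img := by
    refine Finset.eq_of_subset_of_card_le hQimg (Finset.card_image_le.trans ?_)
    rw [Finset.card_product, List.toFinset_card_of_nodup hnd, List.toFinset_card_of_nodup rows_nodup,
      List.length_map, hlen, Set.toFinset_card, ← Nat.card_eq_fintype_card, SetLike.coe_sort_coe, S.card_E]
    have h64 := sums_ok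
    simp only [sumsOk, Bool.and_eq_true, Nat.beq_eq] at h64
    rw [h64.1.1.1.1.1.1.1]
    norm_num
  have h := ncard_conj_core S F B Me hE
  rw [← h, show {e | e ∈ Q z ∧ IsConj z e} = ↑(img.filter fun e => IsConj z e) by
      ext e; rw [Finset.coe_filter, ← heq]; simp, Set.ncard_coe_finset, Finset.filter_image,
    Finset.card_image_of_injOn ?_, Finset.card_filter, Finset.sum_product,
    List.sum_toFinset _ rows_nodup, List.map_map]
  · refine congrArg List.sum (List.map_congr_left fun r _ => ?_)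
    show _ = ∑ a ∈ coreW.toFinset, if IsConj z (M.ev a (el r.1)) then 1 else 0
    rw [← Finset.card_filter, rowCount, ← List.toFinset_card_of_nodup (hnd.filter _),
      List.toFinset_filter]
    simp only [decide_eq_true_eq]
  · rintro ⟨σ, a⟩ hx ⟨τ, b⟩ hy e
    simp only [Finset.coe_filter, Set.mem_ofPred_eq, Finset.mem_product, List.mem_toFinset] at hx hy
    obtain ⟨rfl, rfl⟩ := M.ev_inj (coreW_lt hx.1.2) (coreW_lt hy.1.2) e
    rfl

open Classical in
theorem exists_fus (Me : MeetConfig Uh U0) : ∃ o, Fus M o := by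
  have hsum := M.count_rows S F B hMV h7 hE Me
  let bx : ℕ → ℕ := fun k => if IsConj z (M.ev 0 (el (std k))) then 1 else 0
  let byy : ℕ → ℕ := fun k =>
    if IsConj z (M.ev (bif Nat.beq k 1 then AtData.outA else AtData.outB) (el (std k))) then 1 else 0
  rw [List.map_congr_left (fun r hr => M.rowCount_eq hr S.ord_z),
    sum_by_kind (fun r : ℕ × ℕ × ℕ × ℕ × ℕ => r.2.1) (fun r => r.2.2.2.1) (fun r => r.2.2.2.2) bx byy
      imageRows (fun r hr => by
        have h := List.all_eq_true.mp rows_ok r hr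
        simp only [rowOk, witOk, Bool.and_eq_true, Nat.blt_eq] at h
        exact h.1.1.1.2)] at hsum
  have h := sums_ok
  simp only [sumsOk, Bool.and_eq_true, Nat.beq_eq] at h
  rw [h.1.1.1.1.1.2, h.1.1.1.1.2, h.1.1.1.2, h.1.1.2, h.1.2] at hsum
  have hb : ∀ k, bx k ≤ 1 ∧ byy k ≤ 1 := fun k => by
    simp only [bx, byy]; constructor <;> split <;> omega
  have l1 := hb 1
  have l2 := hb 2
  have hx1 : bx 1 = 1 := by omega
  have hy1 : byy 1 = 0 := by omega
  have h22 : bx 2 + byy 2 = 1 := by omega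
  refine ⟨decide (IsConj z (M.ev 0 (el stdB))), ⟨S.ord_z, ?_, ?_, by rw [decide_eq_true_iff], ?_⟩⟩
  · by_contra hc
    rw [show bx 1 = 0 from if_neg hc] at hx1
    omega
  · intro hc
    rw [show byy 1 = 1 from if_pos hc] at hy1
    omega
  · rw [decide_eq_false_iff_not]
    constructor
    · intro h1 h2
      rw [show bx 2 = 1 from if_pos h2, show byy 2 = 1 from if_pos h1] at h22
      omega
    · intro h2
      by_contra h1
      rw [show bx 2 = 0 from if_neg h2, show byy 2 = 0 from if_neg h1] at h22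
      omega

end NModel

/-- A model with `z` at 7 and known labels exists in a group of Janko-four type. -/
theorem exists_fus_model [IsSimpleGroup G] (hG : ¬ IsMulCommutative G)
    (hJ : Cfsg.IsOfJankoFourTypeAt z)
    (h67 : ∀ V : Subgroup G, Cfsg.IsElementaryAbelian 2 V → Nat.card ↥V = 2 ^ 11 →
      Subgroup.centralizer (V : Set G) ≤ V ∧ ∃ K : Subgroup G,
        K ≤ Subgroup.normalizer (V : Set G) ∧ K ⊓ V = ⊥ ∧
        K ⊔ V = Subgroup.normalizer (V : Set G) ∧ Cfsg.Spor.IsoM24 ↥K) :
    ∃ M : NModel z, M.ψ 7 = z ∧ ∃ o, Fus M o := by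
  obtain ⟨p, S⟩ := Setting.of_at hJ
  have F := autFacts
  obtain ⟨hc, h2, -⟩ := vv_facts S F Cert2.normConfig.toBigConfig
  obtain ⟨-, K, -, hKV, hsup, -⟩ := h67 _ ⟨⟨⟨fun a b => Subtype.ext (comm_of_sq h2 a.2 b.2)⟩⟩,
    fun v hv => by rw [pow_two]; exact h2 v hv⟩ hc
  have hE := S.exists_fused hG F
  obtain ⟨M, hMV, h7⟩ := exists_nModel_seven S F Cert2.normConfig Cert2.meetConfig hE hKV hsup
  exact ⟨M, h7, M.exists_fus S F Cert2.normConfig hMV h7 hE Cert2.meetConfig⟩

end Cfsg.Agent.Lib.J4Order
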