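import Cfsg.Agent.Lib.J4Order.Invols
import Cfsg.Agent.Lib.J4Order.Labels
import Cfsg.Agent.Lib.J4Local.RowsG
import Cfsg.Agent.Lib.J4Five.Orbits

/-!
# Two classes of involutions, their centralisers, and the Sylow 3-part of the order
-/

set_option autoImplicit false
set_option linter.unusedSectionVars false

namespace Cfsg.Agent.Lib.J4Order

open Cfsg Cfsg.Agent.Lib.J4Local Cfsg.Agent.Lib.J4Big

variable {G : Type*} [Group G] [Finite G] [IsSimpleGroup G] {z : G}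

theorem orderOf_two_of_ne {x : G} (h : x * x = 1) (h1 : x ≠ 1) : orderOf x = 2 :=
  orderOf_eq_prime (by rw [pow_two]; exact h) h1

/-- In an elementary `2^11` the elements not conjugate to `z` are conjugate. -/
theorem conj_in_eleven (hG : ¬ IsMulCommutative G) (hJ : Cfsg.IsOfJankoFourTypeAt z)
    {V : Subgroup G} (hV : Cfsg.IsElementaryAbelian 2 V) (hc : Nat.card ↥V = 2 ^ 11) {a b : G}
    (ha : a ∈ V) (ha1 : a ≠ 1) (haz : ¬ IsConj z a) (hb : b ∈ V) (hb1 : b ≠ 1)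
    (hbz : ¬ IsConj z b) : IsConj a b := by
  obtain ⟨z', t, hz', ht, ht1, hzz, hzt, hA, hB, -⟩ := orbits_of_facts autFacts hG hJ V hV hc
  set A := {v : G | ∃ n ∈ Subgroup.normalizer (V : Set G), n * z' * n⁻¹ = v}
  set B := {v : G | ∃ n ∈ Subgroup.normalizer (V : Set G), n * t * n⁻¹ = v}
  have hmem : ∀ x ∈ V, x ≠ 1 →
      {v : G | ∃ n ∈ Subgroup.normalizer (V : Set G), n * x * n⁻¹ = v} ⊆ (V : Set G) \ {1} := by
    rintro x hx hx1 _ ⟨n, hn, rfl⟩
    exact ⟨(Subgroup.mem_normalizer_iff.mp hn x).mp hx, fun e => hx1 (conj_eq_one_iff.mp e)⟩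
  have hz1 : z' ≠ 1 := by
    intro e
    obtain ⟨p, S⟩ := Setting.of_at hJ
    rw [e, isConj_one_left] at hzz
    have := S.ord_z
    rw [hzz, orderOf_one] at this
    omega
  have hcov : A ∪ B = (V : Set G) \ {1} := by
    refine Set.eq_of_subset_of_ncard_le (Set.union_subset (hmem z' hz' hz1) (hmem t ht ht1)) ?_
    have hd : Disjoint A B := by
      rw [Set.disjoint_left]
      rintro _ ⟨n, -, rfl⟩ ⟨m, -, e⟩
      exact hzt (hzz.trans ((isConj_iff.mpr ⟨n, rfl⟩).trans (isConj_iff.mpr ⟨m, e⟩).symm))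
    rw [Set.ncard_union_eq hd, hA, hB, Set.ncard_sdiff (Set.singleton_subset_iff.mpr V.one_mem),
      Set.ncard_singleton, ← Nat.card_coe_set_eq]
    show Nat.card ↥V - 1 ≤ _
    rw [hc]
    norm_num
  have inB : ∀ x ∈ V, x ≠ 1 → ¬ IsConj z x → IsConj t x := by
    intro x hx hx1 hxz
    have : x ∈ A ∪ B := hcov ▸ ⟨hx, hx1⟩
    rcases this with ⟨n, -, e⟩ | ⟨n, -, e⟩
    · exact absurd (hzz.trans (isConj_iff.mpr ⟨n, e⟩)) hxz
    · exact isConj_iff.mpr ⟨n, e⟩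
  exact (inB a ha ha1 haz).symm.trans (inB b hb hb1 hbz)

namespace NModel

variable (M : NModel z)

theorem elem_V : Cfsg.IsElementaryAbelian 2 M.V :=
  ⟨⟨⟨fun a b => Subtype.ext (comm_of_sq M.frame.sq a.2 b.2)⟩⟩,
    fun v hv => by rw [pow_two]; exact M.frame.sq v hv⟩

theorem card_V : Nat.card ↥M.V = 2 ^ 11 := by
  rw [← Nat.card_eq_of_bijective (fun a : Fin 2048 => (⟨M.ψ a, M.ψ_mem a⟩ : ↥M.V))
    ⟨fun a b e => Fin.ext (M.frame.inj _ _ a.2 b.2 (congrArg Subtype.val e)), fun v => by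
      obtain ⟨a, ha, e⟩ := M.frame.surj v v.2
      exact ⟨⟨a, ha⟩, Subtype.ext e⟩⟩, Nat.card_fin]
  norm_num

/-- The second involution is not conjugate to `z`. -/
theorem psi_one_not_conj : ¬ IsConj z (M.ψ 1) :=
  ((M.frame.mem_D 1 (by norm_num)).mpr (by decide +kernel)).2.2

theorem orderOf_psi_one : orderOf (M.ψ 1) = 2 := orderOf_two_of_ne (M.ψ_sq 1) M.ψ_one_ne

end NModel

/-- An involution which is not conjugate to `z` is conjugate to the second involution of a model. -/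
theorem conj_second (hG : ¬ IsMulCommutative G) (hJ : Cfsg.IsOfJankoFourTypeAt z) (M : NModel z)
    (h67 : ∀ V : Subgroup G, Cfsg.IsElementaryAbelian 2 V → Nat.card ↥V = 2 ^ 11 →
      Subgroup.centralizer (V : Set G) ≤ V)
    (h69 : ∀ t : G, orderOf t = 2 → ¬ IsConj z t → ∃ V K : Subgroup G,
      V ≤ Subgroup.centralizer ({t} : Set G) ∧ K ≤ Subgroup.centralizer ({t} : Set G) ∧
      Subgroup.centralizer ({t} : Set G) ≤ Subgroup.normalizer (V : Set G) ∧
      Cfsg.IsElementaryAbelian 2 V ∧ Nat.card ↥V = 2 ^ 11 ∧ K ⊓ V = ⊥ ∧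
      K ⊔ V = Subgroup.centralizer ({t} : Set G) ∧ Nonempty (↥K ≃* MulAut ↥Cfsg.Spor.M22))
    {t : G} (ht : orderOf t = 2) (htz : ¬ IsConj z t) : IsConj (M.ψ 1) t := by
  obtain ⟨W, K, hW, -, -, hWe, hWc, -⟩ := h69 t ht htz
  have htW : t ∈ W := h67 W hWe hWc (Subgroup.mem_centralizer_iff.mpr fun w hw =>
    Subgroup.mem_centralizer_singleton_iff.mp (hW hw))
  obtain ⟨p, S⟩ := Setting.of_at hJ
  obtain ⟨g, hg⟩ := exists_conj_vv S autFacts Cert2.normConfig.toBigConfig hWe hWc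
  obtain ⟨k, hk⟩ := exists_conj_vv S autFacts Cert2.normConfig.toBigConfig M.elem_V M.card_V
  have hm : (k * g⁻¹) * t * (k * g⁻¹)⁻¹ ∈ M.V := by
    rw [hk, mem_map_conj, show k⁻¹ * (k * g⁻¹ * t * (k * g⁻¹)⁻¹) * k = g⁻¹ * t * g by group,
      ← mem_map_conj, ← hg]
    exact htW
  have he : IsConj t ((k * g⁻¹) * t * (k * g⁻¹)⁻¹) := isConj_iff.mpr ⟨_, rfl⟩
  have ht1 : t ≠ 1 := fun e => by rw [e, orderOf_one] at ht; omega
  exact (conj_in_eleven hG hJ M.elem_V M.card_V (M.ψ_mem 1) M.ψ_one_ne M.psi_one_not_conj hm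
    (fun e => ht1 (conj_eq_one_iff.mp e)) (fun h => htz (h.trans he.symm))).trans he.symm

/-- The centraliser of the second involution has order `2^11 · |Aut M22|`. -/
theorem card_cz_second (t : G)
    (h69 : ∃ V K : Subgroup G,
      V ≤ Subgroup.centralizer ({t} : Set G) ∧ K ≤ Subgroup.centralizer ({t} : Set G) ∧
      Subgroup.centralizer ({t} : Set G) ≤ Subgroup.normalizer (V : Set G) ∧
      Cfsg.IsElementaryAbelian 2 V ∧ Nat.card ↥V = 2 ^ 11 ∧ K ⊓ V = ⊥ ∧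
      K ⊔ V = Subgroup.centralizer ({t} : Set G) ∧ Nonempty (↥K ≃* MulAut ↥Cfsg.Spor.M22)) :
    Nat.card ↥(Subgroup.centralizer ({t} : Set G)) = 1816657920 := by
  obtain ⟨V, K, hV, hK, hn, -, hVc, hinf, hsup, ⟨iso⟩⟩ := h69
  obtain ⟨χ, hχ, hχk⟩ := J4Five.quot_hom hK hn hinf hsup iso
  rw [(J4Five.card_split hV hχ hχk).1, hVc, autFacts.card_aut]
  norm_num

/-- The order of the group is not divisible by `3^4`. -/
theorem not_three_four (hG : ¬ IsMulCommutative G) (hJ : Cfsg.IsOfJankoFourTypeAt z) :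
    ¬ 3 ^ 4 ∣ Nat.card G := by
  have := Fact.mk Nat.prime_three
  obtain ⟨p, S⟩ := Setting.of_at hJ
  obtain ⟨R, hR, hc, hp⟩ := S.exists_sylow_three autFacts S.p_mem_cz ⟨1, by simpa using S.p_cube⟩
  obtain ⟨P, hP⟩ := S.three_maximal hG autFacts hR hc hp
  intro h
  have h1 : Nat.card ↥(P : Subgroup G) = 27 := by rw [hP, hc]
  rw [P.card_eq_multiplicity] at h1
  have h4 : 4 ≤ (Nat.card G).factorization 3 :=
    (Nat.Prime.pow_dvd_iff_le_factorization Nat.prime_three Nat.card_pos.ne').mp h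
  have := (Nat.pow_le_pow_right (show 0 < 3 by norm_num) h4).trans_eq h1
  norm_num at this

end Cfsg.Agent.Lib.J4Order
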