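import Cfsg.Agent.Lib.J4Order.AtData
import Cfsg.Agent.Lib.M24Classes.Data
import Cfsg.Agent.Lib.FusionAlperin.MathieuCert
import Cfsg.Agent.Lib.J4Local.SylData

/-!
# The checks for the count at the first basis vector
-/

set_option autoImplicit false

namespace Cfsg.Agent.Lib.J4Order.AtCalc

open Cfsg.Agent.Lib.Golay Cfsg.Agent.Lib.Computation
open Cfsg.Agent.Lib.J4Big.Cocode (dGood addAll noRep)
open Cfsg.Agent.Lib.FusionAlperin.MathieuCert (canon)
open AtData

/-! ### orbit tours -/

/-- Conjugation of a code. -/
def conjC (g : ℕ × ℕ) (c : ℕ) : ℕ := mulP 24 5 (mulP 24 5 g.1 c) g.2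

/-- The codes met on a tour. -/
def runP (gs : List (ℕ × ℕ)) : List ℕ → List ℕ → List ℕ
  | [], _ => []
  | 0 :: r, stk => runP gs r stk.tail
  | (_ + 1) :: _, [] => []
  | (j + 1) :: r, a :: stk =>
    forceNat (conjC (gs.getD j (oneCode, oneCode)) a) fun x => x :: runP gs r (x :: a :: stk)

/-- An orbit from its tour. -/
def tour (gs : List (ℕ × ℕ)) (root : ℕ) (prog : List ℕ) : List ℕ := root :: runP gs prog [root]

/-- The generators are inverse pairs of the duad stabiliser. -/
def gensOk (gs : List (ℕ × ℕ)) : Bool :=
  gs.all fun g => J4Local.AutModel.inBig g.1 && J4Local.AutModel.inBig g.2 &&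
    Nat.beq (mulP 24 5 g.1 g.2) oneCode

/-- The generators centralise `c`. -/
def centOk (c : ℕ) (gs : List (ℕ × ℕ)) : Bool :=
  gs.all fun g => Nat.beq (mulP 24 5 g.1 c) (mulP 24 5 c g.1)

/-! ### ranks in the sorted list -/

/-- A search tree of keys `code * 4096 + rank`. -/
inductive RTree
  | tip
  | bin (l : RTree) (a : ℕ) (r : RTree)

/-- Look up a code. -/
def RTree.find : RTree → ℕ → Option ℕ
  | .tip, _ => none
  | .bin l a r, x =>
    bif Nat.blt x (a / 4096) then l.find x else bif Nat.blt (a / 4096) x then r.find x else some (a % 4096)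

/-- A search tree on a sorted list. -/
def buildR : ℕ → List ℕ → RTree
  | 0, _ => .tip
  | k + 1, l =>
    match l.drop (l.length / 2) with
    | [] => .tip
    | a :: r => .bin (buildR k (l.take (l.length / 2))) a (buildR k r)

/-- The keys. -/
def keys : List ℕ := List.zipWith (fun c i => c * 4096 + i) invol (List.range invol.length)

/-- Mark the ranks, failing on repetitions. -/
def markAll (t : RTree) : List ℕ → ℕ → Option ℕ
  | [], m => some m
  | c :: l, m =>
    match t.find c with
    | none => none
    | some i => bif m.testBit i then none else forceNat (m ||| 2 ^ i) fun m' => markAll t l m'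

/-- The lists meet every involution exactly once. -/
def coverOk (l : List ℕ) : Bool :=
  match markAll (buildR 14 keys) l 0 with
  | none => false
  | some r => Nat.beq r (2 ^ invol.length - 1)

/-- The orbits of a block. -/
def tours (b : Block) : List ℕ := b.roots.flatMap fun r => tour b.cgens r.code r.prog

/-- The blocks. -/
def blocks : List Block := [block0, block1, block2, block3]

/-! ### the vectors of each type -/

/-- The two standard involutions. -/
def stdA : ℕ := Cfsg.Agent.Lib.M24Classes.Data.rA

/-- The two standard involutions. -/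
def stdB : ℕ := Cfsg.Agent.Lib.M24Classes.Data.rB

/-- The standard involution of a kind. -/
def std : ℕ → ℕ
  | 0 => oneCode
  | 1 => stdA
  | _ => stdB

/-- The commutators of a standard involution. -/
def comList (c : ℕ) (bs : List ℕ) : List ℕ := bs.map fun b => b ^^^ act c b

/-- The other fixed vectors. -/
def restList (c y : ℕ) (gs : List ℕ) (bs : List (ℕ × ℕ)) : List ℕ :=
  bs.map fun q => (act (gs.getD q.1 oneCode) y ^^^ q.2) ^^^ act c q.2

/-- The commutators, kind A. -/
def xA : List ℕ := comList stdA comA

/-- The others, kind A. -/
def yA : List ℕ := restList stdA outA cenA restA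

/-- The commutators, kind B. -/
def pB : List ℕ := comList stdB comB

/-- The others, kind B. -/
def qB : List ℕ := restList stdB outB cenB restB

/-- The sextets. -/
def sextets : List ℕ := (List.range 2048).filter fun a => !Nat.beq a 0 && !dGood.testBit a

/-- The duads. -/
def duads : List ℕ := (List.range 2048).filter fun a => dGood.testBit a

/-- The vectors giving conjugates of `z` over a standard involution. -/
def zStd (o : Bool) : ℕ → List ℕ
  | 0 => sextets
  | 1 => xA
  | _ => bif o then pB else qB

/-- The vectors giving the other class over a standard involution. -/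
def tStd (o : Bool) : ℕ → List ℕ
  | 0 => duads
  | 1 => yA
  | _ => bif o then qB else pB

/-- The data of the standard involutions. -/
def stdOk (c y : ℕ) (bs gs : List ℕ) (rs : List (ℕ × ℕ)) (xl yl : List ℕ) : Bool :=
  inM24 c && Nat.beq (mulP 24 5 c c) oneCode && Nat.blt y 2048 &&
    Nat.beq (act c y) y &&
    (gs.all fun g => inM24 g && Nat.beq (mulP 24 5 g c) (mulP 24 5 c g)) &&
    (bs.all fun b => Nat.blt b 2048) &&
    (rs.all fun q => Nat.blt q.1 gs.length && Nat.blt q.2 2048) &&
    (match addAll (xl ++ yl) 0 with
     | none => false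
     | some m => (List.range 2048).all fun a => !Nat.beq (act c a) a || m.testBit a)

/-! ### one count -/

/-- Powers. -/
def powC (p : ℕ) : ℕ → ℕ
  | 0 => oneCode
  | k + 1 => mulP 24 5 p (powC p k)

/-- `m` is the order of the code. -/
def ordOk (p m : ℕ) : Bool :=
  Nat.blt 0 m && Nat.beq (powC p m) oneCode &&
    (List.range m).all fun j => Nat.beq j 0 || (!Nat.beq (powC p j) oneCode && Nat.beq (canon (powC p j)) (powC p j))

/-- The sum of the images under the powers of a linear map. -/
def normV (P : List ℕ) : ℕ → ℕ → ℕ
  | 0, _ => 0
  | k + 1, c => c ^^^ combine P (normV P k c)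

/-- A table of multiplicities. -/
def tally : List ℕ → ℕ
  | [] => 0
  | x :: l => forceNat (tally l) fun t => t + 2 ^ (16 * x)

/-- The number of pairs over given images. -/
def pairs (Ln Ls zl tl : List ℕ) : ℕ :=
  forceNat (tally ((tl.map fun b => combine Ln (combine Ls b)))) fun T =>
    (zl.map fun a => getW 16 T (combine Ln a ^^^ 1)).foldr (fun a b => a + b) 0

/-- Transport of a list. -/
def moveL (g : ℕ) (l : List ℕ) : List ℕ :=
  let L := imgL g
  l.map fun a => combine L a

/-- The linear map of the sum of powers, on the basis. -/
def normL (p m : ℕ) : List ℕ :=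
  let P := imgL p
  (List.range 11).map fun i => normV P m (2 ^ i)

/-- The count over two coded involutions. -/
def count (o : Bool) (s ks gs t kt gt m : ℕ) : ℕ :=
  pairs (normL (mulP 24 5 s t) m) (imgL s) (moveL gs (zStd o ks)) (moveL gt (tStd o kt))

/-- The conjugator is right. -/
def witOk (c k g : ℕ) : Bool :=
  inM24 c && inM24 g && Nat.blt k 3 && Nat.beq (mulP 24 5 g (std k)) (mulP 24 5 c g)

/-- A root. -/
def rootOk (b : Block) (r : Root) : Bool :=
  witOk r.code r.kind r.wit && ordOk (mulP 24 5 b.code r.code) r.ord &&
    Nat.beq (count true b.code b.kind b.wit r.code r.kind r.wit r.ord) r.valT &&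
    Nat.beq (count false b.code b.kind b.wit r.code r.kind r.wit r.ord) r.valF

/-- The sum over a block. -/
def blockOk (b : Block) : Bool :=
  witOk b.code b.kind b.wit &&
    Nat.beq ((b.roots.map fun r => (tour b.cgens r.code r.prog).length * r.valT).foldr (fun a c => a + c) 0) b.subT &&
    Nat.beq ((b.roots.map fun r => (tour b.cgens r.code r.prog).length * r.valF).foldr (fun a c => a + c) 0) b.subF

/-! ### the list of involutions -/

/-- Canonical codes in increasing order, the identity among them. -/
def involOk : Bool :=
  (invol.all fun c => okCode c && Nat.beq (canon c) c) &&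
    ((List.zip invol invol.tail).all fun q => Nat.blt q.1 q.2) &&
    ((buildR 14 keys).find oneCode).isSome

/-- The list is closed under conjugation by the generators. -/
def closedOk (g : ℕ × ℕ) : Bool :=
  let t := buildR 14 keys
  invol.all fun c => (t.find (conjC g c)).isSome

/-- The involutions of the Sylow subgroup are listed. -/
def sylOk : Bool :=
  let t := buildR 14 keys
  J4Local.SylData.els.all fun c => !Nat.beq (canon (mulP 24 5 c c)) oneCode || (t.find c).isSome

/-- The generators contain those of the inner part and the outer element. -/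
def gensHas : Bool :=
  (Golay.Cert.m22_gens ++ [J4Local.AutModel.oCode]).all fun c => gens.any fun g => Nat.beq g.1 c

/-- The total. -/
def totalOk : Bool :=
  Nat.beq ((blocks.map fun b => (tour gens b.code b.prog).length * b.subT).foldr (fun a c => a + c) 0)
      1544188503 &&
    Nat.beq ((blocks.map fun b => (tour gens b.code b.prog).length * b.subF).foldr (fun a c => a + c) 0)
      1544188503 &&
    Nat.beq (getW 5 stdB 23) 0 && Nat.beq (getW 5 stdA 23) 0

end Cfsg.Agent.Lib.J4Order.AtCalc
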