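import Cfsg.Agent.Lib.J4Order.AtCalc

/-!
# Running the checks for the count at the first basis vector
-/

set_option autoImplicit false
set_option maxRecDepth 100000

namespace Cfsg.Agent.Lib.J4Order.AtChecks

open Cfsg.Agent.Lib.Golay Cfsg.Agent.Lib.Computation AtCalc AtData

theorem gens_ok : gensOk gens = true := by decide +kernel

theorem std_A : stdOk stdA outA comA cenA restA xA yA = true := by decide +kernel

theorem std_B : stdOk stdB outB comB cenB restB pB qB = true := by decide +kernel

theorem cgens_ok : (blocks.all fun b => gensOk b.cgens && centOk b.code b.cgens) = true := by
  decide +kernel

theorem blocks_ok : (blocks.all blockOk) = true := by decide +kernel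

theorem cover_outer :
    coverOk (blocks.flatMap fun b => tour gens b.code b.prog) = true := by decide +kernel

theorem cover0 : coverOk (tours block0) = true := by decide +kernel

theorem cover1 : coverOk (tours block1) = true := by decide +kernel

theorem cover2 : coverOk (tours block2) = true := by decide +kernel

theorem cover3 : coverOk (tours block3) = true := by decide +kernel

theorem roots0' : roots0.all (rootOk block0) = true := by decide +kernel

theorem roots1' : roots1.all (rootOk block1) = true := by decide +kernel

theorem roots2' : roots2.all (rootOk block2) = true := by decide +kernel

theorem roots3' : roots3.all (rootOk block3) = true := by decide +kernel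

theorem invol_ok : involOk = true := by decide +kernel

theorem closed_ok : gens.all closedOk = true := by decide +kernel

theorem syl_ok : sylOk = true := by decide +kernel

theorem gens_has : gensHas = true := by decide +kernel

theorem total_ok : totalOk = true := by decide +kernel

end Cfsg.Agent.Lib.J4Order.AtChecks
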