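import Cfsg.Agent.Lib.J4Order.AtPairs
import Cfsg.Agent.Lib.J4Local.AutTwo

/-!
# The involutions of the duad stabiliser
-/

set_option autoImplicit false
set_option linter.unusedSectionVars false
set_option linter.constructorNameAsVariable false

namespace Cfsg.Agent.Lib.J4Order

open Cfsg Cfsg.Agent.Lib.Golay Cfsg.Agent.Lib.Computation
open Cfsg.Agent.Lib.FusionAlperin.MathieuCert (canon eq_of_gperm sortedLT_of_zip getW_eq_of_gperm
  canon_congr)

open AtCalc AtData

namespace Invol

/-- The permutations with listed codes. -/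
noncomputable def permSet : Finset (Equiv.Perm GolayPt) := (invol.map gperm).toFinset

theorem mem_permSet {x : Equiv.Perm GolayPt} : x ∈ permSet ↔ ∃ c ∈ invol, gperm c = x := by
  simp [permSet]

theorem invol_spec : (∀ c ∈ invol, okCode c = true ∧ canon c = c) ∧ invol.Pairwise (· < ·) ∧
    oneCode ∈ invol := by
  have h := AtChecks.invol_ok
  simp only [involOk, Bool.and_eq_true, List.all_eq_true, Nat.beq_eq] at h
  exact ⟨h.1.1, sortedLT_of_zip (List.all_eq_true.mpr fun q hq => by simpa using h.1.2 q hq),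
    AtNum.mem_invol_of_find h.2⟩

/-- The permutations preserving the list under conjugation. -/
noncomputable def keep : Subgroup (Equiv.Perm GolayPt) where
  carrier := {g | ∀ x, g * x * g⁻¹ ∈ permSet ↔ x ∈ permSet}
  one_mem' := fun x => by simp
  mul_mem' := fun {a b} ha hb x => by
    rw [show a * b * x * (a * b)⁻¹ = a * (b * x * b⁻¹) * a⁻¹ by group]
    exact (ha _).trans (hb x)
  inv_mem' := fun {a} ha x => by
    rw [← ha (a⁻¹ * x * a⁻¹⁻¹), show a * (a⁻¹ * x * a⁻¹⁻¹) * a⁻¹ = x by group]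

theorem gens_spec {g : ℕ × ℕ} {gs : List (ℕ × ℕ)} (h : gensOk gs = true) (hg : g ∈ gs) :
    Good g.1 ∧ Good g.2 ∧ gperm g.1 ∈ J4Local.AutModel.big ∧ el g.2 = (el g.1)⁻¹ := by
  simp only [gensOk, List.all_eq_true, Bool.and_eq_true, Nat.beq_eq] at h
  obtain ⟨⟨h1, h2⟩, h3⟩ := h g hg
  obtain ⟨a1, b1⟩ := J4Local.AutModel.inBig_spec h1
  obtain ⟨a2, b2⟩ := J4Local.AutModel.inBig_spec h2
  have g1 : Good g.1 := ⟨a1, b1.1⟩
  have g2 : Good g.2 := ⟨a2, b2.1⟩
  refine ⟨g1, g2, b1, eq_inv_of_mul_eq_one_right ?_⟩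
  rw [← el_mul g1 g2, h3, el_one]

theorem gperm_conjC {g : ℕ × ℕ} {gs : List (ℕ × ℕ)} (h : gensOk gs = true) (hg : g ∈ gs) {x : ℕ}
    (hx : okCode x = true) : gperm (conjC g x) = gperm g.1 * gperm x * (gperm g.1)⁻¹ := by
  obtain ⟨g1, g2, -, hinv⟩ := gens_spec h hg
  have e := congrArg Subtype.val hinv
  rw [el_coe g2.2, Subgroup.coe_inv, el_coe g1.2] at e
  rw [conjC, gperm_mul (okCode_mulP g1.1 hx) g2.1, gperm_mul g1.1 hx, e]

theorem gen_keep {g : ℕ × ℕ} (hg : g ∈ gens) : gperm g.1 ∈ keep := by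
  have hmaps : ∀ x ∈ permSet, gperm g.1 * x * (gperm g.1)⁻¹ ∈ permSet := fun x hx => by
    obtain ⟨c, hc, rfl⟩ := mem_permSet.mp hx
    have h := List.all_eq_true.mp AtChecks.closed_ok g hg
    simp only [closedOk, List.all_eq_true] at h
    exact mem_permSet.mpr ⟨_, AtNum.mem_invol_of_find (h c hc),
      gperm_conjC AtChecks.gens_ok hg (invol_spec.1 c hc).1⟩
  intro x
  refine ⟨fun h => ?_, hmaps x⟩
  have himg : permSet.image (fun y => gperm g.1 * y * (gperm g.1)⁻¹) = permSet := by
    refine Finset.eq_of_subset_of_card_le (fun y hy => ?_) ?_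
    · obtain ⟨y, hy', rfl⟩ := Finset.mem_image.mp hy
      exact hmaps y hy'
    · rw [Finset.card_image_of_injective _ fun a b e => mul_left_cancel (mul_right_cancel e)]
  rw [← himg, Finset.mem_image] at h
  obtain ⟨y, hy, e⟩ := h
  rwa [← mul_left_cancel (mul_right_cancel e)]

theorem big_le_keep : J4Local.AutModel.big ≤ keep := by
  have hgens : ∀ c ∈ Golay.Cert.m22_gens ++ [J4Local.AutModel.oCode], gperm c ∈ keep := fun c hc => by
    have h := AtChecks.gens_has
    simp only [gensHas, List.all_eq_true, List.any_eq_true, Nat.beq_eq] at h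
    obtain ⟨g, hg, rfl⟩ := h c hc
    exact gen_keep hg
  have hmem : ∀ s ∈ Golay.Cert.m22_gens, gperm s ∈ Spor.M22 := fun s hs => by
    have h := List.all_eq_true.mp Golay.m22_gens s hs
    simp only [Bool.and_eq_true, Nat.beq_eq] at h
    obtain ⟨h1, h2, -⟩ := Golay.primeGen_spec (by norm_num) h.1
    refine ⟨⟨h1, h2⟩, ?_⟩
    show gperm s (some 0) = some 0
    apply idx_injective
    rw [idx_gperm (okCode_of_inM24 (by
      have := h.1; simp only [Golay.primeGen, Bool.and_eq_true] at this; exact this.1.1))]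
    exact h.2
  have h22 : Spor.M22 ≤ keep := by
    rw [Golay.closure_eq_of_cert Golay.Cert.m22_check hmem
      (by rw [Golay.card_spor_M22, Golay.Cert.m22_order]), Subgroup.closure_le]
    rintro _ ⟨s, hs, rfl⟩
    exact hgens s (List.mem_append_left _ hs)
  obtain ⟨ho, ho1, ho2⟩ := J4Local.AutModel.oPerm_mem
  intro g hg
  by_cases hn : g none = none
  · exact h22 ((J4Local.AutModel.mem_m22_iff hg).mpr hn)
  · have hom : gperm J4Local.AutModel.oCode * g ∈ Spor.M22 := by
      refine (J4Local.AutModel.mem_m22_iff (mul_mem ho hg)).mpr ?_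
      rcases hg.2 with ⟨h, -⟩ | ⟨h, -⟩
      · exact absurd h hn
      · rw [Equiv.Perm.mul_apply, h]
        conv_lhs => rw [← ho1, ← Equiv.Perm.mul_apply, ho2]
        rfl
    have h1 := mul_mem (hgens _ (List.mem_append_right _ (List.mem_singleton_self _))) (h22 hom)
    rwa [← mul_assoc, ho2, one_mul] at h1

/-- Every involution of the duad stabiliser is listed. -/
theorem mem_permSet_of_sq {s : Equiv.Perm GolayPt} (hs : s ∈ J4Local.AutModel.big) (h2 : s * s = 1) :
    s ∈ permSet := by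
  by_cases h1 : s = 1
  · exact mem_permSet.mpr ⟨oneCode, invol_spec.2.2, by rw [gperm_oneCode, h1]⟩
  set a : J4Local.AutM22 := J4Local.AutModel.toAut ⟨s, hs⟩
  have ha : orderOf a = 2 := by
    haveI := Fact.mk Nat.prime_two
    refine orderOf_eq_prime ?_ fun e => h1 ?_
    · rw [pow_two, ← map_mul, show (⟨s, hs⟩ : ↥J4Local.AutModel.big) * ⟨s, hs⟩ = 1 from Subtype.ext h2,
        map_one]
    · exact congrArg Subtype.val (J4Local.AutModel.toAut.injective (e.trans (map_one _).symm))
  obtain ⟨x, hx⟩ := J4Local.AutTwo.exists_conj_le (S := Subgroup.zpowers a) (k := 1)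
    (by rw [Nat.card_zpowers, ha]; norm_num)
  obtain ⟨i, hi, hv⟩ := J4Local.AutTwo.mem_syl.mp
    (hx ⟨a, Subgroup.mem_zpowers a, rfl⟩)
  obtain ⟨⟨g, hg⟩, rfl⟩ := J4Local.AutModel.toAut.surjective x
  obtain ⟨hb, hcan⟩ := J4Local.AutSylow.els_spec hi
  set c := J4Local.SylData.els.getD i 0 with hc
  obtain ⟨hok, -⟩ := J4Local.AutModel.inBig_spec hb
  rw [J4Local.AutSylow.val, ← hc, J4Local.AutSylow.aut_eq hb] at hv
  simp only [MulEquiv.coe_toMonoidHom, MulAut.conj_apply, a, ← map_inv, ← map_mul] at hv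
  have e : gperm c = g * s * g⁻¹ := congrArg Subtype.val (J4Local.AutModel.toAut.injective hv)
  have hsq : canon (mulP 24 5 c c) = oneCode := by
    refine (canon_congr fun j hj => getW_eq_of_gperm (okCode_mulP hok hok) okCode_oneCode ?_ hj).trans
      (by decide +kernel)
    rw [gperm_mul hok hok, e, gperm_oneCode,
      show g * s * g⁻¹ * (g * s * g⁻¹) = g * (s * s) * g⁻¹ by group, h2]
    group
  have h := AtChecks.syl_ok
  simp only [sylOk, List.all_eq_true, Bool.or_eq_true, Bool.not_eq_true', ← Bool.not_eq_true,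
    Nat.beq_eq] at h
  have hcin : c ∈ J4Local.SylData.els := by
    rw [hc, List.getD_eq_getElem _ _ (show i < J4Local.SylData.els.length by
      rw [show J4Local.SylData.els.length = 256 from by decide +kernel]; exact hi)]
    exact List.getElem_mem _
  rcases h c hcin with h | h
  · exact absurd hsq h
  · exact (big_le_keep hg s).mp (mem_permSet.mpr ⟨c, AtNum.mem_invol_of_find h, e⟩)

theorem closed {g s : Equiv.Perm GolayPt} (hg : g ∈ J4Local.AutModel.big) (hs : s ∈ permSet) :
    g * s * g⁻¹ ∈ permSet := (big_le_keep hg s).mpr hs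

end Invol

end Cfsg.Agent.Lib.J4Order
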