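import Cfsg.Agent.Lib.J4Order.AtCalc

/-!
# Meaning of the numerical helpers of the count
-/

set_option autoImplicit false

namespace Cfsg.Agent.Lib.J4Order.AtNum

open Cfsg.Agent.Lib.Golay Cfsg.Agent.Lib.Computation AtCalc
open Cfsg.Agent.Lib.J4Big.Cocode (addAll addAll_spec)

theorem packW_add_single {w x : ℕ} (f : ℕ → ℕ) :
    ∀ k, packW w (fun i => f i + if i = x then 1 else 0) k =
      packW w f k + if x < k then 2 ^ (w * x) else 0
  | 0 => by simp [packW]
  | k + 1 => by
    rw [packW_succ, packW_succ, packW_add_single f k]
    rcases lt_trichotomy x k with h | h | h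
    · rw [if_neg (show k ≠ x by omega), if_pos h, if_pos (show x < k + 1 by omega)]
      ring
    · subst h
      rw [if_pos rfl, if_neg (lt_irrefl x), if_pos (Nat.lt_succ_self x)]
      ring
    · rw [if_neg (show k ≠ x by omega), if_neg (show ¬ x < k by omega),
        if_neg (show ¬ x < k + 1 by omega)]
      ring

theorem packW_zero (w : ℕ) : ∀ k, packW w (fun _ => 0) k = 0
  | 0 => rfl
  | k + 1 => by rw [packW_succ, packW_zero w k]; simp

theorem tally_eq : ∀ {l : List ℕ}, (∀ x ∈ l, x < 2048) →
    tally l = packW 16 (fun i => l.count i) 2048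
  | [], _ => (packW_zero 16 2048).symm
  | x :: l, h => by
    rw [tally, forceNat_eq, tally_eq fun y hy => h y (List.mem_cons_of_mem _ hy)]
    rw [show (fun i => (x :: l).count i) = fun i => l.count i + if i = x then 1 else 0 from
      funext fun i => by
        rcases eq_or_ne i x with rfl | hne
        · simp
        · simp [hne, hne.symm]]
    rw [packW_add_single, if_pos (h x List.mem_cons_self)]

theorem getW_tally {l : List ℕ} (h : ∀ x ∈ l, x < 2048) (hlen : l.length < 2 ^ 16) {y : ℕ}
    (hy : y < 2048) : getW 16 (tally l) y = l.count y := by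
  rw [tally_eq h]
  exact getW_packW (fun i _ => lt_of_le_of_lt List.count_le_length hlen) hy

theorem count_map_eq {α : Type*} (f : α → ℕ) (y : ℕ) : ∀ (l : List α),
    (l.map f).count y = (l.filter fun b => decide (f b = y)).length
  | [] => rfl
  | a :: l => by
    by_cases h : f a = y <;> simp [count_map_eq f y l, h]

/-- The count is the number of pairs. -/
theorem pairs_eq {Ln Ls zl tl : List ℕ} (hLn : ∀ x ∈ Ln, x < 2048) (hz : zl.Nodup) (ht : tl.Nodup)
    (hlen : tl.length < 2 ^ 16) :
    pairs Ln Ls zl tl = ((zl.toFinset ×ˢ tl.toFinset).filter fun p : ℕ × ℕ =>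
      combine Ln p.1 ^^^ combine Ln (combine Ls p.2) = 1).card := by
  rw [pairs, forceNat_eq, Finset.card_filter, Finset.sum_product,
    show (zl.map fun a => getW 16 (tally (tl.map fun b => combine Ln (combine Ls b)))
      (combine Ln a ^^^ 1)).foldr (fun a b => a + b) 0 =
      (zl.map fun a => getW 16 (tally (tl.map fun b => combine Ln (combine Ls b)))
      (combine Ln a ^^^ 1)).sum from rfl,
    List.sum_toFinset _ hz]
  refine congrArg List.sum (List.map_congr_left fun a _ => ?_)
  rw [getW_tally (fun x hx => ?_) (by rwa [List.length_map])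
    (Nat.xor_lt_two_pow (n := 11) (combine_lt hLn a) (by norm_num)), count_map_eq, ← Finset.card_filter,
    ← List.toFinset_card_of_nodup (ht.filter _)]
  · congr 1
    ext b
    simp only [List.mem_toFinset, List.mem_filter, decide_eq_true_eq, Finset.mem_filter]
    refine and_congr_right fun _ => ⟨fun h => ?_, fun h => ?_⟩
    · rw [h, ← Nat.xor_assoc, Nat.xor_self, Nat.zero_xor]
    · rw [← h, ← Nat.xor_assoc, Nat.xor_self, Nat.zero_xor]
  · simp only [List.mem_map] at hx
    obtain ⟨b, -, rfl⟩ := hx
    exact combine_lt hLn _

/-! ### linear maps -/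

theorem combine_id : ∀ a < 2048, combine ((List.range 11).map (2 ^ ·)) a = a := by
  have h : ((List.range 2048).all fun a =>
      Nat.beq (combine ((List.range 11).map (2 ^ ·)) a) a) = true := by decide +kernel
  intro a ha
  exact Nat.eq_of_beq_eq_true (List.all_eq_true.mp h a (List.mem_range.mpr ha))

theorem combine_map {f : ℕ → ℕ} (h0 : f 0 = 0) (hf : ∀ a b, f (a ^^^ b) = f a ^^^ f b) :
    ∀ (l : List ℕ) (a : ℕ), combine (l.map f) a = f (combine l a)
  | [], a => by simp [combine, h0]
  | r :: l, a => by
    rw [List.map_cons, combine, combine, hf, combine_map h0 hf l]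
    split <;> simp [h0]

theorem normV_zero (P : List ℕ) : ∀ m, normV P m 0 = 0
  | 0 => rfl
  | k + 1 => by rw [normV, normV_zero P k, combine_zero, Nat.xor_zero]

theorem normV_xor (P : List ℕ) : ∀ m a b, normV P m (a ^^^ b) = normV P m a ^^^ normV P m b
  | 0, _, _ => by simp [normV]
  | k + 1, a, b => by
    simp only [normV, normV_xor P k a b, combine_xor]
    ac_rfl

theorem normV_lt {P : List ℕ} (hP : ∀ x ∈ P, x < 2048) : ∀ m {c : ℕ}, c < 2048 → normV P m c < 2048
  | 0, _, _ => by simp [normV]
  | k + 1, _, hc => Nat.xor_lt_two_pow (n := 11) hc (combine_lt hP _)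

theorem normL_eq (p m : ℕ) {c : ℕ} (hc : c < 2048) :
    combine (normL p m) c = normV (imgL p) m c := by
  have h := combine_map (f := normV (imgL p) m) (normV_zero _ m) (normV_xor _ m)
    ((List.range 11).map (2 ^ ·)) c
  rw [List.map_map, combine_id c hc] at h
  exact h

theorem normL_lt (p m : ℕ) : ∀ x ∈ normL p m, x < 2048 := fun x hx => by
  simp only [normL, List.mem_map, List.mem_range] at hx
  obtain ⟨i, hi, rfl⟩ := hx
  exact normV_lt (imgL_lt p) m (Nat.pow_lt_pow_right (by norm_num) hi)

/-! ### search trees -/

theorem find_mem : ∀ {k : ℕ} {l : List ℕ} {x i : ℕ}, (buildR k l).find x = some i →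
    ∃ a ∈ l, a / 4096 = x ∧ a % 4096 = i := by
  intro k
  induction k with
  | zero => intro l x i h; simp [buildR, RTree.find] at h
  | succ k ih =>
    intro l x i h
    rw [buildR] at h
    split at h
    · simp [RTree.find] at h
    next a r hd =>
      rw [← List.take_append_drop (l.length / 2) l, hd]
      rw [RTree.find] at h
      cases h1 : Nat.blt x (a / 4096) with
      | true =>
        rw [h1, cond_true] at h
        obtain ⟨b, hb, hb'⟩ := ih h
        exact ⟨b, List.mem_append_left _ hb, hb'⟩
      | false =>
        rw [h1, cond_false] at h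
        cases h2 : Nat.blt (a / 4096) x with
        | true =>
          rw [h2, cond_true] at h
          obtain ⟨b, hb, hb'⟩ := ih h
          exact ⟨b, List.mem_append_right _ (List.mem_cons_of_mem _ hb), hb'⟩
        | false =>
          rw [h2, cond_false] at h
          rw [← Bool.not_eq_true, Nat.blt_eq] at h1 h2
          exact ⟨a, List.mem_append_right _ List.mem_cons_self, by omega, Option.some.inj h⟩

theorem invol_length : AtData.invol.length = 2872 := by decide +kernel

theorem find_keys {k x i : ℕ} (h : (buildR k keys).find x = some i) :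
    i < AtData.invol.length ∧ AtData.invol.getD i 0 = x := by
  obtain ⟨a, ha, h1, h2⟩ := find_mem h
  rw [keys, List.mem_iff_getElem] at ha
  obtain ⟨j, hj, rfl⟩ := ha
  simp only [List.length_zipWith, List.length_range, min_self] at hj
  have hj' : j < 4096 := lt_of_lt_of_le hj (by rw [invol_length]; norm_num)
  simp only [List.getElem_zipWith, List.getElem_range] at h1 h2
  have e : j = i := by omega
  subst e
  refine ⟨hj, ?_⟩
  rw [List.getD_eq_getElem _ _ hj]
  omega

theorem mem_invol_of_find {k x : ℕ} (h : ((buildR k keys).find x).isSome) : x ∈ AtData.invol := by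
  obtain ⟨i, hi⟩ := Option.isSome_iff_exists.mp h
  obtain ⟨hlt, hx⟩ := find_keys hi
  rw [← hx, List.getD_eq_getElem _ _ hlt]
  exact List.getElem_mem hlt

theorem markAll_spec {k : ℕ} : ∀ {l : List ℕ} {m r : ℕ}, markAll (buildR k keys) l m = some r →
    ∃ is : List ℕ, addAll is m = some r ∧ l = is.map (AtData.invol.getD · 0) ∧
      ∀ i ∈ is, i < AtData.invol.length
  | [], m, r, h => ⟨[], h, rfl, by simp⟩
  | c :: l, m, r, h => by
    rw [markAll] at h
    cases hf : (buildR k keys).find c with
    | none => rw [hf] at h; simp at h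
    | some i =>
      simp only [hf] at h
      cases hb : m.testBit i with
      | true => simp [hb] at h
      | false =>
        simp only [hb, cond_false, forceNat_eq] at h
        obtain ⟨is, h1, h2, h3⟩ := markAll_spec h
        obtain ⟨hlt, hx⟩ := find_keys hf
        refine ⟨i :: is, by simp [addAll, hb, h1], by rw [List.map_cons, hx, ← h2], ?_⟩
        intro j hj
        rcases List.mem_cons.mp hj with rfl | hj
        exacts [hlt, h3 j hj]

/-- A covering list is a rearrangement of the list of involutions. -/
theorem perm_of_cover {l : List ℕ} (h : coverOk l = true) : l.Perm AtData.invol := by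
  rw [coverOk] at h
  cases hm : markAll (buildR 14 keys) l 0 with
  | none => rw [hm] at h; simp at h
  | some r =>
    simp only [hm, Nat.beq_eq] at h
    obtain ⟨is, h1, rfl, h3⟩ := markAll_spec hm
    obtain ⟨hnd, hbit, -⟩ := addAll_spec h1
    have hp : is.Perm (List.range AtData.invol.length) := by
      refine (List.perm_ext_iff_of_nodup hnd List.nodup_range).mpr fun i => ?_
      rw [List.mem_range]
      refine ⟨h3 i, fun hi => ?_⟩
      have := (hbit i).mp (by rw [h, Nat.testBit_two_pow_sub_one]; simp [hi])
      simpa using this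
    refine (hp.map _).trans (List.Perm.of_eq ?_)
    refine List.ext_getElem (by simp) fun i h1 h2 => ?_
    rw [List.getElem_map, List.getElem_range]
    exact List.getD_eq_getElem _ _ h2

end Cfsg.Agent.Lib.J4Order.AtNum
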