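import Cfsg.Agent.Lib.J4Order.AtTypes

/-!
# The pairs over two coded involutions
-/

set_option autoImplicit false
set_option linter.unusedSectionVars false
set_option linter.constructorNameAsVariable false

namespace Cfsg.Agent.Lib.J4Order

open Cfsg Cfsg.Agent.Lib.Golay Cfsg.Agent.Lib.Computation
open Cfsg.Agent.Lib.FusionAlperin.MathieuCert (canon eq_of_gperm)
open AtCalc AtData AtNum

variable {G : Type*} [Group G] [Finite G] {z : G}

namespace NModel

variable (M : NModel z)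

open Classical in
/-- The pairs counted over two permutations. -/
noncomputable def fib (σ τ : ↥M24) : Finset (ℕ × ℕ) :=
  (Finset.range 2048 ×ˢ Finset.range 2048).filter fun p =>
    IsConj z (M.ev p.1 σ) ∧ (orderOf (M.ev p.2 τ) = 2 ∧ ¬ IsConj z (M.ev p.2 τ)) ∧
      M.ψ 1 ∈ Subgroup.zpowers (M.ev p.1 σ * M.ev p.2 τ)

theorem mem_fib {σ τ : ↥M24} {a b : ℕ} :
    (a, b) ∈ M.fib σ τ ↔ a < 2048 ∧ b < 2048 ∧ IsConj z (M.ev a σ) ∧
      (orderOf (M.ev b τ) = 2 ∧ ¬ IsConj z (M.ev b τ)) ∧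
        M.ψ 1 ∈ Subgroup.zpowers (M.ev a σ * M.ev b τ) := by
  simp only [fib, Finset.mem_filter, Finset.mem_product, Finset.mem_range, and_assoc]

theorem good_powC {p : ℕ} (hp : Good p) : ∀ j, Good (powC p j)
  | 0 => good_one
  | j + 1 => good_mulP hp (good_powC hp j)

theorem el_powC {p : ℕ} (hp : Good p) : ∀ j, el (powC p j) = el p ^ j
  | 0 => by rw [powC, el_one, pow_zero]
  | j + 1 => by rw [powC, el_mul hp (good_powC hp j), el_powC hp j, pow_succ']

theorem orderOf_el {p m : ℕ} (hp : Good p) (h : ordOk p m = true) : orderOf (el p) = m := by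
  simp only [ordOk, Bool.and_eq_true, Bool.or_eq_true, Bool.not_eq_true', ← Bool.not_eq_true,
    List.all_eq_true, List.mem_range, Nat.blt_eq, Nat.beq_eq] at h
  obtain ⟨⟨hm, h1⟩, h2⟩ := h
  refine (orderOf_eq_iff hm).mpr ⟨by rw [← el_powC hp, h1, el_one], fun j hj h0 e => ?_⟩
  rcases h2 j hj with rfl | ⟨hne, hcan⟩
  · omega
  · refine hne ?_
    rw [← el_powC hp, ← el_one] at e
    have e' := congrArg Subtype.val e
    rw [el_coe (good_powC hp j).2, el_coe good_one.2] at e'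
    exact eq_of_gperm (good_powC hp j).1 okCode_oneCode hcan (by decide +kernel) e'

theorem pow_ev {p c : ℕ} (hp : Good p) (hc : c < 2048) :
    ∀ j, M.ev c (el p) ^ j = M.ev (normV (imgL p) j c) (el p ^ j)
  | 0 => by rw [pow_zero, pow_zero, normV, M.ev_one_eq, M.ψ_zero]
  | j + 1 => by
    rw [pow_succ', pow_succ', pow_ev hp hc j, M.ev_mul hc (normV_lt (imgL_lt p) j hc) hp, normV]
    rfl

theorem one_mem_zpowers_iff {p c m : ℕ} (hp : Good p) (hc : c < 2048) (hm : orderOf (el p) = m) :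
    M.ψ 1 ∈ Subgroup.zpowers (M.ev c (el p)) ↔ normV (imgL p) m c = 1 := by
  have hN : normV (imgL p) m c < 2048 := normV_lt (imgL_lt p) m hc
  have hwm : M.ev c (el p) ^ m = M.ψ (normV (imgL p) m c) := by
    rw [M.pow_ev hp hc, ← hm, pow_orderOf_eq_one, M.ev_one_eq, hm]
  refine ⟨fun h => ?_, fun h => ?_⟩
  · rw [← mem_powers_iff_mem_zpowers, Submonoid.mem_powers_iff] at h
    obtain ⟨k, hk⟩ := h
    have hk' := hk
    rw [M.pow_ev hp hc, ← M.ev_one_eq] at hk'
    obtain ⟨j, rfl⟩ : m ∣ k := hm ▸ orderOf_dvd_of_pow_eq_one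
      (M.ev_inj (normV_lt (imgL_lt p) k hc) (by norm_num) hk').2
    rw [pow_mul, hwm, pow_eq_pow_mod j (show M.ψ (normV (imgL p) m c) ^ 2 = 1 by
      rw [pow_two, M.ψ_sq])] at hk
    rcases Nat.mod_two_eq_zero_or_one j with e | e
    · rw [e, pow_zero] at hk
      exact absurd hk.symm M.ψ_one_ne
    · rw [e, pow_one] at hk
      exact M.frame.inj _ _ hN (by norm_num) hk
  · rw [show M.ψ 1 = M.ev c (el p) ^ m by rw [hwm, h]]
    exact pow_mem (Subgroup.mem_zpowers _) m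

/-- The computed count is the size of the set of pairs. -/
theorem count_eq (o : Bool) (F : Fus M o) {s ks gs t kt gt m : ℕ}
    (hs : witOk s ks gs = true) (ht : witOk t kt gt = true)
    (hm : ordOk (mulP 24 5 s t) m = true) :
    (M.fib (el s) (el t)).card = count o s ks gs t kt gt m := by
  obtain ⟨hgs, hLs⟩ := M.lists_moved o F hs
  obtain ⟨hgt, hLt⟩ := M.lists_moved o F ht
  have hp : Good (mulP 24 5 s t) := good_mulP hgs hgt
  rw [count, pairs_eq (normL_lt _ _) hLs.nz hLt.nt hLt.len]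
  refine congrArg Finset.card (Finset.ext fun ⟨a, b⟩ => ?_)
  rw [M.mem_fib, Finset.mem_filter, Finset.mem_product, List.mem_toFinset, List.mem_toFinset,
    hLs.memz, hLt.memt]
  have key : a < 2048 → b < 2048 → (M.ψ 1 ∈ Subgroup.zpowers (M.ev a (el s) * M.ev b (el t)) ↔
      combine (normL (mulP 24 5 s t) m) a ^^^
        combine (normL (mulP 24 5 s t) m) (combine (imgL s) b) = 1) := fun ha hb => by
    have hb' : act s b < 2048 := act_lt s b
    rw [M.ev_mul ha hb hgs, ← el_mul hgs hgt,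
      M.one_mem_zpowers_iff hp (Nat.xor_lt_two_pow (n := 11) ha hb') (orderOf_el hp hm),
      normV_xor, normL_eq _ _ ha, normL_eq _ _ (show combine (imgL s) b < 2048 from hb')]
    rfl
  constructor
  · rintro ⟨ha, hb, h1, h2, h3⟩
    exact ⟨⟨⟨ha, h1⟩, hb, h2⟩, (key ha hb).mp h3⟩
  · rintro ⟨⟨⟨ha, h1⟩, hb, h2⟩, h3⟩
    exact ⟨ha, hb, h1, h2, (key ha hb).mpr h3⟩

/-- Conjugation by an element of the complement fixing the first vector. -/
theorem fib_conj {g : ℕ} (hg : Good g) (hbig : gperm g ∈ J4Local.AutModel.big) (σ τ : ↥M24) :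
    (M.fib (el g * σ * (el g)⁻¹) (el g * τ * (el g)⁻¹)).card = (M.fib σ τ).card := by
  have ht : M.κ (el g) * M.ψ 1 * (M.κ (el g))⁻¹ = M.ψ 1 := by
    have h : Commute (M.κ (el g)) (M.ψ 1) := by
      have := (M.commute_one_iff (a := 0) (σ := el g)).mpr (by rw [el_coe hg.2]; exact hbig)
      simpa [ev, M.ψ_zero] using this
    exact mul_inv_eq_iff_eq_mul.mpr h.eq
  have hz : ∀ w, M.ψ 1 ∈ Subgroup.zpowers w ↔
      M.ψ 1 ∈ Subgroup.zpowers (M.κ (el g) * w * (M.κ (el g))⁻¹) := fun w => by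
    conv_rhs => rw [← ht]
    simp only [Subgroup.mem_zpowers_iff, conj_zpow]
    exact exists_congr fun k => ⟨fun h => by rw [h], fun h => mul_left_cancel (mul_right_cancel h)⟩
  have e : ∀ {a} (σ : ↥M24), a < 2048 →
      M.κ (el g) * M.ev a σ * (M.κ (el g))⁻¹ = M.ev (act g a) (el g * σ * (el g)⁻¹) :=
    fun {a} σ ha => M.conj_ev hg ha
  have em : ∀ u w, M.κ (el g) * (u * w) * (M.κ (el g))⁻¹ =
      M.κ (el g) * u * (M.κ (el g))⁻¹ * (M.κ (el g) * w * (M.κ (el g))⁻¹) := fun u w => by group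
  refine (Finset.card_bij (fun p _ => (act g p.1, act g p.2)) ?_ ?_ ?_).symm
  · rintro ⟨a, b⟩ h
    rw [M.mem_fib] at h ⊢
    obtain ⟨ha, hb, h1, h2, h3⟩ := h
    rw [← e σ ha, ← e τ hb, ← em, ← hz, isConj_conj, isConj_conj, orderOf_conjugate]
    exact ⟨act_lt g a, act_lt g b, h1, h2, h3⟩
  · rintro ⟨a, b⟩ h ⟨a', b'⟩ h' he
    rw [M.mem_fib] at h h'
    simp only [Prod.mk.injEq] at he
    exact Prod.ext (M.act_inj hg h.1 h'.1 he.1) (M.act_inj hg h.2.1 h'.2.1 he.2)
  · rintro ⟨x, y⟩ h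
    rw [M.mem_fib] at h
    obtain ⟨a, ha, rfl⟩ := M.act_surj hg h.1
    obtain ⟨b, hb, rfl⟩ := M.act_surj hg h.2.1
    refine ⟨(a, b), ?_, rfl⟩
    have h1 := h.2.2.1
    have h2 := h.2.2.2.1
    have h3 := h.2.2.2.2
    rw [← e σ ha, ← e τ hb, ← em, ← hz] at h3
    rw [← e σ ha, isConj_conj] at h1
    rw [← e τ hb, isConj_conj, orderOf_conjugate] at h2
    rw [M.mem_fib]
    exact ⟨ha, hb, h1, h2, h3⟩

end NModel

end Cfsg.Agent.Lib.J4Order
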