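import Cfsg.Agent.Lib.J4Order.AtChecks
import Cfsg.Agent.Lib.J4Order.AtNum

/-!
# Which of the involutions over a coded permutation are conjugate to `z`
-/

set_option autoImplicit false
set_option linter.unusedSectionVars false
set_option linter.style.haveILetI false

namespace Cfsg.Agent.Lib.J4Order

open Cfsg Cfsg.Agent.Lib.Golay Cfsg.Agent.Lib.Computation
open Cfsg.Agent.Lib.J4Big.Cocode (addAll addAll_spec dGood)
open AtCalc AtData

variable {G : Type*} [Group G] [Finite G] {z : G}

/-- The classes of the four standard involutions outside the `2^11`. -/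
structure Fus (M : NModel z) (o : Bool) : Prop where
  ord_z : orderOf z = 2
  zA : IsConj z (M.ev 0 (el stdA))
  tA : ¬ IsConj z (M.ev outA (el stdA))
  pB : IsConj z (M.ev 0 (el stdB)) ↔ o = true
  qB : IsConj z (M.ev outB (el stdB)) ↔ o = false

theorem isConj_conj {a h v : G} : IsConj a (h * v * h⁻¹) ↔ IsConj a v := by
  have e : IsConj v (h * v * h⁻¹) := isConj_iff.mpr ⟨h, rfl⟩
  exact ⟨fun H => H.trans e.symm, fun H => H.trans e⟩

theorem orderOf_conjugate (h v : G) : orderOf (h * v * h⁻¹) = orderOf v :=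
  orderOf_injective (MulAut.conj h).toMonoidHom (MulAut.conj h).injective v

theorem sq_of_isConj {x : G} (hz : orderOf z = 2) (h : IsConj z x) : x * x = 1 := by
  obtain ⟨n, rfl⟩ := isConj_iff.mp h
  have : z * z = 1 := by rw [← pow_two, ← hz, pow_orderOf_eq_one]
  rw [show n * z * n⁻¹ * (n * z * n⁻¹) = n * (z * z) * n⁻¹ by group, this]
  group

theorem el_ne_one {c : ℕ} (hc : Good c) (h : getW 5 c 23 = 0) : el c ≠ 1 := fun e => by
  have e' := congrArg (fun σ : ↥M24 => idx ((σ : Equiv.Perm GolayPt) none)) e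
  simp only [el_coe hc.2, Subgroup.coe_one, Equiv.Perm.one_apply] at e'
  rw [idx_gperm hc.1, show idx (none : GolayPt) = 23 from rfl, h] at e'
  omega

theorem zero_lt_2048 : (0 : ℕ) < 2048 := by norm_num

namespace NModel

variable (M : NModel z)

theorem ev_one_eq (a : ℕ) : M.ev a 1 = M.ψ a := by simp [ev]

theorem psi_eq_one {a : ℕ} (ha : a < 2048) : M.ψ a = 1 ↔ a = 0 :=
  ⟨fun h => M.frame.inj a 0 ha zero_lt_2048 (h.trans M.ψ_zero.symm), fun h => h ▸ M.ψ_zero⟩

theorem ev_sq_iff {a c : ℕ} (ha : a < 2048) (hc : Good c) (h2 : el c * el c = 1) :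
    M.ev a (el c) * M.ev a (el c) = 1 ↔ act c a = a := by
  rw [M.ev_mul ha ha hc, h2, M.ev_one_eq,
    M.psi_eq_one (Nat.xor_lt_two_pow (n := 11) ha (act_lt c a))]
  constructor
  · intro h
    calc act c a = a ^^^ (a ^^^ act c a) := by rw [← Nat.xor_assoc, Nat.xor_self, Nat.zero_xor]
      _ = a := by rw [h, Nat.xor_zero]
  · intro h
    rw [h, Nat.xor_self]

include M in
theorem act_inj {g : ℕ} (hg : Good g) {a b : ℕ} (ha : a < 2048) (hb : b < 2048)
    (h : act g a = act g b) : a = b := by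
  have e := congrArg M.ψ h
  rw [← M.conj_el hg ha, ← M.conj_el hg hb] at e
  exact M.frame.inj a b ha hb (mul_left_cancel (mul_right_cancel e))

include M in
theorem act_surj {g : ℕ} (hg : Good g) {x : ℕ} (hx : x < 2048) : ∃ a < 2048, act g a = x := by
  have hb := (Finite.injective_iff_surjective (f := fun i : Fin 2048 =>
    (⟨act g i, act_lt g i⟩ : Fin 2048))).mp fun i j h =>
      Fin.ext (M.act_inj hg i.2 j.2 (congrArg Fin.val h))
  obtain ⟨a, ha⟩ := hb ⟨x, hx⟩
  exact ⟨a, a.2, congrArg Fin.val ha⟩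

/-- The two families of fixed vectors of a standard involution. -/
theorem std_family {c y : ℕ} {bs gs : List ℕ} {rs : List (ℕ × ℕ)}
    (hok : stdOk c y bs gs rs (comList c bs) (restList c y gs rs) = true) (hne : el c ≠ 1) :
    (comList c bs ++ restList c y gs rs).Nodup ∧
      (∀ a ∈ comList c bs, a < 2048 ∧ orderOf (M.ev a (el c)) = 2 ∧
        (IsConj z (M.ev a (el c)) ↔ IsConj z (M.ev 0 (el c)))) ∧
      (∀ a ∈ restList c y gs rs, a < 2048 ∧ orderOf (M.ev a (el c)) = 2 ∧
        (IsConj z (M.ev a (el c)) ↔ IsConj z (M.ev y (el c)))) ∧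
      ∀ a < 2048, M.ev a (el c) * M.ev a (el c) = 1 →
        a ∈ comList c bs ∨ a ∈ restList c y gs rs := by
  simp only [stdOk, Bool.and_eq_true, List.all_eq_true, Nat.beq_eq, Nat.blt_eq] at hok
  obtain ⟨⟨⟨⟨⟨⟨⟨hin, hcc⟩, hy⟩, hyf⟩, hgs⟩, hbs⟩, hrs⟩, hcov⟩ := hok
  have hc : Good c := good_of_inM24 hin
  have h2 : el c * el c = 1 := by rw [← el_mul hc hc, hcc, el_one]
  have hord : ∀ {a}, a < 2048 → act c a = a → orderOf (M.ev a (el c)) = 2 := fun {a} ha hf => by
    haveI := Fact.mk Nat.prime_two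
    refine orderOf_eq_prime (by rw [pow_two]; exact (M.ev_sq_iff ha hc h2).mpr hf) fun h => hne ?_
    exact (M.ev_inj ha zero_lt_2048 (τ := 1) (by rw [h, M.ev_one_eq, M.ψ_zero])).2
  refine ⟨?_, ?_, ?_, fun a ha hsq => ?_⟩
  · cases he : addAll (comList c bs ++ restList c y gs rs) 0 with
    | none => rw [he] at hcov; simp at hcov
    | some r => exact (addAll_spec he).1
  · intro a hmem
    simp only [comList, List.mem_map] at hmem
    obtain ⟨b, hb, rfl⟩ := hmem
    have hb' : b < 2048 := hbs b hb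
    have e := M.conj_ev_psi zero_lt_2048 hb' hc
    rw [Nat.xor_zero] at e
    refine ⟨Nat.xor_lt_two_pow (n := 11) hb' (act_lt c b), ?_, ?_⟩
    · rw [← e, orderOf_conjugate]
      exact hord zero_lt_2048 (act_zero c)
    · rw [← e, isConj_conj]
  · intro a hmem
    simp only [restList, List.mem_map] at hmem
    obtain ⟨⟨j, b⟩, hq, rfl⟩ := hmem
    obtain ⟨hj, hb'⟩ := hrs _ hq
    simp only at hj hb' ⊢
    rw [List.getD_eq_getElem _ _ hj]
    obtain ⟨hgin, hgc⟩ := hgs _ (List.getElem_mem hj)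
    have hg : Good gs[j] := good_of_inM24 hgin
    have e := M.conj_ev_psi (act_lt gs[j] y) hb' hc
    rw [Nat.xor_comm b (act gs[j] y)] at e
    have hcom : el gs[j] * el c * (el gs[j])⁻¹ = el c := by
      rw [← el_mul hg hc, hgc, el_mul hc hg, mul_inv_cancel_right]
    have e2 := M.conj_ev (σ := el c) hg hy
    rw [hcom] at e2
    refine ⟨Nat.xor_lt_two_pow (n := 11) (Nat.xor_lt_two_pow (n := 11) (act_lt _ _) hb') (act_lt _ _),
      ?_, ?_⟩
    · rw [← e, orderOf_conjugate, ← e2, orderOf_conjugate]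
      exact hord hy hyf
    · rw [← e, isConj_conj, ← e2, isConj_conj]
  · cases he : addAll (comList c bs ++ restList c y gs rs) 0 with
    | none => rw [he] at hcov; simp at hcov
    | some r =>
      rw [he] at hcov
      simp only [List.all_eq_true, List.mem_range, Bool.or_eq_true, Bool.not_eq_true',
        ← Bool.not_eq_true, Nat.beq_eq] at hcov
      rcases hcov a ha with h | h
      · exact absurd ((M.ev_sq_iff ha hc h2).mp hsq) h
      · rcases ((addAll_spec he).2.1 a).mp h with h | h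
        · simp at h
        · exact List.mem_append.mp h

/-- The lists describe the two classes. -/
structure Lists (M : NModel z) (σ : ↥M24) (zl tl : List ℕ) : Prop where
  nz : zl.Nodup
  nt : tl.Nodup
  len : tl.length < 2 ^ 16
  memz : ∀ a, a ∈ zl ↔ a < 2048 ∧ IsConj z (M.ev a σ)
  memt : ∀ a, a ∈ tl ↔ a < 2048 ∧ orderOf (M.ev a σ) = 2 ∧ ¬ IsConj z (M.ev a σ)

theorem length_small {l : List ℕ} (hn : l.Nodup) (h : ∀ a ∈ l, a < 2048) : l.length < 2 ^ 16 := by
  have h1 : l ⊆ List.range 2048 := fun a ha => List.mem_range.mpr (h a ha)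
  have := (hn.subperm h1).length_le
  rw [List.length_range] at this
  omega

/-- The lists of a standard involution with the classes of the two families known. -/
theorem lists_of_family {c y : ℕ} {xl yl : List ℕ} (hz : orderOf z = 2)
    (hf : (xl ++ yl).Nodup ∧
      (∀ a ∈ xl, a < 2048 ∧ orderOf (M.ev a (el c)) = 2 ∧
        (IsConj z (M.ev a (el c)) ↔ IsConj z (M.ev 0 (el c)))) ∧
      (∀ a ∈ yl, a < 2048 ∧ orderOf (M.ev a (el c)) = 2 ∧
        (IsConj z (M.ev a (el c)) ↔ IsConj z (M.ev y (el c)))) ∧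
      ∀ a < 2048, M.ev a (el c) * M.ev a (el c) = 1 → a ∈ xl ∨ a ∈ yl)
    (hx : IsConj z (M.ev 0 (el c))) (hy : ¬ IsConj z (M.ev y (el c))) :
    Lists M (el c) xl yl := by
  obtain ⟨hnd, hX, hY, hcov⟩ := hf
  have hsq : ∀ {a}, orderOf (M.ev a (el c)) = 2 → M.ev a (el c) * M.ev a (el c) = 1 := fun {a} h => by
    rw [← pow_two, ← h, pow_orderOf_eq_one]
  refine ⟨hnd.of_append_left, hnd.of_append_right,
    length_small hnd.of_append_right fun a ha => (hY a ha).1, fun a => ?_, fun a => ?_⟩
  · refine ⟨fun h => ⟨(hX a h).1, (hX a h).2.2.mpr hx⟩, fun ⟨ha, h⟩ => ?_⟩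
    rcases hcov a ha (sq_of_isConj hz h) with h' | h'
    · exact h'
    · exact absurd ((hY a h').2.2.mp h) hy
  · refine ⟨fun h => ⟨(hY a h).1, (hY a h).2.1, fun h' => hy ((hY a h).2.2.mp h')⟩,
      fun ⟨ha, h2, h⟩ => ?_⟩
    rcases hcov a ha (hsq h2) with h' | h'
    · exact absurd ((hX a h').2.2.mpr hx) h
    · exact h'

theorem lists_std (o : Bool) (F : Fus M o) {k : ℕ} (hk : k < 3) :
    Lists M (el (std k)) (zStd o k) (tStd o k) := by
  have ht := AtChecks.total_ok
  simp only [totalOk, Bool.and_eq_true, Nat.beq_eq] at ht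
  have hA : el stdA ≠ 1 := el_ne_one
    (good_of_inM24 (by have := AtChecks.std_A; simp only [stdOk, Bool.and_eq_true] at this; exact this.1.1.1.1.1.1.1)) ht.2
  have hB : el stdB ≠ 1 := el_ne_one
    (good_of_inM24 (by have := AtChecks.std_B; simp only [stdOk, Bool.and_eq_true] at this; exact this.1.1.1.1.1.1.1)) ht.1.2
  interval_cases k
  · have hd1 : ∀ a, a < 2048 → dGood.testBit a = true → a ≠ 0 := fun a _ h e => by
      subst e
      exact absurd h (by decide +kernel)
    refine ⟨List.nodup_range.filter _, List.nodup_range.filter _,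
      length_small (List.nodup_range.filter _) fun a ha => List.mem_range.mp (List.mem_filter.mp ha).1,
      fun a => ?_, fun a => ?_⟩
    · simp only [std, el_one, M.ev_one_eq, zStd, sextets, List.mem_filter, List.mem_range, Bool.and_eq_true,
        Bool.not_eq_true', ← Bool.not_eq_true, Nat.beq_eq]
      refine and_congr_right fun ha => ⟨fun ⟨h0, hd⟩ => ?_, fun h => ⟨?_, ?_⟩⟩
      · by_contra hc
        exact hd ((M.frame.mem_D a ha).mp ⟨M.ψ_mem a, fun e => h0 ((M.psi_eq_one ha).mp e), hc⟩)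
      · rintro rfl
        rw [M.ψ_zero, isConj_one_left] at h
        have h2 := F.ord_z
        rw [h, orderOf_one] at h2
        exact absurd h2 (by norm_num)
      · exact fun hd => ((M.frame.mem_D a ha).mpr hd).2.2 h
    · simp only [std, el_one, M.ev_one_eq, tStd, duads, List.mem_filter, List.mem_range]
      refine and_congr_right fun ha => ⟨fun hd => ?_, fun ⟨h2, h⟩ => ?_⟩
      · refine ⟨?_, ((M.frame.mem_D a ha).mpr hd).2.2⟩
        haveI := Fact.mk Nat.prime_two
        exact orderOf_eq_prime (by rw [pow_two]; exact M.ψ_sq a) ((M.frame.mem_D a ha).mpr hd).2.1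
      · refine (M.frame.mem_D a ha).mp ⟨M.ψ_mem a, fun e => ?_, h⟩
        rw [e, orderOf_one] at h2
        exact absurd h2 (by norm_num)
  · exact M.lists_of_family F.ord_z (M.std_family AtChecks.std_A hA) F.zA F.tA
  · have hf := M.std_family AtChecks.std_B hB
    cases o with
    | true => exact M.lists_of_family F.ord_z hf (F.pB.mpr rfl) fun h => by simpa using F.qB.mp h
    | false =>
      obtain ⟨hnd, hX, hY, hcov⟩ := hf
      have hx : ¬ IsConj z (M.ev 0 (el stdB)) := fun h => by simpa using F.pB.mp h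
      have hy : IsConj z (M.ev outB (el stdB)) := F.qB.mpr rfl
      refine ⟨hnd.of_append_right, hnd.of_append_left,
        length_small hnd.of_append_left fun a ha => (hX a ha).1, fun a => ?_, fun a => ?_⟩
      · refine ⟨fun h => ⟨(hY a h).1, (hY a h).2.2.mpr hy⟩, fun ⟨ha, h⟩ => ?_⟩
        rcases hcov a ha (sq_of_isConj F.ord_z h) with h' | h'
        · exact absurd ((hX a h').2.2.mp h) hx
        · exact h'
      · refine ⟨fun h => ⟨(hX a h).1, (hX a h).2.1, fun h' => hx ((hX a h).2.2.mp h')⟩,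
          fun ⟨ha, h2, h⟩ => ?_⟩
        rcases hcov a ha (by rw [← pow_two, ← h2]; exact pow_orderOf_eq_one _) with h' | h'
        · exact h'
        · exact absurd ((hY a h').2.2.mpr hy) h

theorem good_std {k : ℕ} (hk : k < 3) : Good (std k) := by
  interval_cases k
  · exact good_one
  · have := AtChecks.std_A
    simp only [stdOk, Bool.and_eq_true] at this
    exact good_of_inM24 this.1.1.1.1.1.1.1
  · have := AtChecks.std_B
    simp only [stdOk, Bool.and_eq_true] at this
    exact good_of_inM24 this.1.1.1.1.1.1.1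

/-- The lists over any coded involution with a conjugator. -/
theorem lists_moved (o : Bool) (F : Fus M o) {c k g : ℕ} (h : witOk c k g = true) :
    Good c ∧ Lists M (el c) (moveL g (zStd o k)) (moveL g (tStd o k)) := by
  simp only [witOk, Bool.and_eq_true, Nat.blt_eq, Nat.beq_eq] at h
  obtain ⟨⟨⟨hc, hg⟩, hk⟩, he⟩ := h
  replace hc := good_of_inM24 hc
  replace hg := good_of_inM24 hg
  have hL := M.lists_std o F hk
  have hconj : el g * el (std k) * (el g)⁻¹ = el c := by
    rw [← el_mul hg (good_std hk), he, el_mul hc hg, mul_inv_cancel_right]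
  have hev : ∀ {a}, a < 2048 → M.κ (el g) * M.ev a (el (std k)) * (M.κ (el g))⁻¹ =
      M.ev (act g a) (el c) := fun {a} ha => by rw [M.conj_ev hg ha, hconj]
  have hmv : ∀ l : List ℕ, moveL g l = l.map (act g) := fun l => rfl
  rw [hmv, hmv]
  have hzlt : ∀ a ∈ zStd o k, a < 2048 := fun a ha => ((hL.memz a).mp ha).1
  have htlt : ∀ a ∈ tStd o k, a < 2048 := fun a ha => ((hL.memt a).mp ha).1
  refine ⟨hc, ⟨hL.nz.map_on (fun a ha b hb e => M.act_inj hg (hzlt a ha) (hzlt b hb) e),
    hL.nt.map_on (fun a ha b hb e => M.act_inj hg (htlt a ha) (htlt b hb) e),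
    by rw [List.length_map]; exact hL.len, fun x => ?_, fun x => ?_⟩⟩
  · rw [List.mem_map]
    constructor
    · rintro ⟨a, ha, rfl⟩
      obtain ⟨h1, h2⟩ := (hL.memz a).mp ha
      exact ⟨act_lt g a, by rw [← hev h1, isConj_conj]; exact h2⟩
    · rintro ⟨hx, h2⟩
      obtain ⟨a, ha, rfl⟩ := M.act_surj hg hx
      rw [← hev ha, isConj_conj] at h2
      exact ⟨a, (hL.memz a).mpr ⟨ha, h2⟩, rfl⟩
  · rw [List.mem_map]
    constructor
    · rintro ⟨a, ha, rfl⟩
      obtain ⟨h1, h2⟩ := (hL.memt a).mp ha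
      exact ⟨act_lt g a, by rw [← hev h1, isConj_conj, orderOf_conjugate]; exact h2⟩
    · rintro ⟨hx, h2⟩
      obtain ⟨a, ha, rfl⟩ := M.act_surj hg hx
      rw [← hev ha, isConj_conj, orderOf_conjugate] at h2
      exact ⟨a, (hL.memt a).mpr ⟨ha, h2⟩, rfl⟩

end NModel

end Cfsg.Agent.Lib.J4Order
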