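import Cfsg.Agent.Lib.J4Order.AtCalc
import Cfsg.Agent.Lib.J4Big.Cert2

/-!
# The checks on pairs of involutions of `Aut M22` and the 77 conjugates of the hexad subgroup
-/

set_option autoImplicit false

namespace Cfsg.Agent.Lib.J4Order.AzCalc

open Cfsg.Agent.Lib.Golay Cfsg.Agent.Lib.Computation Cfsg.Agent.Lib.J4Big
open Cfsg.Agent.Lib.J4Big.Codes
open AtCalc AtData

/-- The representatives of the conjugates are told apart by their keys. -/
def hexKeysOk : Bool := distinct (Data2.hRep.map fun q => keyOf q Data.uhL)

/-- The test for normalising the conjugate `j`, on an involution. -/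
def normJ (a j : ℕ) : Bool :=
  Nat.beq (keyOf2 (a, a) (Data2.hRep.getD j (0, 0)) Data.uhL)
    (keyOf (Data2.hRep.getD j (0, 0)) Data.uhL)

/-- The conjugates normalised by both. -/
def hexN (a b : ℕ) : ℕ := ((List.range 77).filter fun j => normJ a j && normJ b j).length

/-- Inner. -/
def innC (c : ℕ) : Bool := Nat.beq (getW 5 c 23) 23

/-- The numbers which occur, the common number of a pair and its conditions. -/
def pairOkB (one hb : ℕ) (b : Block) (r : Root) : Bool :=
  let n := r.ord
  let h := hexN b.code r.code
  let ib := innC b.code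
  let ir := innC r.code
  let e := Nat.beq b.code one
  let hasC := Nat.beq (n % 2) 0 && innC (powC (mulP 24 5 b.code r.code) (n / 2))
  [0, 1, 2, 3, 5, 9, 13, 21, 77].contains h &&
    (!Nat.beq h 0 || hasC || (!ib && Nat.beq hb 5) || (ib && !e && !ir && Nat.beq n 10)) &&
    (!Nat.beq n 2 || !Nat.beq h 0) &&
    (!(ib && ir && Nat.beq n 3) || Nat.beq h 3) &&
    (!(ib && ir && Nat.beq n 5) || Nat.beq h 2) &&
    (!(!ib && Nat.beq hb 21 && Nat.beq n 3) || Nat.beq h 5)

/-- All pairs. -/
def tableOk (b : Block) : Bool :=
  forceNat (hexN b.code b.code) fun hb =>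
    pairOk (b.code, b.code) &&
    (bif innC b.code then Nat.beq b.code oneCode || Nat.beq hb 13 else Nat.beq hb 5 || Nat.beq hb 21) &&
    b.roots.all (fun r => pairOk (r.code, r.code) && pairOkB oneCode hb b r)

/-- The orbit with five fixed conjugates. -/
def fiveOk : Bool :=
  (blocks.all fun b => innC b.code || !Nat.beq (hexN b.code b.code) 5 || Nat.beq b.code block3.code) &&
    Nat.beq (tour gens block3.code block3.prog).length 1386 && Nat.beq (hexN block3.code block3.code) 5 &&
    !innC block3.code

end Cfsg.Agent.Lib.J4Order.AzCalc
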