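import Cfsg.Agent.Lib.J4Order.AzCalc

/-!
# The checks on pairs of involutions of `Aut M22`, run
-/

set_option autoImplicit false
set_option maxRecDepth 100000

namespace Cfsg.Agent.Lib.J4Order.AzChecks

open AzCalc AtData

theorem keys_ok : hexKeysOk = true := by decide +kernel

theorem table0 : tableOk block0 = true := by decide +kernel

theorem table1 : tableOk block1 = true := by decide +kernel

theorem table2 : tableOk block2 = true := by decide +kernel

theorem table3 : tableOk block3 = true := by decide +kernel

theorem five_ok : fiveOk = true := by decide +kernel

end Cfsg.Agent.Lib.J4Order.AzChecks
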