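import Cfsg.Agent.Lib.J4Order.AzSum

/-!
# The order of the group from the facts on the pairs in the model
-/

set_option autoImplicit false
set_option linter.unusedSectionVars false

namespace Cfsg.Agent.Lib.J4Order

open Cfsg Cfsg.Agent.Lib.J4Local Cfsg.Agent.Lib.J4Big
open AzPairs

variable {G : Type*} [Group G] [Finite G] [IsSimpleGroup G] {z : G}

/-- The order of the group, given the three facts on the pairs over the hexad normaliser. -/
theorem card_eq_of_model (hG : ¬ IsMulCommutative G) (hJ : Cfsg.IsOfJankoFourTypeAt z)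
    (h67 : ∀ V : Subgroup G, Cfsg.IsElementaryAbelian 2 V → Nat.card ↥V = 2 ^ 11 →
      Subgroup.centralizer (V : Set G) ≤ V ∧ ∃ K : Subgroup G,
        K ≤ Subgroup.normalizer (V : Set G) ∧ K ⊓ V = ⊥ ∧
        K ⊔ V = Subgroup.normalizer (V : Set G) ∧ Cfsg.Spor.IsoM24 ↥K)
    (h69 : ∀ t : G, orderOf t = 2 → ¬ IsConj z t → ∃ V K : Subgroup G,
      V ≤ Subgroup.centralizer ({t} : Set G) ∧ K ≤ Subgroup.centralizer ({t} : Set G) ∧
      Subgroup.centralizer ({t} : Set G) ≤ Subgroup.normalizer (V : Set G) ∧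
      Cfsg.IsElementaryAbelian 2 V ∧ Nat.card ↥V = 2 ^ 11 ∧ K ⊓ V = ⊥ ∧
      K ⊔ V = Subgroup.centralizer ({t} : Set G) ∧ Nonempty (↥K ≃* MulAut ↥Cfsg.Spor.M22))
    (hmodel : ∀ (p : G) (S : Setting z p) (M : NModel z),
      M.V = vv S Cert2.normConfig.toBigConfig → M.ψ 7 = z → ∀ o, Fus M o →
        NoFive S ∧ NoMixed S ∧
          ∑ q ∈ goodM S, wt (S.img q.1) (S.img q.2) = 34206514673760) :
    Nat.card G = 86775571046077562880 := by
  obtain ⟨p, S⟩ := Setting.of_at hJ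
  have F := autFacts
  obtain ⟨hc, h2, -⟩ := vv_facts S F Cert2.normConfig.toBigConfig
  obtain ⟨-, K, -, hKV, hsup, -⟩ := h67 _ ⟨⟨⟨fun a b => Subtype.ext (comm_of_sq h2 a.2 b.2)⟩⟩,
    fun v hv => by rw [pow_two]; exact h2 v hv⟩ hc
  have hE := S.exists_fused hG F
  obtain ⟨M, hMV, h7⟩ := exists_nModel_seven S F Cert2.normConfig Cert2.meetConfig hE hKV hsup
  obtain ⟨o, hF⟩ := M.exists_fus S F Cert2.normConfig hMV h7 hE Cert2.meetConfig
  obtain ⟨h5, hmix, hsum⟩ := hmodel p S M hMV h7 o hF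
  exact card_eq_of_count hG hJ h67 h69 fun _ _ _ _ => Or.inl (card_good S h5 hmix hsum)

end Cfsg.Agent.Lib.J4Order
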