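import Cfsg.Agent.Lib.J4Order.LabelData
import Cfsg.Agent.Lib.J4Order.AtChecks
import Cfsg.Agent.Lib.M24Classes.Coset

/-!
# The checks for the labels of the four classes outside the `2^11`
-/

set_option autoImplicit false

namespace Cfsg.Agent.Lib.J4Order.LabelCalc

open Cfsg.Agent.Lib.Golay Cfsg.Agent.Lib.Computation
open Cfsg.Agent.Lib.J4Big.Cocode (dGood spanL noRep piL)
open Cfsg.Agent.Lib.FusionAlperin.MathieuCert (canon)
open Cfsg.Agent.Lib.M24Classes.Coset (cosetCodes base4)
open LabelData AtCalc

/-- The part inside the `2^11`. -/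
def coreW : List ℕ := spanL coreBasis

/-- One of two values. -/
def eitherOf (a b x : ℕ) : Bool := Nat.beq x a || Nat.beq x b

/-- The check on the core. -/
def coreOk : Bool :=
  (sextDuads.all fun d => Nat.blt d 2048 && dGood.testBit d && dGood.testBit (d ^^^ 7)) &&
    (coreBasis.all fun d => sextDuads.any fun e => Nat.beq e d) &&
    (coreW.all fun a => Nat.blt a 2048) && noRep coreW && Nat.beq coreW.length 128 &&
    sextDuads.any (fun d => Nat.beq d 1) && sextDuads.any (fun d => Nat.beq d 2) &&
    sextDuads.any (fun d => Nat.beq d 4)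

/-- The code keeps every duad of the sextet up to the complementary one. -/
def testD (c : ℕ) : Bool := sextDuads.all fun d => eitherOf d (d ^^^ 7) (act c d)

/-- An index of the first tetrad. -/
def inT0 (a : ℕ) : Bool := base4.any fun i => Nat.beq i a

/-- Only points of the first tetrad give its duads. -/
def scanOk : Bool :=
  (List.range 24).all fun a => (List.range 24).all fun b =>
    !(eitherOf 1 6 (piL.getD a 0 ^^^ piL.getD b 0) || eitherOf 2 5 (piL.getD a 0 ^^^ piL.getD b 0) ||
        eitherOf 4 3 (piL.getD a 0 ^^^ piL.getD b 0)) || (inT0 a && inT0 b)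

/-- The images of the first tetrad. -/
def imgsEq (h a b c d : ℕ) : Bool :=
  Nat.beq (getW 5 h 23) a && Nat.beq (getW 5 h 0) b && Nat.beq (getW 5 h 1) c && Nat.beq (getW 5 h 2) d

/-- The listed representatives cover the possible actions on the first tetrad. -/
def tupleOk : Bool :=
  base4.all fun a => base4.all fun b => base4.all fun c => base4.all fun d =>
    !(eitherOf 1 6 (piL.getD a 0 ^^^ piL.getD b 0) && eitherOf 2 5 (piL.getD a 0 ^^^ piL.getD c 0) &&
        eitherOf 4 3 (piL.getD a 0 ^^^ piL.getD d 0) && !Nat.beq b c && !Nat.beq b d && !Nat.beq c d) ||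
      tetReps.any fun h => imgsEq h a b c d

/-- The representatives are in the group of the code. -/
def tetOk : Bool := tetReps.all inM24

/-- The codes with one action on the first tetrad keeping the duads are listed. -/
def cosetOk (h : ℕ) : Bool :=
  (cosetCodes h).all fun c => !testD c || imageRows.any fun r => Nat.beq r.1 (canon c)

/-- A mask of a list. -/
def maskOf (l : List ℕ) : ℕ := l.foldr (fun a m => m ||| 2 ^ a) 0

/-- The members of the core in a list. -/
def countIn (l : List ℕ) : ℕ :=
  forceNat (maskOf l) fun m => (coreW.filter fun a => m.testBit a).length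

/-- A row. -/
def rowOk (r : ℕ × ℕ × ℕ × ℕ × ℕ) : Bool :=
  witOk r.1 r.2.1 r.2.2.1 && Nat.beq (canon r.1) r.1 &&
    (bif Nat.beq r.2.1 0 then Nat.beq r.1 oneCode && Nat.beq r.2.2.2.1 0 && Nat.beq r.2.2.2.2 0
     else Nat.beq (countIn (moveL r.2.2.1 (zStd true r.2.1))) r.2.2.2.1 &&
      Nat.beq (countIn (moveL r.2.2.1 (tStd true r.2.1))) r.2.2.2.2)

/-- The totals. -/
def sumsOk : Bool :=
  Nat.beq imageRows.length 64 &&
    ((List.zip (imageRows.map (·.1)) (imageRows.map (·.1)).tail).all fun q => Nat.blt q.1 q.2) &&
    Nat.beq ((imageRows.filter fun r => Nat.beq r.2.1 0).length) 1 &&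
    Nat.beq ((imageRows.filter fun r => Nat.beq r.2.1 1).map fun r => r.2.2.2.1).sum 720 &&
    Nat.beq ((imageRows.filter fun r => Nat.beq r.2.1 1).map fun r => r.2.2.2.2).sum 2160 &&
    Nat.beq ((imageRows.filter fun r => Nat.beq r.2.1 2).map fun r => r.2.2.2.1).sum 576 &&
    Nat.beq ((imageRows.filter fun r => Nat.beq r.2.1 2).map fun r => r.2.2.2.2).sum 576 &&
    Nat.beq ((coreW.filter fun a => !Nat.beq a 0 && !dGood.testBit a).length) 91

theorem core_ok : coreOk = true := by decide +kernel

theorem scan_ok : scanOk = true := by decide +kernel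

theorem tuple_ok : tupleOk = true := by decide +kernel

theorem tet_ok : tetOk = true := by decide +kernel

theorem coset_ok : tetReps.all cosetOk = true := by decide +kernel

theorem rows_ok : imageRows.all rowOk = true := by decide +kernel

theorem sums_ok : sumsOk = true := by decide +kernel

end Cfsg.Agent.Lib.J4Order.LabelCalc
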