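import Cfsg.Agent.Lib.J4Order.AzModelData
import Cfsg.Agent.Lib.J4Order.LabelCalc

/-!
# The checks for the count of pairs at `z` in the stabiliser of the sextet of 7
-/

set_option autoImplicit false

namespace Cfsg.Agent.Lib.J4Order.AzModelCalc

open Cfsg.Agent.Lib.Golay Cfsg.Agent.Lib.Computation
open Cfsg.Agent.Lib.J4Big.Cocode (piL)
open Cfsg.Agent.Lib.FusionAlperin.MathieuCert (canon)
open Cfsg.Agent.Lib.M24Classes.Coset (tails base4)
open AtCalc AzModelData

/-- Force a list. -/
def forceL {α : Type} : List ℕ → (List ℕ → α) → α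
  | [], k => k []
  | x :: l, k => forceNat x fun y => forceL l fun l' => k (y :: l')

/-- A vector of the core part. -/
def inW (a : ℕ) : Bool := coreMask.testBit a

/-- The mask is that of the core part. -/
def maskOk : Bool := Nat.beq (LabelCalc.maskOf LabelCalc.coreW) coreMask

/-- The code fixes every vector up to the core part. -/
def fixC (c : ℕ) : Bool :=
  let L := imgL c
  (List.range 11).all fun i => inW (2 ^ i ^^^ combine L (2 ^ i))

/-- A quick necessary condition for `fixC` on a product. -/
def preFix (h t : ℕ) : Bool :=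
  [3, 4, 5].all fun i =>
    inW (2 ^ i ^^^ (piL.getD (getW 5 h (getW 5 t 23)) 0 ^^^ piL.getD (getW 5 h (getW 5 t i)) 0))

/-- A tree on a list of codes. -/
def treeOf (l : List ℕ) : RTree :=
  buildR 14 (List.zipWith (fun c i => c * 4096 + i) l (List.range l.length))

/-- The members of the stabiliser fixing everything up to the core part are listed. -/
def fixScan (h : ℕ) : Bool :=
  let T := treeOf kerList
  tails.all fun t => !preFix h t ||
    forceNat (mulP 24 5 h t) fun c => !fixC c || (T.find (canon c)).isSome

/-- The involutions of the stabiliser are listed. -/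
def sqScan (h : ℕ) : Bool :=
  let T := treeOf sInvol
  tails.all fun t => !(base4.all fun b => Nat.beq (getW 5 h (getW 5 t (getW 5 h b))) b) ||
    forceNat (mulP 24 5 h t) fun c =>
      !Nat.beq (canon (mulP 24 5 c c)) oneCode || (T.find (canon c)).isSome

/-- The representatives are in the group of the code. -/
def repsOk : Bool := tupReps.all inM24

/-- Every quadruple with the sextet of 7 is the image of a representative. -/
def tupleScan (a : ℕ) : Bool :=
  (List.range 24).all fun b => (List.range 24).all fun c => Nat.beq a b || Nat.beq a c || Nat.beq b c ||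
    forceNat (7 ^^^ piL.getD a 0 ^^^ piL.getD b 0 ^^^ piL.getD c 0) fun x =>
      (List.zip piL (List.range 24)).all fun q => !Nat.beq q.1 x || Nat.beq q.2 a || Nat.beq q.2 b ||
        Nat.beq q.2 c || tupReps.any fun h => LabelCalc.imgsEq h a b c q.2

/-- The kernel list comes from the core and the element of order three. -/
def kerOk : Bool :=
  inM24 k3 && Nat.beq (canon (mulP 24 5 k3 (mulP 24 5 k3 k3))) oneCode &&
    kerList.all fun c => inM24 c && Nat.beq (canon c) c && fixC c &&
      LabelData.imageRows.any fun r =>
        Nat.beq (canon r.1) c || Nat.beq (canon (mulP 24 5 r.1 k3)) c ||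
          Nat.beq (canon (mulP 24 5 r.1 (mulP 24 5 k3 k3))) c

/-- An involution centralises the element of order three modulo the core image. -/
def innC (c : ℕ) : Bool :=
  forceNat (canon (mulP 24 5 (mulP 24 5 c k3) c)) fun y =>
    LabelData.imageRows.any fun r => Nat.beq (canon (mulP 24 5 r.1 k3)) y

/-- A code of the stabiliser. -/
def stabOk (c : ℕ) : Bool := inM24 c && Nat.beq (act c 7) 7

/-- The list of involutions. -/
def sInvolOk : Bool :=
  (sInvol.all fun c => stabOk c && Nat.beq (canon c) c && Nat.beq (canon (mulP 24 5 c c)) oneCode) &&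
    ((List.zip sInvol sInvol.tail).all fun q => Nat.blt q.1 q.2)

/-- The generators are inverse pairs of the stabiliser. -/
def gensS (gs : List (ℕ × ℕ)) : Bool :=
  gs.all fun g => stabOk g.1 && inM24 g.2 && Nat.beq (canon (mulP 24 5 g.1 g.2)) oneCode

/-- The generators centralise. -/
def centS (c : ℕ) (gs : List (ℕ × ℕ)) : Bool :=
  gs.all fun g => Nat.beq (canon (mulP 24 5 g.1 c)) (canon (mulP 24 5 c g.1))

/-- The lists meet every listed involution exactly once. -/
def coverS (l : List ℕ) : Bool :=
  match markAll (treeOf sInvol) l 0 with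
  | none => false
  | some r => Nat.beq r (2 ^ sInvol.length - 1)

/-- The orbits of a block. -/
def toursS (b : MBlock) : List ℕ := b.roots.flatMap fun r => tour b.cgens r.code r.prog

/-- `m` is the order and `m0` the order modulo the kernel. -/
def ordsOk (p m m0 : ℕ) : Bool :=
  ordOk p m && Nat.blt 0 m0 && fixC (powC p m0) &&
    (List.range m0).all fun j => Nat.beq j 0 || !fixC (powC p j)

/-- The image has order three modulo the kernel and commutes with that of `(a, k)`. -/
def o8Test (a k : ℕ) (w : ℕ × ℕ) : Bool :=
  Nat.blt w.1 2048 && stabOk w.2 && Nat.beq (mulP 24 5 w.2 k) (mulP 24 5 k w.2) &&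
    inW (a ^^^ act k w.1 ^^^ (w.1 ^^^ act w.2 a)) &&
    Nat.beq (canon (powC w.2 3)) oneCode && inW (normV (imgL w.2) 3 w.1) &&
    !(fixC w.2 && inW w.1)

/-- The image is an inner involution whose product with that of `(b, l)` has order eight. -/
def eoTest (b l : ℕ) (w : ℕ × ℕ) : Bool :=
  Nat.blt w.1 2048 && stabOk w.2 && Nat.beq (canon (mulP 24 5 w.2 w.2)) oneCode && innC w.2 &&
    inW (w.1 ^^^ act w.2 w.1) &&
    forceNat (mulP 24 5 w.2 l) fun p => forceNat (w.1 ^^^ act w.2 b) fun v =>
      fixC (powC p 8) && inW (normV (imgL p) 8 v) &&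
        !(fixC (powC p 4) && inW (normV (imgL p) 4 v))

/-- Stands for a pair which does not occur. -/
def bad : ℕ := 2 ^ 200

/-- The weight when the product has the same order modulo the kernel as its permutation. -/
def wSame (fk fl ik il aW : Bool) (m0 : ℕ) (eo : Bool) : ℕ :=
  bif Nat.beq (m0 % 2) 0 then
    bif (ik == il) || Nat.beq (m0 / 2 % 2) 0 then 0
    else bif Nat.beq m0 2 && fk && aW && !il && !fl && eo then 18018 else bad
  else bif Nat.beq m0 1 then (bif fk && aW then 1170 else bif ik then 6930 else 4290)
  else bif Nat.beq m0 3 then (bif ik then (bif il then 30030 else bad) else 18018)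
  else bif Nat.beq m0 5 && ik && il then 45045 else bad

/-- The weight of a pair. -/
def wPair (L0 Lk : List ℕ) (fk fl ik il : Bool) (m0 : ℕ) (l : ℕ) (ws : List (ℕ × ℕ)) (a b : ℕ) : ℕ :=
  bif inW (combine L0 (a ^^^ combine Lk b)) then
    wSame fk fl ik il (inW a) m0 (ws.any (eoTest b l))
  else 90090

/-- The weighted count of the pairs over given images. -/
def wSum (Ln Lk : List ℕ) (w : ℕ → ℕ → ℕ) (zl tl : List ℕ) : ℕ :=
  forceL (tl.map fun b => combine Ln (combine Lk b) * 2048 + b) fun keyed =>
    forceNat (LabelCalc.maskOf (keyed.map fun q => q / 2048)) fun K =>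
      (zl.map fun a => forceNat (combine Ln a ^^^ 7) fun x => bif K.testBit x then
        (keyed.map fun q => bif Nat.beq (q / 2048) x then w a (q % 2048) else 0).foldr (· + ·) 0
      else 0).foldr (· + ·) 0

/-- The value of an orbit. -/
def rootVal (o : Bool) (b : MBlock) (r : MRoot) : ℕ :=
  forceNat (mulP 24 5 b.code r.code) fun p =>
    forceL (normL p r.ord) fun Ln => forceL (normL p r.ord0) fun L0 => forceL (imgL b.code) fun Lk =>
      forceL (moveL b.wit (zStd o b.kind)) fun zl => forceL (moveL r.wit (tStd o r.kind)) fun tl =>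
        wSum Ln Lk (wPair L0 Lk (fixC b.code) (fixC r.code) (innC b.code) (innC r.code) r.ord0 r.code r.eo)
          zl tl

/-- An orbit. -/
def rootS (b : MBlock) (r : MRoot) : Bool :=
  witOk r.code r.kind r.wit && ordsOk (mulP 24 5 b.code r.code) r.ord r.ord0 &&
    Nat.blt r.valT bad && Nat.blt r.valF bad &&
    Nat.beq (rootVal true b r) r.valT && Nat.beq (rootVal false b r) r.valF

/-- A block. -/
def blockS (b : MBlock) : Bool :=
  witOk b.code b.kind b.wit && gensS b.cgens && centS b.code b.cgens &&
    (innC b.code || ([true, false].all fun o =>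
      (moveL b.wit (zStd o b.kind)).all fun a => b.o8.any (o8Test a b.code))) &&
    Nat.beq ((b.roots.map fun r => (tour b.cgens r.code r.prog).length * r.valT).foldr (fun a c => a + c) 0) b.subT &&
    Nat.beq ((b.roots.map fun r => (tour b.cgens r.code r.prog).length * r.valF).foldr (fun a c => a + c) 0) b.subF

/-- The totals. -/
def totalS : Bool :=
  gensS sGens &&
    Nat.beq ((mblocks.map fun b => (tour sGens b.code b.prog).length * b.subT).foldr (fun a c => a + c) 0)
      34206514673760 &&
    Nat.beq ((mblocks.map fun b => (tour sGens b.code b.prog).length * b.subF).foldr (fun a c => a + c) 0)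
      34206514673760

end Cfsg.Agent.Lib.J4Order.AzModelCalc
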