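import Cfsg.Agent.Lib.J4Order.CoreModel

/-!
# The largest normal 2-subgroup of the centraliser of `z` is the listed set
-/

set_option autoImplicit false
set_option linter.unusedSectionVars false
set_option linter.constructorNameAsVariable false
set_option linter.style.haveILetI false

namespace Cfsg.Agent.Lib.J4Order

open Cfsg Cfsg.Agent.Lib.Golay Cfsg.Agent.Lib.Computation Cfsg.Agent.Lib.J4Local Cfsg.Agent.Lib.J4Big
open Cfsg.Agent.Lib.LargeExtraspecial.Basic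
open LabelCalc LabelData

variable {G : Type*} [Group G] [Finite G] {z p : G} {T₀ Uh U0 : Subgroup AutM22}

/-- Every element of the core is a commutator with `p`, up to `z`. -/
theorem exists_comm_p (S : Setting z p) {e : G} (he : e ∈ Q z) :
    ∃ e₁ ∈ Q z, ∃ w, (w = 1 ∨ w = z) ∧ e = p * e₁ * p⁻¹ * e₁⁻¹ * w := by
  classical
  haveI := Fintype.ofFinite G
  have hQ : ∀ a ∈ Q z, p * a * p⁻¹ ∈ Q z := fun a ha => isQ.normal S.p_z ha
  have hp3 : p * p * p = 1 := by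
    have := pow_orderOf_eq_one p
    rwa [S.ord_p, pow_three, ← mul_assoc] at this
  set f : G → G := fun a => p * a * p⁻¹ * a⁻¹
  set Qs : Finset G := (Q z : Set G).toFinset with hQs
  have hmem : ∀ {a}, a ∈ Qs ↔ a ∈ Q z := by simp [hQs]
  have hz : ∀ a ∈ Q z, Commute a z := S.es.comm
  have hfib : ∀ b ∈ Qs.image f, (Qs.filter fun a => f a = b).card ≤ 2 := by
    intro b hb
    obtain ⟨a₀, ha₀, rfl⟩ := Finset.mem_image.mp hb
    refine le_trans (Finset.card_le_card (t := {a₀, a₀ * z}) fun a ha => ?_) Finset.card_le_two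
    obtain ⟨ha, hfa⟩ := Finset.mem_filter.mp ha
    have hx : a₀⁻¹ * a ∈ Q z := mul_mem (inv_mem (hmem.mp ha₀)) (hmem.mp ha)
    have hc : Commute (a₀⁻¹ * a) p := by
      have e : p * (a₀⁻¹ * a) * p⁻¹ = a₀⁻¹ * a := by
        calc p * (a₀⁻¹ * a) * p⁻¹ = a₀⁻¹ * (f a₀)⁻¹ * (f a * a) := by simp only [f]; group
          _ = a₀⁻¹ * a := by rw [show f a = f a₀ from hfa]; group
      exact ((mul_inv_eq_iff_eq_mul.mp e) : Commute p (a₀⁻¹ * a)).symm
    rcases S.fix _ hx hc with h | h <;>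
      simp only [Finset.mem_insert, Finset.mem_singleton]
    · exact Or.inl (inv_mul_eq_one.mp h).symm
    · exact Or.inr (inv_mul_eq_iff_eq_mul.mp h)
  have hdisj : Disjoint (Qs.image f) ((Qs.image f).image (· * z)) := by
    refine Finset.disjoint_left.mpr fun b hb hb' => ?_
    obtain ⟨a, ha, rfl⟩ := Finset.mem_image.mp hb
    obtain ⟨c, hc, he'⟩ := Finset.mem_image.mp hb'
    obtain ⟨a', ha', rfl⟩ := Finset.mem_image.mp hc
    have hae : a' ∈ Q z := hmem.mp ha'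
    have hx : p * (a'⁻¹ * a) * p⁻¹ = a'⁻¹ * a * z := by
      calc p * (a'⁻¹ * a) * p⁻¹ = a'⁻¹ * (f a')⁻¹ * (f a * a) := by simp only [f]; group
        _ = a'⁻¹ * (f a')⁻¹ * (f a' * z * a) := by rw [show f a' * z = f a from he']
        _ = a'⁻¹ * (z * a) := by group
        _ = _ := by rw [← (hz a (hmem.mp ha)).eq]; group
    set x := a'⁻¹ * a
    have h2 : p * (p * x * p⁻¹) * p⁻¹ = x * z * z := by
      rw [hx, show p * (x * z) * p⁻¹ = p * x * p⁻¹ * (p * z * p⁻¹) by group, hx,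
        mul_inv_eq_iff_eq_mul.mpr S.p_z.eq]
    have h3 : p * (p * (p * x * p⁻¹) * p⁻¹) * p⁻¹ = x := by
      rw [show p * (p * (p * x * p⁻¹) * p⁻¹) * p⁻¹ = p * p * p * x * (p * p * p)⁻¹ by group, hp3]
      group
    have h4 : p * x * p⁻¹ = x := by
      rw [h2, mul_assoc x z z, S.z_sq, mul_one] at h3
      exact h3
    rw [hx] at h4
    exact S.z_ne_one (mul_eq_left.mp h4)
  have hsub : Qs.image f ∪ (Qs.image f).image (· * z) ⊆ Qs := by
    intro b hb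
    simp only [Finset.mem_union, Finset.mem_image] at hb
    rcases hb with ⟨a, ha, rfl⟩ | ⟨_, ⟨a, ha, rfl⟩, rfl⟩ <;> rw [hmem]
    · exact mul_mem (hQ a (hmem.mp ha)) (inv_mem (hmem.mp ha))
    · exact mul_mem (mul_mem (hQ a (hmem.mp ha)) (inv_mem (hmem.mp ha))) S.es.mem
  have hall : Qs.image f ∪ (Qs.image f).image (· * z) = Qs := by
    refine Finset.eq_of_subset_of_card_le hsub ?_
    rw [Finset.card_union_of_disjoint hdisj,
      Finset.card_image_of_injective _ (mul_left_injective z), ← two_mul]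
    exact Finset.card_le_mul_card_image Qs 2 hfib
  have he' := hmem.mpr he
  rw [← hall] at he'
  simp only [Finset.mem_union, Finset.mem_image] at he'
  rcases he' with ⟨a, ha, rfl⟩ | ⟨_, ⟨a, ha, rfl⟩, rfl⟩
  · exact ⟨a, hmem.mp ha, 1, Or.inl rfl, by simp [f]⟩
  · exact ⟨a, hmem.mp ha, z, Or.inr rfl, rfl⟩

namespace NModel

variable (M : NModel z)

/-- Centralising the `2^11` modulo the core. -/
def Cen (g : G) : Prop := ∀ v ∈ M.V, g * v * g⁻¹ ∈ M.V ∧ g * v * g⁻¹ * v ∈ Q z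

theorem cen_mul {g h : G} (hg : M.Cen g) (hh : M.Cen h) : M.Cen (g * h) := fun v hv => by
  obtain ⟨h1, h2⟩ := hh v hv
  obtain ⟨g1, g2⟩ := hg _ h1
  have e : g * h * v * (g * h)⁻¹ = g * (h * v * h⁻¹) * g⁻¹ := by group
  refine ⟨e ▸ g1, ?_⟩
  rw [e, show g * (h * v * h⁻¹) * g⁻¹ * v =
    g * (h * v * h⁻¹) * g⁻¹ * (h * v * h⁻¹) * ((h * v * h⁻¹) * v) by
      rw [mul_assoc (g * (h * v * h⁻¹) * g⁻¹) (h * v * h⁻¹), ← mul_assoc (h * v * h⁻¹) (h * v * h⁻¹),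
        M.frame.sq _ h1, one_mul]]
  exact mul_mem g2 h2

theorem cen_of_mem {u : G} (hu : u ∈ M.V) : M.Cen u := fun v hv => by
  rw [mul_inv_eq_iff_eq_mul.mpr (M.frame.comm hu hv)]
  exact ⟨hv, by rw [M.frame.sq v hv]; exact one_mem _⟩

variable (S : Setting z p) (F : AutFacts) (B : NormConfig T₀ Uh U0)
variable (hMV : M.V = vv S B.toBigConfig) (h7 : M.ψ 7 = z) (hE : ∃ e ∈ Q z, IsConj z e ∧ e ≠ z)

include S F B hMV h7 hE

theorem mem_norm_of_img_one {x : G} (hx : x ∈ cz z) (h1 : S.img x = 1) :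
    x ∈ Subgroup.normalizer (M.V : Set G) := by
  rw [hMV]
  exact mSt_le_normalizer S F B.toBigConfig ((mem_mSt S).mpr ⟨hx, by rw [h1]; exact one_mem _⟩)

theorem cen_of_img_one {x : G} (hx : x ∈ cz z) (h1 : S.img x = 1) : M.Cen x := fun v hv => by
  have hn := M.mem_norm_of_img_one S F B hMV h7 hE hx h1
  have hv' := (Subgroup.mem_normalizer_iff.mp hn v).mp hv
  refine ⟨hv', yBig_le S B.exp_Uh ?_⟩
  have hm : x * v * x⁻¹ * v ∈ vv S B.toBigConfig := hMV ▸ mul_mem hv' hv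
  refine (img_one_iff S F B.toBigConfig hm).mp ?_
  have hvc : v ∈ cz z := (vv_facts S F B.toBigConfig).2.2 (hMV ▸ hv)
  rw [S.img_mul (mul_mem (mul_mem hx hvc) (inv_mem hx)) hvc, S.img_mul (mul_mem hx hvc) (inv_mem hx),
    S.img_mul hx hvc, S.img_inv hx, h1, one_mul, inv_one, mul_one, ← S.img_mul hvc hvc,
    M.frame.sq v hv]
  exact S.img_Q (one_mem _)

/-- The core element over a permutation has its vector in the core part. -/
theorem core_elem {e : G} (he : e ∈ Q z) :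
    ∃ r ∈ imageRows, ∃ a ∈ coreW, e = M.ev a (el r.1) := by
  have hQc : ∀ {x}, x ∈ Q z → x ∈ cz z ∧ S.img x = 1 := fun h => ⟨Q_le_cz z h, S.img_Q h⟩
  obtain ⟨e₁, he₁, w₀, hw₀, heq⟩ := exists_comm_p S he
  have hen : ∀ {x}, x ∈ cz z → S.img x = 1 → ∃ a < 2048, ∃ σ, x = M.ev a σ := fun hx h1 =>
    M.exists_ev (M.mem_norm_of_img_one S F B hMV h7 hE hx h1)
  obtain ⟨c, hc, σ₂, hP⟩ := hen S.p_mem_cz S.img_p
  obtain ⟨a₁, ha₁, σ₁, hE1⟩ := hen (hQc he₁).1 (hQc he₁).2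
  set C := M.ψ c
  set A := M.ψ a₁
  set K1 := M.κ σ₂
  set K2 := M.κ σ₁
  have hp' : p = C * K1 := hP
  have he' : e₁ = A * K2 := hE1
  have hK1 : K1 = C * p := by rw [hp', ← mul_assoc, M.ψ_sq, one_mul]
  have hK2 : K2 = A * e₁ := by rw [he', ← mul_assoc, M.ψ_sq, one_mul]
  have c1 : M.Cen K1 := hK1 ▸ M.cen_mul (M.cen_of_mem (M.ψ_mem c))
    (M.cen_of_img_one S F B hMV h7 hE S.p_mem_cz S.img_p)
  have c1' : M.Cen K1⁻¹ := by
    rw [hK1, mul_inv_rev, M.ψ_inv]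
    exact M.cen_mul (M.cen_of_img_one S F B hMV h7 hE (inv_mem S.p_mem_cz)
      (by rw [S.img_inv S.p_mem_cz, S.img_p, inv_one])) (M.cen_of_mem (M.ψ_mem c))
  have c2 : M.Cen K2 := hK2 ▸ M.cen_mul (M.cen_of_mem (M.ψ_mem a₁))
    (M.cen_of_img_one S F B hMV h7 hE (hQc he₁).1 (hQc he₁).2)
  have c2' : M.Cen K2⁻¹ := by
    rw [hK2, mul_inv_rev, M.ψ_inv]
    exact M.cen_mul (M.cen_of_img_one S F B hMV h7 hE (inv_mem (hQc he₁).1)
      (by rw [S.img_inv (hQc he₁).1, (hQc he₁).2, inv_one])) (M.cen_of_mem (M.ψ_mem a₁))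
  set L := K1 * K2 * K1⁻¹ with hL
  have cL : M.Cen L := M.cen_mul (M.cen_mul c1 c2) c1'
  set k := K1 * K2 * K1⁻¹ * K2⁻¹ with hk
  have ck : M.Cen k := M.cen_mul cL c2'
  obtain ⟨v1, q1⟩ := c1 A (M.ψ_mem a₁)
  obtain ⟨v2, q2⟩ := cL C (M.ψ_mem c)
  obtain ⟨v3, q3⟩ := (M.cen_mul cL c2') A (M.ψ_mem a₁)
  have hexp : p * e₁ * p⁻¹ * e₁⁻¹ * k⁻¹ =
      C * (K1 * A * K1⁻¹) * (L * C * L⁻¹) * (L * K2⁻¹ * A * (L * K2⁻¹)⁻¹) := by
    rw [hp', he', mul_inv_rev, mul_inv_rev, M.ψ_inv, M.ψ_inv, hk, hL]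
    simp only [C, A]
    group
  set A' := K1 * A * K1⁻¹
  set C' := L * C * L⁻¹
  set A'' := L * K2⁻¹ * A * (L * K2⁻¹)⁻¹
  have hC : C ∈ M.V := M.ψ_mem c
  have hA : A ∈ M.V := M.ψ_mem a₁
  have hw : C * A' * C' * A'' ∈ Q z := by
    have e : C * A' * C' * A'' = (C' * C) * ((A' * A) * (A'' * A)) := by
      have h1 : A' * A * (A'' * A) = A' * A'' := by
        rw [M.frame.comm v3 hA, mul_assoc A' A, ← mul_assoc A A A'', M.frame.sq A hA, one_mul]
      rw [h1, M.frame.comm v2 hC, mul_assoc C A' C', M.frame.comm v1 v2]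
      group
    rw [e]
    exact mul_mem q2 (mul_mem q1 q3)
  have hwV : C * A' * C' * A'' ∈ M.V := mul_mem (mul_mem (mul_mem hC v1) v2) v3
  have hw0 : w₀ ∈ M.V ∧ w₀ ∈ Q z := by
    rcases hw₀ with rfl | rfl
    · exact ⟨one_mem _, one_mem _⟩
    · exact ⟨by have := M.ψ_mem 7; rwa [h7] at this, S.es.mem⟩
  obtain ⟨v4, q4⟩ := ck w₀ hw0.1
  have hkw : k * w₀ * k⁻¹ ∈ Q z := by
    have := mul_mem q4 hw0.2
    rwa [mul_assoc, M.frame.sq _ hw0.1, mul_one] at this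
  have hfin : e = C * A' * C' * A'' * (k * w₀ * k⁻¹) * k := by
    rw [← hexp, heq]; group
  obtain ⟨a, ha, hax⟩ := M.exists_core_of_mem S F B hMV h7 hE (mul_mem hwV v4) (mul_mem hw hkw)
  have hk' : k = M.κ (σ₂ * σ₁ * σ₂⁻¹ * σ₁⁻¹) := by simp only [hk, K1, K2, map_mul, map_inv]
  rw [hax, hk'] at hfin
  obtain ⟨code, hcode, hcel⟩ := encode_exists (σ₂ * σ₁ * σ₂⁻¹ * σ₁⁻¹)
  have hee : e = M.ev a (el code) := by rw [hfin, hcel]; rfl
  have ha' := (M.psi_mem_core S F B hMV h7 hE ha).1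
  have htest : testD code = true := by
    simp only [testD, List.all_eq_true]
    intro d hd
    have hcore := core_ok
    simp only [coreOk, Bool.and_eq_true, List.all_eq_true, Nat.blt_eq] at hcore
    obtain ⟨⟨hlt, hg⟩, hg7⟩ := hcore.1.1.1.1.1.1.1 d hd
    have hdQ : M.ψ d ∈ Q z := by
      refine (yBig_le S B.exp_Uh) (mem_yBig_of_mul_z S F B hE ?_ ?_)
      · have := (M.frame.mem_D d hlt).mpr hg
        exact ⟨hMV ▸ this.1, this.2.1, this.2.2⟩
      · rw [show M.ψ d * z = M.ψ (d ^^^ 7) by rw [M.frame.mul d 7 hlt (by norm_num), h7]]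
        have := (M.frame.mem_D _ (Nat.xor_lt_two_pow (n := 11) hlt (by norm_num))).mpr hg7
        exact ⟨hMV ▸ this.1, this.2.1, this.2.2⟩
    have hconj : e * M.ψ d * e⁻¹ = M.ψ (act code d) := by
      rw [hee, NModel.ev, mul_inv_rev,
        show M.ψ a * M.κ (el code) * M.ψ d * ((M.κ (el code))⁻¹ * (M.ψ a)⁻¹) =
          M.ψ a * (M.κ (el code) * M.ψ d * (M.κ (el code))⁻¹) * (M.ψ a)⁻¹ by group,
        M.conj_el hcode hlt, mul_inv_eq_iff_eq_mul.mpr (M.frame.comm (M.ψ_mem a) (M.ψ_mem _))]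
    rw [eitherOf_iff]
    rcases S.es.conj e he _ hdQ with h | h <;> rw [hconj] at h
    · exact Or.inl (M.frame.inj _ _ (act_lt _ _) hlt h)
    · rw [show M.ψ d * z = M.ψ (d ^^^ 7) by rw [M.frame.mul d 7 hlt (by norm_num), h7]] at h
      exact Or.inr (M.frame.inj _ _ (act_lt _ _) (Nat.xor_lt_two_pow (n := 11) hlt (by norm_num)) h)
  obtain ⟨r, hr, hre⟩ := mem_rows_of_testD hcode htest
  exact ⟨r, hr, a, ha, by rw [hre]; exact hee⟩

end NModel

end Cfsg.Agent.Lib.J4Order
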