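import Cfsg.Agent.Lib.J4Order.AzModelScan
import Cfsg.Agent.Lib.J4Order.CoreShape
import Cfsg.Agent.Lib.J4Order.Labels

/-!
# The map to `Aut M22` on the stabiliser of the sextet of 7, in coordinates
-/

set_option autoImplicit false
set_option linter.unusedSectionVars false
set_option linter.constructorNameAsVariable false
set_option linter.style.haveILetI false
set_option maxRecDepth 100000

namespace Cfsg.Agent.Lib.J4Order

open Cfsg Cfsg.Agent.Lib.Golay Cfsg.Agent.Lib.Computation Cfsg.Agent.Lib.J4Local Cfsg.Agent.Lib.J4Big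
open Cfsg.Agent.Lib.LargeExtraspecial.Basic
open Cfsg.Agent.Lib.FusionAlperin.MathieuCert (canon)
open AtCalc AzModelCalc AzModelData

attribute [local irreducible] oneCode mulP canon kerList sInvol tupReps coreMask LabelCalc.coreW
  LabelData.imageRows J4Big.Cocode.piL M24Classes.Coset.tails

namespace AzModel

theorem gperm_eq_of_canon {x y : ℕ} (hx : okCode x = true) (hy : okCode y = true)
    (h : canon x = canon y) : gperm x = gperm y := by
  refine Equiv.ext fun q => idx_injective ?_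
  rw [idx_gperm hx, idx_gperm hy]
  have e : ∀ c, okCode c = true → getW 5 (canon c) (idx q) = getW 5 c (idx q) := fun c hc => by
    rw [FusionAlperin.MathieuCert.canon, getW_packW (fun i hi =>
      lt_of_lt_of_le (getW_lt hc hi) (by norm_num)) (idx_lt q)]
  rw [← e x hx, ← e y hy, h]

theorem el_eq_of_canon {x y : ℕ} (hx : Good x) (hy : Good y) (h : canon x = canon y) : el x = el y :=
  Subtype.ext (by rw [el_coe hx.2, el_coe hy.2, gperm_eq_of_canon hx.1 hy.1 h])

theorem canon_oneCode : canon oneCode = oneCode := by decide +kernel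

theorem el_eq_one_of_canon {x : ℕ} (hx : Good x) (h : canon x = oneCode) : el x = 1 := by
  rw [el_eq_of_canon hx good_one (h.trans canon_oneCode.symm), el_one]

theorem mem_of_find {l : List ℕ} {x : ℕ} (hl : l.length ≤ 4096)
    (h : ((treeOf l).find x).isSome) : x ∈ l := by
  obtain ⟨i, hi⟩ := Option.isSome_iff_exists.mp h
  obtain ⟨a, ha, h1, -⟩ := AtNum.find_mem hi
  rw [List.mem_iff_getElem] at ha
  obtain ⟨j, hj, rfl⟩ := ha
  simp only [List.length_zipWith, List.length_range, min_self] at hj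
  simp only [List.getElem_zipWith, List.getElem_range] at h1
  rw [← h1, show (l[j] * 4096 + j) / 4096 = l[j] by omega]
  exact List.getElem_mem hj

theorem kerList_len : kerList.length ≤ 4096 := by decide +kernel

theorem sInvol_len : sInvol.length ≤ 4096 := by decide +kernel

theorem mask_ok : Nat.beq (LabelCalc.maskOf LabelCalc.coreW) coreMask = true :=
  (by decide +kernel : maskOk = true)

theorem inW_iff_mem (a : ℕ) : inW a = true ↔ a ∈ LabelCalc.coreW := by
  rw [inW, ← Nat.eq_of_beq_eq_true mask_ok, testBit_maskOf]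

/-- An element of the stabiliser comes from a representative on the first tetrad. -/
theorem exists_rep {c : ℕ} (hc : Good c) (h7 : act c 7 = 7) :
    ∃ h ∈ tupReps, ∃ t ∈ M24Classes.Coset.tails, inM24 h = true ∧
      okCode (mulP 24 5 h t) = true ∧ gperm (mulP 24 5 h t) = gperm c := by
  set P := fun i => J4Big.Cocode.piL.getD (getW 5 c i) 0
  have e7 : P 23 ^^^ P 0 ^^^ P 1 ^^^ P 2 = 7 := by
    rw [show (7 : ℕ) = 2 ^ 0 ^^^ 2 ^ 1 ^^^ 2 ^ 2 from rfl, act_xor, act_xor,
      act_two_pow c (by norm_num), act_two_pow c (by norm_num), act_two_pow c (by norm_num)] at h7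
    refine Eq.trans ?_ h7
    simp only [P]
    generalize J4Big.Cocode.piL.getD (getW 5 c 23) 0 = u
    generalize J4Big.Cocode.piL.getD (getW 5 c 0) 0 = x
    generalize J4Big.Cocode.piL.getD (getW 5 c 1) 0 = y
    generalize J4Big.Cocode.piL.getD (getW 5 c 2) 0 = w
    apply Nat.eq_of_testBit_eq
    intro i
    simp only [Nat.testBit_xor]
    cases u.testBit i <;> cases x.testBit i <;> cases y.testBit i <;> cases w.testBit i <;> rfl
  have hlt : ∀ i < 24, getW 5 c i < 24 := fun i hi => getW_lt hc.1 hi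
  have hne : ∀ i < 24, ∀ j < 24, i ≠ j → getW 5 c i ≠ getW 5 c j := fun i hi j hj hij he => by
    have : gperm c (pt i) = gperm c (pt j) := idx_injective (by
      rw [idx_gperm hc.1, idx_gperm hc.1, idx_pt hi, idx_pt hj, he])
    exact hij (by rw [← idx_pt hi, ← idx_pt hj, (gperm c).injective this])
  have hs := AzModelScan.tuple_ok
  simp only [List.all_eq_true, List.mem_range] at hs
  have ha := hs _ (hlt 23 (by norm_num))
  simp only [tupleScan, forceNat_eq, List.all_eq_true, List.mem_range, Bool.or_eq_true, Nat.beq_eq]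
    at ha
  have hb := ha _ (hlt 0 (by norm_num)) _ (hlt 1 (by norm_num))
  rcases hb with ((e | e) | e) | hb
  · exact absurd e (hne 23 (by norm_num) 0 (by norm_num) (by norm_num))
  · exact absurd e (hne 23 (by norm_num) 1 (by norm_num) (by norm_num))
  · exact absurd e (hne 0 (by norm_num) 1 (by norm_num) (by norm_num))
  have hq : (P 2, getW 5 c 2) ∈ List.zip J4Big.Cocode.piL (List.range 24) := by
    rw [List.mem_iff_getElem]
    refine ⟨getW 5 c 2, ?_, ?_⟩
    · rw [List.length_zip, List.length_range, show J4Big.Cocode.piL.length = 24 by decide +kernel, min_self]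
      exact hlt 2 (by norm_num)
    · rw [List.getElem_zip, List.getElem_range]
      simp only [P]
      rw [List.getD_eq_getElem]
  have := hb _ hq
  simp only [Bool.not_eq_true', ← Bool.not_eq_true, Nat.beq_eq, List.any_eq_true] at this
  have hp2 : P 2 = 7 ^^^ P 23 ^^^ P 0 ^^^ P 1 := by
    rw [← e7]
    apply Nat.eq_of_testBit_eq
    intro i
    simp only [Nat.testBit_xor]
    cases (P 23).testBit i <;> cases (P 0).testBit i <;> cases (P 1).testBit i <;>
      cases (P 2).testBit i <;> rfl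
  rcases this with (((h | h) | h) | h) | ⟨h, hh, him⟩
  · exact absurd hp2 h
  · exact absurd h (hne 2 (by norm_num) 23 (by norm_num) (by norm_num))
  · exact absurd h (hne 2 (by norm_num) 0 (by norm_num) (by norm_num))
  · exact absurd h (hne 2 (by norm_num) 1 (by norm_num) (by norm_num))
  simp only [LabelCalc.imgsEq, Bool.and_eq_true, Nat.beq_eq] at him
  obtain ⟨⟨⟨i23, i0⟩, i1⟩, i2⟩ := him
  have hhM : inM24 h = true := List.all_eq_true.mp (by decide +kernel : repsOk = true) h hh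
  obtain ⟨c', hc', hok', he'⟩ := M24Classes.Coset.exists_code hhM hc.2 (fun i hi => by
    rw [idx_gperm hc.1]
    simp only [M24Classes.Coset.base4, List.mem_cons, List.not_mem_nil, or_false] at hi
    rcases hi with rfl | rfl | rfl | rfl <;> rw [idx_pt (by norm_num)] <;> simp [*])
  simp only [M24Classes.Coset.cosetCodes, List.mem_map] at hc'
  obtain ⟨t, ht, rfl⟩ := hc'
  exact ⟨h, hh, t, ht, hhM, hok', he'⟩

theorem ker_spec {k : ℕ} (hk : k ∈ kerList) : Good k ∧ canon k = k ∧ fixC k = true ∧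
      ∃ r ∈ LabelData.imageRows, canon r.1 = k ∨ canon (mulP 24 5 r.1 k3) = k ∨
        canon (mulP 24 5 r.1 (mulP 24 5 k3 k3)) = k := by
    have h : kerOk = true := by decide +kernel
    simp only [kerOk, Bool.and_eq_true, List.all_eq_true, List.any_eq_true, Bool.or_eq_true,
      Nat.beq_eq] at h
    obtain ⟨⟨⟨h1, h2⟩, h3⟩, r, hr, h4⟩ := h.2 k hk
    exact ⟨good_of_inM24 h1, h2, h3, r, hr, or_assoc.mp h4⟩

end AzModel

open AzModel

variable {G : Type*} [Group G] [Finite G] {z p : G} {T₀ Uh U0 : Subgroup AutM22}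

namespace NModel

variable (M : NModel z)

/-- The part of the centralizer of `z` in the normaliser of the `2^11`. -/
noncomputable def mm : Subgroup G := Subgroup.normalizer (M.V : Set G) ⊓ cz z

theorem conj_vec {a c v : ℕ} (hc : Good c) (hv : v < 2048) :
    M.ev a (el c) * M.ψ v * (M.ev a (el c))⁻¹ = M.ψ (act c v) := by
  rw [ev, mul_inv_rev,
    show M.ψ a * M.κ (el c) * M.ψ v * ((M.κ (el c))⁻¹ * (M.ψ a)⁻¹) =
      M.ψ a * (M.κ (el c) * M.ψ v * (M.κ (el c))⁻¹) * (M.ψ a)⁻¹ by group,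
    M.conj_el hc hv, mul_inv_eq_iff_eq_mul.mpr (M.frame.comm (M.ψ_mem a) (M.ψ_mem _))]

/-- The permutations fixing `z`. -/
def St (σ : ↥M24) : Prop := Commute (M.κ σ) z

variable (h7 : M.ψ 7 = z)
include h7

theorem commute_psi (a : ℕ) : Commute (M.ψ a) z := by
  have h := M.frame.comm (M.ψ_mem a) (M.ψ_mem 7)
  rwa [h7] at h

theorem st_iff {c : ℕ} (hc : Good c) : M.St (el c) ↔ act c 7 = 7 := by
  rw [St]
  have e := M.conj_el hc (show (7 : ℕ) < 2048 by norm_num)
  rw [h7] at e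
  constructor
  · intro h
    rw [mul_inv_eq_iff_eq_mul.mpr h.eq] at e
    exact (M.frame.inj _ _ (by norm_num) (act_lt c 7) (h7.trans e)).symm
  · intro h
    rw [h, h7] at e
    exact mul_inv_eq_iff_eq_mul.mp e

theorem ev_mem_mm {a : ℕ} {σ : ↥M24} : M.ev a σ ∈ M.mm ↔ M.St σ := by
  rw [mm, Subgroup.mem_inf, and_iff_right (M.ev_mem a σ), mem_cz, ev, St]
  exact ⟨fun h => by simpa [ev] using (M.commute_psi h7 a).inv_left.mul_left h,
    fun h => (M.commute_psi h7 a).mul_left h⟩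

theorem exists_mm {g : G} (hg : g ∈ M.mm) : ∃ a < 2048, ∃ c, Good c ∧ act c 7 = 7 ∧ g = M.ev a (el c) := by
  obtain ⟨a, ha, σ, rfl⟩ := M.exists_ev hg.1
  obtain ⟨c, hc, rfl⟩ := encode_exists σ
  exact ⟨a, ha, c, hc, (M.st_iff h7 hc).mp ((M.ev_mem_mm h7).mp hg), rfl⟩

variable (S : Setting z p) (F : AutFacts) (B : NormConfig T₀ Uh U0)
variable (hMV : M.V = vv S B.toBigConfig) (hE : ∃ e ∈ Q z, IsConj z e ∧ e ≠ z)
include S F B hMV hE

theorem inW_iff {a : ℕ} (ha : a < 2048) : inW a = true ↔ M.ψ a ∈ Q z := by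
  rw [inW_iff_mem]
  refine ⟨fun h => (M.psi_mem_core S F B hMV h7 hE h).2, fun h => ?_⟩
  obtain ⟨b, hb, e⟩ := M.exists_core_of_mem S F B hMV h7 hE (M.ψ_mem a) h
  rwa [M.frame.inj a b ha (M.psi_mem_core S F B hMV h7 hE hb).1 e]

theorem inW_lt {a : ℕ} (h : inW a = true) : a < 2048 :=
  (M.psi_mem_core S F B hMV h7 hE ((inW_iff_mem a).mp h)).1

theorem inW_xor {a b : ℕ} (ha : inW a = true) (hb : inW b = true) : inW (a ^^^ b) = true := by
  have la := M.inW_lt h7 S F B hMV hE ha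
  have lb := M.inW_lt h7 S F B hMV hE hb
  rw [M.inW_iff h7 S F B hMV hE (Nat.xor_lt_two_pow (n := 11) la lb), M.frame.mul a b la lb]
  exact mul_mem ((M.inW_iff h7 S F B hMV hE la).mp ha) ((M.inW_iff h7 S F B hMV hE lb).mp hb)

theorem inW_zero : inW 0 = true :=
  (M.inW_iff h7 S F B hMV hE (by norm_num)).mpr (by rw [M.ψ_zero]; exact one_mem _)

theorem combine_inW : ∀ {l : List ℕ}, (∀ x ∈ l, inW x = true) → ∀ a, inW (combine l a) = true
  | [], _, a => by rw [combine]; exact M.inW_zero h7 S F B hMV hE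
  | r :: l, h, a => by
    rw [combine]
    refine M.inW_xor h7 S F B hMV hE ?_ (combine_inW (fun x hx => h x (List.mem_cons_of_mem _ hx)) _)
    split
    · exact h r List.mem_cons_self
    · exact M.inW_zero h7 S F B hMV hE

theorem fixC_iff {c : ℕ} : fixC c = true ↔ ∀ v < 2048, inW (v ^^^ act c v) = true := by
  simp only [fixC, List.all_eq_true, List.mem_range]
  refine ⟨fun h v hv => ?_, fun h i hi => h _ (Nat.pow_lt_pow_right (by norm_num) hi)⟩
  have e := AtNum.combine_map (f := fun v => v ^^^ act c v) (by simp [act_zero])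
    (fun a b => by rw [act_xor]; ac_rfl) ((List.range 11).map (2 ^ ·)) v
  rw [AtNum.combine_id v hv] at e
  rw [← e]
  exact M.combine_inW h7 S F B hMV hE (fun x hx => by
    simp only [List.map_map, List.mem_map, List.mem_range, Function.comp_apply] at hx
    obtain ⟨i, hi, rfl⟩ := hx
    exact h i hi) v

theorem inW_act {c v : ℕ} (hc : fixC c = true) (hv : inW v = true) : inW (act c v) = true := by
  have h := M.inW_xor h7 S F B hMV hE hv
    ((M.fixC_iff h7 S F B hMV hE).mp hc v (M.inW_lt h7 S F B hMV hE hv))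
  rwa [← Nat.xor_assoc, Nat.xor_self, Nat.zero_xor] at h

theorem fixC_of_cen {a c : ℕ} (hc : Good c) (h : M.Cen (M.ev a (el c))) : fixC c = true := by
  refine (M.fixC_iff h7 S F B hMV hE).mpr fun v hv => ?_
  obtain ⟨-, h2⟩ := h _ (M.ψ_mem v)
  rw [M.conj_vec hc hv, ← M.frame.mul _ _ (act_lt c v) hv] at h2
  rw [M.inW_iff h7 S F B hMV hE (Nat.xor_lt_two_pow (n := 11) hv (act_lt c v)), Nat.xor_comm]
  exact h2

theorem rows_mem_Q {a : ℕ} (ha : inW a = true) {r : ℕ × ℕ × ℕ × ℕ × ℕ}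
    (hr : r ∈ LabelData.imageRows) : M.ev a (el r.1) ∈ Q z := by
  classical
  haveI := Fintype.ofFinite G
  obtain ⟨hnd, hlen⟩ := coreW_nodup
  let img : Finset G := ((LabelData.imageRows.map fun r => el r.1).toFinset ×ˢ
    LabelCalc.coreW.toFinset).image fun x => M.ev x.2 x.1
  have heq : (Q z : Set G).toFinset = img := by
    refine Finset.eq_of_subset_of_card_le (fun e he => ?_) (Finset.card_image_le.trans ?_)
    · rw [Set.mem_toFinset] at he
      obtain ⟨r, hr, b, hb, rfl⟩ := M.core_elem S F B hMV h7 hE he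
      exact Finset.mem_image.mpr ⟨(el r.1, b), Finset.mem_product.mpr
        ⟨List.mem_toFinset.mpr (List.mem_map.mpr ⟨r, hr, rfl⟩), List.mem_toFinset.mpr hb⟩, rfl⟩
    · rw [Finset.card_product, List.toFinset_card_of_nodup hnd,
        List.toFinset_card_of_nodup rows_nodup, List.length_map, hlen, Set.toFinset_card,
        ← Nat.card_eq_fintype_card, SetLike.coe_sort_coe, S.card_E]
      have h64 := LabelCalc.sums_ok
      simp only [LabelCalc.sumsOk, Bool.and_eq_true, Nat.beq_eq] at h64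
      rw [h64.1.1.1.1.1.1.1]
      norm_num
  have h : M.ev a (el r.1) ∈ img := Finset.mem_image.mpr ⟨(el r.1, a), Finset.mem_product.mpr
    ⟨List.mem_toFinset.mpr (List.mem_map.mpr ⟨r, hr, rfl⟩),
      List.mem_toFinset.mpr ((inW_iff_mem a).mp ha)⟩, rfl⟩
  rw [← heq, Set.mem_toFinset] at h
  exact h

/-- A kernel element has its vector in the core part and fixes the rest modulo it. -/
theorem ker_shape {g : G} (hg : g ∈ cz z) (h1 : S.img g = 1) :
    ∃ a c, inW a = true ∧ Good c ∧ fixC c = true ∧ g = M.ev a (el c) := by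
  have hshape : ∀ {x}, x ∈ cz z → S.img x = 1 → M.Cen x ∧
      ∃ a < 2048, ∃ c, Good c ∧ fixC c = true ∧ x = M.ev a (el c) := by
    intro x hx hx1
    have hC := M.cen_of_img_one S F B hMV h7 hE hx hx1
    obtain ⟨a, ha, σ, rfl⟩ := M.exists_ev (M.mem_norm_of_img_one S F B hMV h7 hE hx hx1)
    obtain ⟨c, hc, rfl⟩ := encode_exists σ
    exact ⟨hC, a, ha, c, hc, M.fixC_of_cen h7 S F B hMV hE hc hC, rfl⟩
  -- the vector of the element of order three
  obtain ⟨hCp, w, hw, d, hd, hdF, hp⟩ := hshape S.p_mem_cz S.img_p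
  have hwW : inW w = true := by
    rw [M.inW_iff h7 S F B hMV hE hw]
    set K := M.κ (el d)
    set C := M.ψ w
    have hpK : p = C * K := hp
    obtain ⟨v1, q1⟩ := hCp C (M.ψ_mem w)
    have e1 : p * C * p⁻¹ = K * C * K⁻¹ := by
      rw [hp, M.conj_vec hd hw, M.conj_el hd hw]
    obtain ⟨v2, q2⟩ := M.cen_mul hCp hCp C (M.ψ_mem w)
    have e2 : p * p * C * (p * p)⁻¹ = K * (K * C * K⁻¹) * K⁻¹ := by
      rw [show p * p * C * (p * p)⁻¹ = p * (p * C * p⁻¹) * p⁻¹ by group, e1, M.conj_el hd hw,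
        hp, M.conj_vec hd (act_lt _ _), M.conj_el hd (act_lt _ _)]
    have h3 : p ^ 3 = C * (K * C * K⁻¹) * (K * (K * C * K⁻¹) * K⁻¹) * (K * K * K) := by
      rw [hpK, pow_succ, pow_two]; group
    rw [S.p_cube, ← e2, ← e1] at h3
    have hK : el d * el d * el d = 1 := by
      refine M.meet ?_
      rw [map_mul, map_mul, show K * K * K = (C * (p * C * p⁻¹) * (p * p * C * (p * p)⁻¹))⁻¹ from
        eq_inv_of_mul_eq_one_right h3.symm]
      exact inv_mem (mul_mem (mul_mem (M.ψ_mem w) v1) v2)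
    have hone : C * (p * C * p⁻¹) * (p * p * C * (p * p)⁻¹) = 1 := by
      rw [h3]
      rw [show K * K * K = M.κ (el d * el d * el d) by rw [map_mul, map_mul], hK, map_one, mul_one]
    have key : ∀ A B : G, B ∈ M.V → C * A * B = 1 → C = A * C * (B * C) := fun A B hB h => by
      have hA : C * C = 1 := M.frame.sq _ (M.ψ_mem w)
      calc C = C * (C * A * B) := by rw [h, mul_one]
        _ = C * C * (A * B) := by group
        _ = A * (C * C) * B := by rw [hA, one_mul, mul_one]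
        _ = A * C * (C * B) := by group
        _ = _ := by rw [M.frame.comm hB (M.ψ_mem w)]
    have e := key _ _ v2 hone
    rw [e]
    exact mul_mem q1 q2
  -- products
  have hmul : ∀ {a b c e : ℕ}, inW a = true → inW b = true → Good c → fixC c = true → Good e →
      ∃ a', inW a' = true ∧ M.ev a (el c) * M.ev b (el e) = M.ev a' (el c * el e) := fun {a b c e}
    ha hb hc hcF he => ⟨a ^^^ act c b, M.inW_xor h7 S F B hMV hE ha (M.inW_act h7 S F B hMV hE hcF hb),
      M.ev_mul (M.inW_lt h7 S F B hMV hE ha) (M.inW_lt h7 S F B hMV hE hb) hc⟩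
  have hvec : ∀ {x a c}, x = M.ev a (el c) → inW a = true → ∀ {b} {σ : ↥M24}, b < 2048 →
      x = M.ev b σ → inW b = true := fun {x a c} h1 ha {b σ} hb h2 => by
    rwa [(M.ev_inj hb (M.inW_lt h7 S F B hMV hE ha) (h2.symm.trans h1)).1]
  obtain ⟨hC, a, ha, c, hc, hcF, rfl⟩ := hshape hg h1
  refine ⟨a, c, ?_, hc, hcF, rfl⟩
  obtain ⟨e, he, i, hi⟩ := (S.img_eq_one hg).mp h1
  obtain ⟨r, hr, b, hb, rfl⟩ := M.core_elem S F B hMV h7 hE he
  have hbW := (inW_iff_mem b).mpr hb
  have hrg := (rows_good hr).1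
  have hrF := M.fixC_of_cen h7 S F B hMV hE hrg
    (M.cen_of_img_one S F B hMV h7 hE (Q_le_cz z he) (S.img_Q he))
  have h3 : p ^ (3 : ℤ) = 1 := by
    rw [show (3 : ℤ) = ((3 : ℕ) : ℤ) from rfl, zpow_natCast, S.p_cube]
  have hk3 : p ^ i = p ^ (i % 3) := by
    conv_lhs => rw [← Int.emod_add_mul_ediv i 3, zpow_add, zpow_mul, h3, one_zpow, mul_one]
  rw [hk3] at hi
  obtain hr' | hr' | hr' : i % 3 = 0 ∨ i % 3 = 1 ∨ i % 3 = 2 := by omega
  all_goals rw [hr'] at hi
  · rw [zpow_zero, mul_one] at hi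
    exact hvec hi hbW ha rfl
  · rw [zpow_one, hp] at hi
    obtain ⟨a', ha', e'⟩ := hmul hbW hwW hrg hrF hd
    rw [← el_mul hrg hd] at e'
    exact hvec (hi.trans e') ha' ha rfl
  · rw [show (2 : ℤ) = ((2 : ℕ) : ℤ) from rfl, zpow_natCast, pow_two, hp] at hi
    obtain ⟨a', ha', e'⟩ := hmul hwW hwW hd hdF hd
    rw [e', ← el_mul hd hd] at hi
    obtain ⟨a'', ha'', e''⟩ := hmul hbW ha' hrg hrF (good_mulP hd hd)
    rw [← el_mul hrg (good_mulP hd hd)] at e''
    exact hvec (hi.trans e'') ha'' ha rfl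

theorem act_rows {r : ℕ × ℕ × ℕ × ℕ × ℕ} (hr : r ∈ LabelData.imageRows) : act r.1 7 = 7 :=
  (M.st_iff h7 (rows_good hr).1).mp ((M.ev_mem_mm h7).mp
    (show M.ev 0 (el r.1) ∈ M.mm from
      have hq := M.rows_mem_Q h7 S F B hMV hE (M.inW_zero h7 S F B hMV hE) hr
      ⟨M.mem_norm_of_img_one S F B hMV h7 hE (Q_le_cz z hq) (S.img_Q hq), Q_le_cz z hq⟩))

/-- A listed permutation fixing the rest modulo the core part. -/
theorem mem_kerList {c : ℕ} (hc : Good c) (hs : act c 7 = 7) (hF : fixC c = true) :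
    ∃ k ∈ kerList, Good k ∧ el k = el c := by
  obtain ⟨h, hh, t, ht, hhM, hok, he⟩ := exists_rep hc hs
  have hg : Good (mulP 24 5 h t) := ⟨hok, he ▸ hc.2⟩
  have hel : el (mulP 24 5 h t) = el c := Subtype.ext (by rw [el_coe hg.2, el_coe hc.2, he])
  have hget : ∀ x < 24, getW 5 (mulP 24 5 h t) x = getW 5 c x := fun x hx =>
    FusionAlperin.MathieuCert.getW_eq_of_gperm hok hc.1 he hx
  have himg : imgL (mulP 24 5 h t) = imgL c := by
    simp only [imgL]
    exact List.map_congr_left fun i hi => by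
      rw [hget 23 (by norm_num), hget i (lt_of_lt_of_le (List.mem_range.mp hi) (by norm_num))]
  have hF' : fixC (mulP 24 5 h t) = true := by rw [fixC, himg]; exact hF
  have htM : okCode t = true := by
    have hall : M24Classes.Coset.tails.all okCode = true := by decide +kernel
    exact List.all_eq_true.mp hall t ht
  have hpre : preFix h t = true := by
    simp only [preFix, List.all_eq_true]
    intro i hi
    have hi' : i < 11 := by
      simp only [List.mem_cons, List.not_mem_nil, or_false] at hi; omega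
    have e : ∀ x < 24, getW 5 h (getW 5 t x) = getW 5 (mulP 24 5 h t) x := fun x hx => by
      have e1 := idx_gperm hok (pt x)
      rw [gperm_mul (okCode_of_inM24 hhM) htM, Equiv.Perm.mul_apply, idx_gperm (okCode_of_inM24 hhM),
        idx_gperm htM, idx_pt hx] at e1
      exact e1
    rw [e 23 (by norm_num), e i (by omega), ← act_two_pow _ hi']
    exact (M.fixC_iff h7 S F B hMV hE).mp hF' _ (Nat.pow_lt_pow_right (by norm_num) hi')
  have hs' := List.all_eq_true.mp AzModelScan.fix_ok h hh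
  simp only [fixScan, forceNat_eq, List.all_eq_true, Bool.or_eq_true, Bool.not_eq_true',
    ← Bool.not_eq_true] at hs'
  rcases hs' t ht with hn | hn | hn
  · exact absurd hpre hn
  · exact absurd hF' hn
  have hmem := mem_of_find kerList_len hn
  have hk := AzModel.ker_spec hmem
  exact ⟨_, hmem, hk.1, (el_eq_of_canon hk.1 hg hk.2.1).trans hel⟩

theorem k3_good : Good k3 ∧ el k3 * (el k3 * el k3) = 1 := by
  have h : (inM24 k3 && Nat.beq (canon (mulP 24 5 k3 (mulP 24 5 k3 k3))) oneCode) = true := by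
    decide +kernel
  simp only [Bool.and_eq_true, Nat.beq_eq] at h
  have g := good_of_inM24 h.1
  refine ⟨g, ?_⟩
  rw [← el_mul g g, ← el_mul g (good_mulP g g), el_eq_one_of_canon (good_mulP g (good_mulP g g)) h.2]

theorem rows_img {a : ℕ} (ha : inW a = true) {r : ℕ × ℕ × ℕ × ℕ × ℕ}
    (hr : r ∈ LabelData.imageRows) : M.ev a (el r.1) ∈ cz z ∧ S.img (M.ev a (el r.1)) = 1 := by
  have hq := M.rows_mem_Q h7 S F B hMV hE ha hr
  exact ⟨Q_le_cz z hq, S.img_Q hq⟩

theorem psi_img {a : ℕ} (ha : inW a = true) : M.ψ a ∈ cz z ∧ S.img (M.ψ a) = 1 := by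
  have hq := (M.inW_iff h7 S F B hMV hE (M.inW_lt h7 S F B hMV hE ha)).mp ha
  exact ⟨Q_le_cz z hq, S.img_Q hq⟩

/-- The element of order three gives a kernel element outside the core. -/
theorem k3_ker : M.κ (el k3) ∈ cz z ∧ S.img (M.κ (el k3)) = 1 ∧ M.κ (el k3) ∉ Q z := by
  obtain ⟨hg3, h33⟩ := M.k3_good h7 S F B hMV hE
  obtain ⟨w, d, hwW, hd, hdF, hp⟩ := M.ker_shape h7 S F B hMV hE S.p_mem_cz S.img_p
  have hpm : p ∈ M.mm :=
    ⟨M.mem_norm_of_img_one S F B hMV h7 hE S.p_mem_cz S.img_p, S.p_mem_cz⟩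
  have hst : act d 7 = 7 := (M.st_iff h7 hd).mp ((M.ev_mem_mm h7).mp (hp ▸ hpm))
  obtain ⟨k, hk, hkg, hkd⟩ := M.mem_kerList h7 S F B hMV hE hd hst hdF
  obtain ⟨-, hkc, -, r, hr, hcase⟩ := AzModel.ker_spec hk
  have hrg := (rows_good hr).1
  obtain ⟨hr1, hr2⟩ := M.rows_img h7 S F B hMV hE (M.inW_zero h7 S F B hMV hE) hr
  have hev0 : M.ev 0 (el r.1) = M.κ (el r.1) := by rw [ev, M.ψ_zero, one_mul]
  rw [hev0] at hr1 hr2
  obtain ⟨hw1, hw2⟩ := M.psi_img h7 S F B hMV hE hwW
  -- the permutation of `p` is the one of a row times a power of `k3`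
  have hj : ∃ x : G, M.κ (el r.1) * x = M.κ (el d) ∧
      (x = M.κ (el k3) ∨ x = M.κ (el k3) * M.κ (el k3)) := by
    rcases hcase with h | h | h
    · exfalso
      refine S.p_not_mem ?_
      rw [hp, ← hkd, ← el_eq_of_canon hrg hkg (h.trans hkc.symm)]
      exact M.rows_mem_Q h7 S F B hMV hE hwW hr
    · exact ⟨_, by rw [← map_mul, ← el_mul hrg hg3, ← hkd,
        el_eq_of_canon (good_mulP hrg hg3) hkg (h.trans hkc.symm)], Or.inl rfl⟩
    · exact ⟨_, by rw [← map_mul, ← map_mul, ← el_mul hg3 hg3, ← el_mul hrg (good_mulP hg3 hg3),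
        ← hkd, el_eq_of_canon (good_mulP hrg (good_mulP hg3 hg3)) hkg (h.trans hkc.symm)], Or.inr rfl⟩
  obtain ⟨x, hx, hxe⟩ := hj
  have hdz : M.κ (el d) ∈ cz z ∧ S.img (M.κ (el d)) = 1 := by
    have e : M.κ (el d) = M.ψ w * p := by rw [hp, ev, ← mul_assoc, M.ψ_sq, one_mul]
    rw [e, S.img_mul hw1 S.p_mem_cz, hw2, S.img_p, one_mul]
    exact ⟨mul_mem hw1 S.p_mem_cz, rfl⟩
  have hxz : x ∈ cz z ∧ S.img x = 1 := by
    have e : x = (M.κ (el r.1))⁻¹ * M.κ (el d) := by rw [← hx]; group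
    rw [e, S.img_mul (inv_mem hr1) hdz.1, S.img_inv hr1, hr2, hdz.2, inv_one, one_mul]
    exact ⟨mul_mem (inv_mem hr1) hdz.1, rfl⟩
  set K := M.κ (el k3)
  have h3 : K * (K * K) = 1 := by rw [← map_mul, ← map_mul, h33, map_one]
  have hK : K ∈ cz z ∧ S.img K = 1 := by
    rcases hxe with rfl | rfl
    · exact hxz
    · have e : K = K * K * (K * K) := by rw [mul_assoc, h3, mul_one]
      rw [e, S.img_mul hxz.1 hxz.1, hxz.2, one_mul]
      exact ⟨mul_mem hxz.1 hxz.1, rfl⟩
  refine ⟨hK.1, hK.2, fun hQ => S.p_not_mem ?_⟩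
  rw [hp, ev, ← hx]
  refine mul_mem ((M.inW_iff h7 S F B hMV hE (M.inW_lt h7 S F B hMV hE hwW)).mp hwW)
    (mul_mem ?_ ?_)
  · rw [← hev0]
    exact M.rows_mem_Q h7 S F B hMV hE (M.inW_zero h7 S F B hMV hE) hr
  · rcases hxe with rfl | rfl
    exacts [hQ, mul_mem hQ hQ]

theorem img_one_iff_coord {a c : ℕ} (ha : a < 2048) (hc : Good c) (hs : act c 7 = 7) :
    S.img (M.ev a (el c)) = 1 ↔ inW a = true ∧ fixC c = true := by
  have hx : M.ev a (el c) ∈ cz z := ((M.ev_mem_mm h7).mpr ((M.st_iff h7 hc).mpr hs)).2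
  constructor
  · intro h
    obtain ⟨a', c', ha', hc', hcF, e⟩ := M.ker_shape h7 S F B hMV hE hx h
    obtain ⟨rfl, hel⟩ := M.ev_inj ha (M.inW_lt h7 S F B hMV hE ha') e
    refine ⟨ha', ?_⟩
    have hc4 : imgL c = imgL c' := by
      have hg : gperm c = gperm c' := by
        have := congrArg Subtype.val hel
        rwa [el_coe hc.2, el_coe hc'.2] at this
      simp only [imgL]
      exact List.map_congr_left fun i hi => by
        rw [FusionAlperin.MathieuCert.getW_eq_of_gperm hc.1 hc'.1 hg (by norm_num : 23 < 24),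
          FusionAlperin.MathieuCert.getW_eq_of_gperm hc.1 hc'.1 hg
            (lt_of_lt_of_le (List.mem_range.mp hi) (by norm_num))]
    rw [fixC, hc4]
    exact hcF
  · rintro ⟨haW, hcF⟩
    obtain ⟨k, hk, hkg, hkc'⟩ := M.mem_kerList h7 S F B hMV hE hc hs hcF
    obtain ⟨-, hkc, -, r, hr, hcase⟩ := AzModel.ker_spec hk
    obtain ⟨hg3, -⟩ := M.k3_good h7 S F B hMV hE
    obtain ⟨hK1, hK2, -⟩ := M.k3_ker h7 S F B hMV hE
    have hrg := (rows_good hr).1
    obtain ⟨hr1, hr2⟩ := M.rows_img h7 S F B hMV hE haW hr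
    rcases hcase with h | h | h
    · rw [← hkc', ← el_eq_of_canon hrg hkg (h.trans hkc.symm)]
      exact hr2
    · rw [← hkc', ← el_eq_of_canon (good_mulP hrg hg3) hkg (h.trans hkc.symm), el_mul hrg hg3, ev,
        map_mul, ← mul_assoc]
      rw [show M.ψ a * M.κ (el r.1) = M.ev a (el r.1) from rfl, S.img_mul hr1 hK1, hr2, hK2, one_mul]
    · rw [← hkc', ← el_eq_of_canon (good_mulP hrg (good_mulP hg3 hg3)) hkg (h.trans hkc.symm),
        el_mul hrg (good_mulP hg3 hg3), el_mul hg3 hg3, ev, map_mul, map_mul, ← mul_assoc]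
      rw [show M.ψ a * M.κ (el r.1) = M.ev a (el r.1) from rfl, S.img_mul hr1 (mul_mem hK1 hK1),
        S.img_mul hK1 hK1, hr2, hK2, one_mul, one_mul]

theorem img_Uh_iff {a c : ℕ} (ha : a < 2048) (hc : Good c) (hs : act c 7 = 7) :
    S.img (M.ev a (el c)) ∈ Uh ↔ fixC c = true := by
  have hVz : M.V ≤ cz z := hMV ▸ (vv_facts S F B.toBigConfig).2.2
  have himg : S.imgS M.V = Uh := hMV ▸ imgS_vv S F B.toBigConfig
  have hst := (M.st_iff h7 hc).mpr hs
  have hx : M.ev a (el c) ∈ cz z := ((M.ev_mem_mm h7).mpr hst).2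
  have hsq : ∀ b, S.img (M.ψ b) * S.img (M.ψ b) = 1 := fun b => by
    rw [← S.img_mul (hVz (M.ψ_mem b)) (hVz (M.ψ_mem b)), M.ψ_sq]
    exact S.img_Q (one_mem _)
  constructor
  · intro h
    rw [← himg] at h
    obtain ⟨v, hv, e⟩ := (S.mem_imgS hVz).mp h
    obtain ⟨b, hb, rfl⟩ := M.frame.surj v hv
    refine ((M.img_one_iff_coord h7 S F B hMV hE (Nat.xor_lt_two_pow (n := 11) hb ha) hc hs).mp ?_).2
    rw [ev, M.frame.mul b a hb ha, mul_assoc, show M.ψ a * M.κ (el c) = M.ev a (el c) from rfl,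
      S.img_mul (hVz (M.ψ_mem b)) hx, ← e]
    exact hsq b
  · intro h
    have h0 := (M.img_one_iff_coord h7 S F B hMV hE (show 0 < 2048 by norm_num) hc hs).mpr
      ⟨M.inW_zero h7 S F B hMV hE, h⟩
    have hk : M.κ (el c) ∈ cz z := mem_cz.mpr hst
    rw [ev, M.ψ_zero, one_mul] at h0
    rw [ev, S.img_mul (hVz (M.ψ_mem a)) hk, h0, mul_one, ← himg]
    exact (S.mem_imgS hVz).mpr ⟨_, M.ψ_mem a, rfl⟩

theorem img_inn_iff {a c : ℕ} (ha : a < 2048) (hc : Good c) (hs : act c 7 = 7)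
    (h2 : el c * el c = 1) : S.img (M.ev a (el c)) ∈ inn ↔ innC c = true := by
  have hVz : M.V ≤ cz z := hMV ▸ (vv_facts S F B.toBigConfig).2.2
  set x := M.ev a (el c) with hxdef
  have hx : x ∈ cz z := ((M.ev_mem_mm h7).mpr ((M.st_iff h7 hc).mpr hs)).2
  obtain ⟨hg3, -⟩ := M.k3_good h7 S F B hMV hE
  obtain ⟨hy, hy1, hyQ⟩ := M.k3_ker h7 S F B hMV hE
  set y := M.κ (el k3) with hydef
  rw [S.img_mem_inn F hx]
  -- membership in the inner part through the commutator with `y`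
  have hnorm : ∀ {g e : G}, g ∈ cz z → e ∈ Q z → g * e * g⁻¹ ∈ Q z := fun hg he =>
    isQ.normal (mem_cz.mp hg) he
  have hmul : ∀ {u v : G}, u ∈ cz z → x * u * x⁻¹ * u⁻¹ ∈ Q z → x * v * x⁻¹ * v⁻¹ ∈ Q z →
      x * (u * v) * x⁻¹ * (u * v)⁻¹ ∈ Q z := fun {u v} hu h1 h2 => by
    rw [show x * (u * v) * x⁻¹ * (u * v)⁻¹ =
      (x * u * x⁻¹ * u⁻¹) * (u * (x * v * x⁻¹ * v⁻¹) * u⁻¹) by group]
    exact mul_mem h1 (hnorm hu h2)
  have hQc : ∀ e ∈ Q z, x * e * x⁻¹ * e⁻¹ ∈ Q z := fun e he => mul_mem (hnorm hx he) (inv_mem he)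
  obtain ⟨e, he, i, hi⟩ := (S.img_eq_one hy).mp hy1
  have h3 : p ^ (3 : ℤ) = 1 := by
    rw [show (3 : ℤ) = ((3 : ℕ) : ℤ) from rfl, zpow_natCast, S.p_cube]
  have hk3 : p ^ i = p ^ (i % 3) := by
    conv_lhs => rw [← Int.emod_add_mul_ediv i 3, zpow_add, zpow_mul, h3, one_zpow, mul_one]
  rw [hk3] at hi
  have hcomm : x ∈ inner z p ↔ x * y * x⁻¹ * y⁻¹ ∈ Q z := by
    have hi' : i % 3 = 1 ∨ i % 3 = 2 := by
      rcases (show i % 3 = 0 ∨ i % 3 = 1 ∨ i % 3 = 2 by omega) with h | h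
      · exact absurd (by rw [hi, h, zpow_zero, mul_one]; exact he) hyQ
      · exact h
    constructor
    · intro hin
      have hp : x * p * x⁻¹ * p⁻¹ ∈ Q z := hin.2
      rcases hi' with h | h <;> rw [h] at hi <;> rw [hi]
      · rw [zpow_one]
        exact hmul (Q_le_cz z he) (hQc e he) hp
      · rw [show (2 : ℤ) = ((2 : ℕ) : ℤ) from rfl, zpow_natCast, pow_two]
        exact hmul (Q_le_cz z he) (hQc e he) (hmul S.p_mem_cz hp hp)
    · intro h
      refine ⟨mem_cz.mp hx, ?_⟩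
      have hez : e⁻¹ ∈ cz z := inv_mem (Q_le_cz z he)
      have hp' := hmul hez (hQc _ (inv_mem he)) h
      rcases hi' with h' | h' <;> rw [h'] at hi <;>
        rw [show e⁻¹ * y = _ from inv_mul_eq_iff_eq_mul.mpr hi] at hp'
      · rwa [zpow_one] at hp'
      · have := hmul (zpow_mem S.p_mem_cz 2) hp' hp'
        rwa [← zpow_add, show (2 : ℤ) + 2 = 3 + 1 by norm_num, zpow_add, h3, one_mul, zpow_one] at this
  rw [hcomm]
  -- the commutator in coordinates
  set k' := mulP 24 5 (mulP 24 5 c k3) c with hk'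
  have hgk' : Good k' := good_mulP (good_mulP hc hg3) hc
  have hinv : (el c)⁻¹ = el c := inv_eq_of_mul_eq_one_right h2
  have hconj : x * y * x⁻¹ = M.ψ a * M.κ (el k') * (M.ψ a)⁻¹ := by
    rw [hk', el_mul (good_mulP hc hg3) hc, el_mul hc hg3, map_mul, map_mul, hxdef, hydef, ev,
      mul_inv_rev, ← map_inv, hinv]
    group
  have hxy : x * y * x⁻¹ ∈ cz z := mul_mem (mul_mem hx hy) (inv_mem hx)
  have hxy1 : S.img (x * y * x⁻¹) = 1 := by
    rw [S.img_mul (mul_mem hx hy) (inv_mem hx), S.img_mul hx hy, hy1, S.img_inv hx]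
    group
  have hv := Nat.xor_lt_two_pow (n := 11) ha (act_lt k' a)
  have hev : x * y * x⁻¹ = M.ev (a ^^^ act k' a) (el k') := by
    rw [hconj, M.ψ_inv, ev, M.frame.mul a _ ha (act_lt _ _), ← M.conj_el hgk' ha]
    group
  obtain ⟨a', c', haW, -, -, e'⟩ := M.ker_shape h7 S F B hMV hE hxy hxy1
  have hvW : inW (a ^^^ act k' a) = true := by
    rwa [(M.ev_inj hv (M.inW_lt h7 S F B hMV hE haW) (hev.symm.trans e')).1]
  simp only [innC, forceNat_eq, List.any_eq_true, Nat.beq_eq]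
  constructor
  · intro h
    obtain ⟨r, hr, b, hb, hcore⟩ := M.core_elem S F B hMV h7 hE h
    refine ⟨r, hr, ?_⟩
    have e1 : M.ev (a ^^^ act k' a) (el k') = M.ev b (el r.1 * el k3) := by
      rw [← hev, show x * y * x⁻¹ = x * y * x⁻¹ * y⁻¹ * y by group, hcore, hydef, ev, ev, map_mul,
        mul_assoc]
    have e2 := (M.ev_inj hv (coreW_lt hb) e1).2
    rw [← el_mul (rows_good hr).1 hg3] at e2
    have e3 := congrArg Subtype.val e2
    rw [el_coe hgk'.2, el_coe (good_mulP (rows_good hr).1 hg3).2] at e3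
    exact FusionAlperin.MathieuCert.canon_congr fun j hj =>
      FusionAlperin.MathieuCert.getW_eq_of_gperm (good_mulP (rows_good hr).1 hg3).1 hgk'.1 e3.symm hj
  · rintro ⟨r, hr, e1⟩
    rw [hev, ← el_eq_of_canon (good_mulP (rows_good hr).1 hg3) hgk' e1, el_mul (rows_good hr).1 hg3,
      ev, map_mul, ← hydef, ← mul_assoc, mul_inv_cancel_right]
    exact M.rows_mem_Q h7 S F B hMV hE hvW hr

end NModel

end Cfsg.Agent.Lib.J4Order
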