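import Cfsg.Agent.Lib.J4Order.AzModelCalc

/-!
# Running the scans of the stabiliser of the sextet of 7
-/

set_option autoImplicit false
set_option maxRecDepth 100000

namespace Cfsg.Agent.Lib.J4Order.AzModelScan

open AzModelCalc AzModelData

theorem tuple_ok : (List.range 24).all tupleScan = true := by decide +kernel

theorem fix_ok : tupReps.all fixScan = true := by decide +kernel

theorem sq_ok : tupReps.all sqScan = true := by decide +kernel

end Cfsg.Agent.Lib.J4Order.AzModelScan
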