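import Cfsg.Agent.Lib.J4Order.AzModelCalc
import Cfsg.Agent.Lib.J4Order.AzPairs

/-!
# The weight of a pair of involutions in the normaliser of the hexad subgroup
-/

set_option autoImplicit false
set_option linter.unusedSectionVars false
set_option maxRecDepth 100000

namespace Cfsg.Agent.Lib.J4Order

open Cfsg Cfsg.Agent.Lib.J4Local Cfsg.Agent.Lib.Golay Cfsg.Agent.Lib.Computation
open Cfsg.Agent.Lib.J4Big Cfsg.Agent.Lib.J4Big.Codes
open AtCalc AtData AzPairs AzModelCalc

namespace AzWeight

/-- An outer involution normalising 21 conjugates has no product of order eight with an inner one. -/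
def noEightOk : Bool :=
  AtCalc.blocks.all fun b => AzCalc.innC b.code || !Nat.beq (AzCalc.hexN b.code b.code) 21 ||
    b.roots.all fun r => !AzCalc.innC r.code || !Nat.beq r.ord 8

theorem no_eight_ok : noEightOk = true := by decide +kernel

theorem no_eight {α β : AutM22} (hα : α * α = 1) (hβ : β * β = 1) (hi : α ∉ inn)
    (h21 : incid α α = 11520 * 21) (hj : β ∈ inn) : orderOf (α * β) ≠ 8 := by
  obtain ⟨b, hb, r, hr, g, rfl, rfl⟩ := exists_root hα hβ
  obtain ⟨hgb, hgr⟩ := table_good hb
  obtain ⟨hord, -⟩ := root_prod hb hr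
  rw [mem_inn_conj, ← AzPairs.innC_iff (pairOk_good hgb)] at hi
  rw [mem_inn_conj, ← AzPairs.innC_iff (pairOk_good (hgr r hr))] at hj
  rw [incid_conj, incid_root hgb hgb] at h21
  rw [orderOf_conj_mul, hord]
  have h := no_eight_ok
  simp only [noEightOk, List.all_eq_true, Bool.or_eq_true, Bool.not_eq_true', ← Bool.not_eq_true,
    Nat.beq_eq] at h
  rcases h b hb with (h' | h') | h'
  · exact absurd h' hi
  · exact absurd (by omega) h'
  · exact (h' r hr).resolve_left (not_not.mpr hj)

theorem pow_mem_inn (γ : AutM22) (k : ℕ) : γ ^ k ∈ inn ↔ Even k ∨ γ ∈ inn := by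
  induction k with
  | zero => simp
  | succ k ih =>
    rw [pow_succ, Subgroup.mul_mem_iff_of_index_two AutLocal.inn_index, ih, Nat.even_add_one]
    tauto

/-- An involution in the centraliser of an element of order three outside the inner part. -/
theorem twentyone {α y : AutM22} (hα : α * α = 1) (hi : α ∉ inn) (hc : Commute y α)
    (hy : orderOf y = 3) : incid α α = 11520 * 21 :=
  ((table_one hα).2 hi).resolve_left fun h5 => five_no_three hα hi h5 hc hy

/-- An outer involution with an inner one giving order eight normalises five conjugates. -/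
theorem five_of_eight {β ε : AutM22} (hβ : β * β = 1) (hε : ε * ε = 1) (hi : β ∉ inn) (hj : ε ∈ inn)
    (h8 : orderOf (ε * β) = 8) : incid β β = 11520 * 5 := by
  refine ((table_one hβ).2 hi).resolve_right fun h => no_eight hβ hε hi h hj ?_
  rw [← orderOf_inv, mul_inv_rev, inv_eq_of_mul_eq_one_right hβ, inv_eq_of_mul_eq_one_right hε, h8]

/-- The weight when the central involution is in the hexad subgroup. -/
theorem wt_twice {α β : AutM22} {m0 : ℕ} (hn : orderOf (α * β) = 2 * m0)
    (hU : (α * β) ^ m0 ∈ Cert2.Uh) : HasC α β ∧ wt α β = 90090 := by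
  have hc : cEl α β = (α * β) ^ m0 := by
    rw [cEl, hn, Nat.mul_div_cancel_left _ (by norm_num : 0 < 2)]
  have hC : HasC α β := ⟨by rw [hn]; exact even_two_mul m0,
    by rw [hc]; exact (Cert2.normConfig.le_Uh hU).2⟩
  refine ⟨hC, ?_⟩
  rw [wt, if_pos hC, if_pos (by rw [hc]; exact hU)]

/-- The weight when the order of the product is that of the permutations. -/
theorem wt_same {α β : AutM22} {m0 : ℕ} {fk fl ik il aW eo : Bool} (hα : α * α = 1) (hβ : β * β = 1)
    (hαN : α ∈ NU) (hβN : β ∈ NU) (hn : orderOf (α * β) = m0) (h1 : (fk && aW) = true ↔ α = 1)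
    (hik : ik = true ↔ α ∈ inn) (hil : il = true ↔ β ∈ inn)
    (hU : Even m0 → (α * β) ^ (m0 / 2) ∉ Cert2.Uh)
    (h21 : α ∉ inn → incid α α = 11520 * 21)
    (heo : eo = true → β ∉ inn → incid β β = 11520 * 5)
    (hne : wSame fk fl ik il aW m0 eo < bad) :
    wSame fk fl ik il aW m0 eo = wt α β ∧ (α ∈ inn → α ≠ 1 → β ∉ inn → HasC α β) := by
  have hbad : ∀ {w : ℕ}, w = bad → ¬ w < bad := fun {w} h => by omega
  have hprod : α * β ∈ inn ↔ (α ∈ inn ↔ β ∈ inn) :=
    Subgroup.mul_mem_iff_of_index_two AutLocal.inn_index
  have hC : HasC α β ↔ Even m0 ∧ (Even (m0 / 2) ∨ (α ∈ inn ↔ β ∈ inn)) := by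
    rw [HasC, cEl, hn, pow_mem_inn, hprod]
  have hwt : ∀ {k : ℕ}, ¬ HasC α β → incid α β = 11520 * k → wt α β = 90090 * 11520 / (11520 * k) :=
    fun {k} hc hk => by rw [wt, if_neg hc, if_pos ⟨hαN, hβN⟩, hk]
  rcases Nat.even_or_odd m0 with hev | hodd
  · have hb : Nat.beq (m0 % 2) 0 = true := by
      rw [Nat.beq_eq]; exact Nat.even_iff.mp hev
    rw [wSame, hb, cond_true] at hne ⊢
    cases hc : (ik == il) || Nat.beq (m0 / 2 % 2) 0 with
    | true =>
      have hH : HasC α β := hC.mpr ⟨hev, by
        simp only [Bool.or_eq_true, beq_iff_eq, Nat.beq_eq] at hc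
        rcases hc with h | h
        · exact Or.inr (by rw [← hik, ← hil, h])
        · exact Or.inl (Nat.even_iff.mpr h)⟩
      refine ⟨?_, fun _ _ _ => hH⟩
      rw [cond_true, wt, if_pos hH, if_neg]
      rw [cEl, hn]; exact hU hev
    | false =>
      rw [hc, cond_false] at hne
      rw [cond_false]
      cases hd : Nat.beq m0 2 && fk && aW && !il && !fl && eo with
      | false => rw [hd, cond_false] at hne; exact absurd hne (hbad rfl)
      | true =>
        simp only [Bool.and_eq_true, Nat.beq_eq, Bool.not_eq_true'] at hd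
        obtain ⟨⟨⟨⟨⟨h2, hfk⟩, haW⟩, hi⟩, -⟩, he⟩ := hd
        have hα1 : α = 1 := h1.mp (by simp [hfk, haW])
        have hβi : β ∉ inn := fun h => by simp [hil.mpr h] at hi
        have h5 := heo he hβi
        have hnC : ¬ HasC α β := fun h => by
          rcases (hC.mp h).2 with h' | h'
          · rw [h2] at h'; exact absurd h' (by decide)
          · exact hβi (h'.mp (hα1 ▸ one_mem _))
        refine ⟨?_, fun _ h _ => absurd hα1 h⟩
        rw [cond_true, hwt hnC (k := 5)]
        rw [hα1, incid_comm, incid_one_right, h5]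
  · have hb : Nat.beq (m0 % 2) 0 = false := by
      rw [← Bool.not_eq_true, Nat.beq_eq, Nat.odd_iff.mp hodd]; norm_num
    have hnC : ¬ HasC α β := fun h => (Nat.not_even_iff_odd.mpr hodd) (hC.mp h).1
    have hpar : α ∈ inn ↔ β ∈ inn := hprod.mp (by
      have h := (pow_mem_inn (α * β) m0).mp (by rw [← hn, pow_orderOf_eq_one]; exact one_mem _)
      exact h.resolve_left (Nat.not_even_iff_odd.mpr hodd))
    refine ⟨?_, fun hi _ hj => absurd (hpar.mp hi) hj⟩
    rw [wSame, hb, cond_false] at hne ⊢
    cases hm1 : Nat.beq m0 1 with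
    | true =>
      have e : β = α := by
        rw [Nat.beq_eq] at hm1
        subst hm1
        rw [orderOf_eq_one_iff] at hn
        exact mul_left_cancel (hn.trans hα.symm)
      subst e
      rw [cond_true]
      cases hf : fk && aW with
      | true =>
        rw [cond_true]
        have := h1.mp hf
        subst this
        rw [hwt hnC (k := 77) (incid_one.trans (by norm_num))]
      | false =>
        have hne1 : β ≠ 1 := fun h => by rw [h1.mpr h] at hf; exact absurd hf (by simp)
        rw [cond_false]
        cases hi : ik with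
        | true => rw [cond_true, hwt hnC (k := 13) ((table_one hα).1 (hik.mp hi) hne1)]
        | false =>
          rw [cond_false, hwt hnC (k := 21) (h21 fun h => by simp [hik.mpr h] at hi)]
    | false =>
      rw [hm1, cond_false] at hne
      rw [cond_false]
      obtain ⟨k, -, hk, -, -, h3, h5, h3o⟩ := table hα hβ
      cases hm3 : Nat.beq m0 3 with
      | true =>
        rw [hm3, cond_true] at hne
        rw [cond_true]
        rw [Nat.beq_eq] at hm3
        cases hi : ik with
        | true =>
          rw [hi, cond_true] at hne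
          rw [cond_true]
          cases hj : il with
          | true =>
            rw [cond_true, hwt hnC (hk.trans (by rw [h3 (hik.mp hi) (hil.mp hj) (hn.trans hm3)]))]
          | false => rw [hj, cond_false] at hne; exact absurd hne (hbad rfl)
        | false =>
          have hαi : α ∉ inn := fun h => by simp [hik.mpr h] at hi
          rw [cond_false, hwt hnC (hk.trans (by rw [h3o hαi (h21 hαi) (hn.trans hm3)]))]
      | false =>
        rw [hm3, cond_false] at hne
        rw [cond_false]
        cases hd : Nat.beq m0 5 && ik && il with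
        | false => rw [hd, cond_false] at hne; exact absurd hne (hbad rfl)
        | true =>
          simp only [Bool.and_eq_true, Nat.beq_eq] at hd
          rw [cond_true, hwt hnC (hk.trans (by rw [h5 (hik.mp hd.1.2) (hil.mp hd.2) (hn.trans hd.1.1)]))]

end AzWeight

end Cfsg.Agent.Lib.J4Order
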