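import Cfsg.Agent.Lib.J4Order.AtCount
import Cfsg.Agent.Lib.J4Order.Classes
import Cfsg.Agent.Lib.Involutions.Thompson

/-!
# The order of a group of Janko-four type from the two counts of pairs
-/

set_option autoImplicit false
set_option linter.unusedSectionVars false

namespace Cfsg.Agent.Lib.J4Order

open Cfsg Cfsg.Agent.Lib.J4Local

variable {G : Type*} [Group G] [Finite G] [IsSimpleGroup G] {z : G}

omit [Finite G] [IsSimpleGroup G] in
/-- An involution in the cyclic group of the product of two involutions commutes with both. -/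
theorem commute_of_mem_zpowers {u v t : G} (hu : u * u = 1) (hv : v * v = 1) (ht : t * t = 1)
    (h : t ∈ Subgroup.zpowers (u * v)) : Commute u t ∧ Commute v t := by
  obtain ⟨k, rfl⟩ := Subgroup.mem_zpowers_iff.mp h
  have e : ∀ a : G, a * (u * v) * a⁻¹ = (u * v)⁻¹ → Commute a ((u * v) ^ k) := by
    intro a ha
    refine mul_inv_eq_iff_eq_mul.mp ?_
    rw [← conj_zpow, ha, inv_zpow, inv_eq_of_mul_eq_one_right ht]
  have hu' : u⁻¹ = u := inv_eq_of_mul_eq_one_right hu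
  have hv' : v⁻¹ = v := inv_eq_of_mul_eq_one_right hv
  refine ⟨e u ?_, e v ?_⟩ <;> rw [mul_inv_rev, hu', hv']
  · calc u * (u * v) * u = u * u * v * u := by group
      _ = v * u := by rw [hu, one_mul]
  · calc v * (u * v) * v = v * u * (v * v) := by group
      _ = v * u := by rw [hv, mul_one]

/-- The pairs at the second involution. -/
theorem card_pairs_second (M : NModel z) {o : Bool} (F : Fus M o)
    (hcl : ∀ x : G, orderOf x = 2 → ¬ IsConj z x → IsConj (M.ψ 1) x) :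
    Nat.card {q : G × G // IsConj z q.1 ∧ IsConj (M.ψ 1) q.2 ∧
      M.ψ 1 ∈ Subgroup.zpowers (q.1 * q.2)} = 1544188503 := by
  rw [← M.atCount o F]
  refine Nat.card_congr (Equiv.subtypeEquivRight fun q => ⟨?_, ?_⟩)
  · rintro ⟨h1, h2, h3⟩
    have hq : orderOf q.2 = 2 := by
      obtain ⟨n, hn⟩ := isConj_iff.mp h2
      rw [← hn, orderOf_conjugate, M.orderOf_psi_one]
    have h22 : q.2 * q.2 = 1 := by rw [← pow_two, ← hq, pow_orderOf_eq_one]
    obtain ⟨c1, c2⟩ := commute_of_mem_zpowers (sq_of_isConj F.ord_z h1) h22 (M.ψ_sq 1) h3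
    exact ⟨c1, c2, h1, hq, fun h => M.psi_one_not_conj (h.trans h2.symm), h3⟩
  · rintro ⟨-, -, h1, hq, hn, h3⟩
    exact ⟨h1, hcl _ hq hn, h3⟩

/-- The order of the group, given the count of the pairs at `z`. -/
theorem card_eq_of_count (hG : ¬ IsMulCommutative G) (hJ : Cfsg.IsOfJankoFourTypeAt z)
    (h67 : ∀ V : Subgroup G, Cfsg.IsElementaryAbelian 2 V → Nat.card ↥V = 2 ^ 11 →
      Subgroup.centralizer (V : Set G) ≤ V ∧ ∃ K : Subgroup G,
        K ≤ Subgroup.normalizer (V : Set G) ∧ K ⊓ V = ⊥ ∧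
        K ⊔ V = Subgroup.normalizer (V : Set G) ∧ Cfsg.Spor.IsoM24 ↥K)
    (h69 : ∀ t : G, orderOf t = 2 → ¬ IsConj z t → ∃ V K : Subgroup G,
      V ≤ Subgroup.centralizer ({t} : Set G) ∧ K ≤ Subgroup.centralizer ({t} : Set G) ∧
      Subgroup.centralizer ({t} : Set G) ≤ Subgroup.normalizer (V : Set G) ∧
      Cfsg.IsElementaryAbelian 2 V ∧ Nat.card ↥V = 2 ^ 11 ∧ K ⊓ V = ⊥ ∧
      K ⊔ V = Subgroup.centralizer ({t} : Set G) ∧ Nonempty (↥K ≃* MulAut ↥Cfsg.Spor.M22))
    (hZ : ∀ (M : NModel z), M.ψ 7 = z → ∀ o, Fus M o →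
      Nat.card {q : G × G // IsConj z q.1 ∧ orderOf q.2 = 2 ∧ ¬ IsConj z q.2 ∧
        z ∈ Subgroup.zpowers (q.1 * q.2)} = 29236337328 ∨
      Nat.card {q : G × G // IsConj z q.1 ∧ orderOf q.2 = 2 ∧ ¬ IsConj z q.2 ∧
        z ∈ Subgroup.zpowers (q.1 * q.2)} = 29240122032) :
    Nat.card G = 86775571046077562880 := by
  obtain ⟨M, h7, o, F⟩ := exists_fus_model hG hJ h67
  have hcl : ∀ x : G, orderOf x = 2 → ¬ IsConj z x → IsConj (M.ψ 1) x := fun x hx hn =>
    conj_second hG hJ M (fun V hV hc => (h67 V hV hc).1) h69 hx hn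
  obtain ⟨p, S⟩ := Setting.of_at hJ
  have hcz : Nat.card ↥(Subgroup.centralizer ({z} : Set G)) = 21799895040 :=
    (S.card_cz autFacts).trans (by norm_num)
  have hct := card_cz_second (M.ψ 1) (h69 _ M.orderOf_psi_one M.psi_one_not_conj)
  have hform := Involutions.Thompson.order_formula z (M.ψ 1) F.ord_z M.orderOf_psi_one
    M.psi_one_not_conj (fun x hx => (em (IsConj z x)).imp id (hcl x hx))
  have he : Nat.card {q : G × G // IsConj z q.1 ∧ IsConj (M.ψ 1) q.2 ∧
      z ∈ Subgroup.zpowers (q.1 * q.2)} = Nat.card {q : G × G // IsConj z q.1 ∧ orderOf q.2 = 2 ∧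
      ¬ IsConj z q.2 ∧ z ∈ Subgroup.zpowers (q.1 * q.2)} := by
    refine Nat.card_congr (Equiv.subtypeEquivRight fun q => ⟨?_, ?_⟩)
    · rintro ⟨h1, h2, h3⟩
      obtain ⟨n, hn⟩ := isConj_iff.mp h2
      exact ⟨h1, by rw [← hn, orderOf_conjugate, M.orderOf_psi_one],
        fun h => M.psi_one_not_conj (h.trans h2.symm), h3⟩
    · rintro ⟨h1, hq, hn, h3⟩
      exact ⟨h1, hcl _ hq hn, h3⟩
  rw [hcz, hct, card_pairs_second M F hcl, he] at hform
  rcases hZ M h7 o F with h | h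
  · rw [hform, h]
  · exact absurd (by rw [hform, h]; norm_num) (not_three_four hG hJ)

end Cfsg.Agent.Lib.J4Order
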