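import Cfsg.Agent.Lib.J4Order.AzPairs
import Cfsg.Agent.Lib.J4Order.Main

/-!
# The pairs in the centraliser of `z` from the weighted pairs over the hexad normaliser

`card_good`: if the weighted pairs with both images in the normaliser of the hexad subgroup total
34206514673760, and two special configurations do not occur there, the pairs number 29236337328.
-/

set_option autoImplicit false
set_option linter.unusedSectionVars false

namespace Cfsg.Agent.Lib.J4Order

open Cfsg Cfsg.Agent.Lib.J4Local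
open AzPairs

variable {G : Type*} [Group G] [Finite G] {z p : G}

/-- The pairs of the Thompson formula at `z`. -/
def GoodZ (z : G) (q : G × G) : Prop :=
  IsConj z q.1 ∧ orderOf q.2 = 2 ∧ ¬ IsConj z q.2 ∧ z ∈ Subgroup.zpowers (q.1 * q.2)

/-- The pairs with both images in the normaliser of the hexad subgroup. -/
noncomputable def goodM (S : Setting z p) : Finset (G × G) :=
  (Set.toFinite {q : G × G | GoodZ z q ∧ S.img q.1 ∈ NU ∧ S.img q.2 ∈ NU}).toFinset

theorem mem_goodM {S : Setting z p} {q : G × G} :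
    q ∈ goodM S ↔ GoodZ z q ∧ S.img q.1 ∈ NU ∧ S.img q.2 ∈ NU := Set.Finite.mem_toFinset _

/-- No pair has its first element over an involution normalising five conjugates. -/
def NoFive (S : Setting z p) : Prop :=
  ∀ u ∈ cz z, S.img u ∈ NU → S.img u ∉ inn → incid (S.img u) (S.img u) = 11520 * 5 → ¬ IsConj z u

/-- No pair lies over an inner and an outer involution which commute. -/
def NoMixed (S : Setting z p) : Prop :=
  ∀ q : G × G, GoodZ z q → S.img q.1 ∈ NU → S.img q.2 ∈ NU → S.img q.1 ∈ inn → S.img q.1 ≠ 1 →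
    S.img q.2 ∉ inn → orderOf (S.img q.1 * S.img q.2) = 2 → False

namespace GoodZ

variable (S : Setting z p) {q : G × G}

theorem mem_cz (hq : GoodZ z q) (hz : orderOf z = 2) :
    q.1 ∈ cz z ∧ q.2 ∈ cz z ∧ q.1 * q.1 = 1 ∧ q.2 * q.2 = 1 := by
  obtain ⟨h1, h2, -, h4⟩ := hq
  have hu := sq_of_isConj hz h1
  have hv : q.2 * q.2 = 1 := by rw [← pow_two, ← h2, pow_orderOf_eq_one]
  obtain ⟨c1, c2⟩ := commute_of_mem_zpowers hu hv (sq_of_isConj hz (IsConj.refl z)) h4
  exact ⟨J4Local.mem_cz.mpr c1, J4Local.mem_cz.mpr c2, hu, hv⟩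

theorem conj {h : G} (hh : h ∈ cz z) (hq : GoodZ z q) :
    GoodZ z (h * q.1 * h⁻¹, h * q.2 * h⁻¹) := by
  obtain ⟨h1, h2, h3, k, hk⟩ := hq
  refine ⟨isConj_conj.mpr h1, by rw [orderOf_conjugate]; exact h2, fun e => h3 (isConj_conj.mp e),
    k, ?_⟩
  show (h * q.1 * h⁻¹ * (h * q.2 * h⁻¹)) ^ k = z
  rw [show h * q.1 * h⁻¹ * (h * q.2 * h⁻¹) = h * (q.1 * q.2) * h⁻¹ by group, conj_zpow,
    show (q.1 * q.2) ^ k = z from hk, (J4Local.mem_cz.mp hh).eq, mul_inv_cancel_right]

end GoodZ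

theorem exists_lift (S : Setting z p) {α β : AutM22} (h : incid α β ≠ 0) :
    ∃ k ∈ cz z, S.img k * α * (S.img k)⁻¹ ∈ NU ∧ S.img k * β * (S.img k)⁻¹ ∈ NU := by
  obtain ⟨⟨g, hg⟩⟩ := (Nat.card_ne_zero.mp h).1
  obtain ⟨k, hk, rfl⟩ := S.img_surj g
  exact ⟨k, hk, hg⟩

theorem img_conj (S : Setting z p) {h x : G} (hh : h ∈ cz z) (hx : x ∈ cz z) :
    S.img (h * x * h⁻¹) = S.img h * S.img x * (S.img h)⁻¹ := by
  rw [S.img_mul (mul_mem hh hx) (inv_mem hh), S.img_mul hh hx, S.img_inv hh]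

theorem img_sq (S : Setting z p) {x : G} (hx : x ∈ cz z) (h : x * x = 1) :
    S.img x * S.img x = 1 := by
  rw [← S.img_mul hx hx, h]
  exact S.img_Q (one_mem _)

/-- Every pair has an inner central involution or lies over a normalised conjugate. -/
theorem good_covered (S : Setting z p) (h5 : NoFive S) (hmix : NoMixed S) {q : G × G}
    (hq : GoodZ z q) : HasC (S.img q.1) (S.img q.2) ∨ incid (S.img q.1) (S.img q.2) ≠ 0 := by
  by_contra hcon
  rw [not_or, not_not] at hcon
  obtain ⟨hu, hv, hu2, hv2⟩ := hq.mem_cz S.ord_z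
  set α := S.img q.1
  set β := S.img q.2
  have hα := img_sq S hu hu2
  have hβ := img_sq S hv hv2
  obtain ⟨k, -, hk, h0, -, -, -, -⟩ := table hα hβ
  have hk0 : k = 0 := by have := hcon.2; rw [hk] at this; omega
  rcases h0 hk0 with h | ⟨hi, he⟩ | ⟨hi, h1, hj, hn⟩
  · exact hcon.1 h
  · obtain ⟨g, hg, hgα, -⟩ := exists_lift S (α := α) (β := α) (by rw [he]; norm_num)
    refine h5 (g * q.1 * g⁻¹) (mul_mem (mul_mem hg hu) (inv_mem hg)) ?_ ?_ ?_ (isConj_conj.mpr hq.1)
    · rw [img_conj S hg hu]; exact hgα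
    · rw [img_conj S hg hu, mem_inn_conj]; exact hi
    · rw [img_conj S hg hu, incid_conj]; exact he
  · set c := q.2 * q.1 * (q.2 * q.1) with hc
    have hcm : c ∈ cz z := mul_mem (mul_mem hv hu) (mul_mem hv hu)
    have hu' : (q.1)⁻¹ = q.1 := inv_eq_of_mul_eq_one_right hu2
    have hv' : (q.2)⁻¹ = q.2 := inv_eq_of_mul_eq_one_right hv2
    have hw : q.1 * (c * q.2 * c⁻¹) = (q.1 * q.2) ^ 5 := by
      simp only [hc, mul_inv_rev, hu', hv', pow_succ, pow_zero, one_mul, mul_assoc]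
    have hq' : GoodZ z (q.1, c * q.2 * c⁻¹) := by
      obtain ⟨h1, h2, h3, j, hj'⟩ := hq
      refine ⟨h1, by rw [orderOf_conjugate]; exact h2, fun e => h3 (isConj_conj.mp e), j, ?_⟩
      show (q.1 * (c * q.2 * c⁻¹)) ^ j = z
      rw [hw, ← zpow_natCast, ← zpow_mul, mul_comm, zpow_mul, show (q.1 * q.2) ^ j = z from hj']
      rw [zpow_natCast, show (5 : ℕ) = 2 * 2 + 1 from rfl, pow_succ, pow_mul, pow_two z, S.z_sq,
        one_pow, one_mul]
    have hvc : c * q.2 * c⁻¹ ∈ cz z := mul_mem (mul_mem hcm hv) (inv_mem hcm)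
    set β' := S.img (c * q.2 * c⁻¹) with hβ'
    have hn' : orderOf (α * β') = 2 := by
      rw [hβ', ← S.img_mul hu hvc, hw, S.img_pow (mul_mem hu hv), S.img_mul hu hv,
        orderOf_pow' _ (by norm_num), show orderOf (α * β) = 10 from hn]
      norm_num
    obtain ⟨k', -, hk', -, h2, -, -, -⟩ := table hα (img_sq S hvc (by
      rw [show c * q.2 * c⁻¹ * (c * q.2 * c⁻¹) = c * (q.2 * q.2) * c⁻¹ by group, hv2]; group))
    obtain ⟨g, hg, hgα, hgβ⟩ := exists_lift S (α := α) (β := β') (by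
      rw [hk']; have := h2 hn'; omega)
    refine hmix _ (hq'.conj hg) ?_ ?_ ?_ ?_ ?_ ?_
    · show S.img (g * q.1 * g⁻¹) ∈ NU
      rw [img_conj S hg hu]; exact hgα
    · show S.img (g * (c * q.2 * c⁻¹) * g⁻¹) ∈ NU
      rw [img_conj S hg hvc]; exact hgβ
    · show S.img (g * q.1 * g⁻¹) ∈ inn
      rw [img_conj S hg hu, mem_inn_conj]; exact hi
    · show S.img (g * q.1 * g⁻¹) ≠ 1
      rw [img_conj S hg hu]; exact fun e => h1 (conj_eq_one_iff.mp e)
    · show S.img (g * (c * q.2 * c⁻¹) * g⁻¹) ∉ inn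
      rw [img_conj S hg hvc, img_conj S hcm hv, mem_inn_conj, mem_inn_conj]
      exact hj
    · show orderOf (S.img (g * q.1 * g⁻¹) * S.img (g * (c * q.2 * c⁻¹) * g⁻¹)) = 2
      rw [img_conj S hg hu, img_conj S hg hvc, orderOf_conj_mul]
      exact hn'

/-- The number of pairs. -/
theorem card_good (S : Setting z p) (h5 : NoFive S) (hmix : NoMixed S)
    (hsum : ∑ q ∈ goodM S, wt (S.img q.1) (S.img q.2) = 34206514673760) :
    Nat.card {q : G × G // IsConj z q.1 ∧ orderOf q.2 = 2 ∧ ¬ IsConj z q.2 ∧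
      z ∈ Subgroup.zpowers (q.1 * q.2)} = 29236337328 := by
  classical
  haveI := Fintype.ofFinite G
  haveI := Fintype.ofFinite AutM22
  set A : Finset (G × G) := Finset.univ.filter (GoodZ z) with hA
  have hcard : Nat.card {q : G × G // IsConj z q.1 ∧ orderOf q.2 = 2 ∧ ¬ IsConj z q.2 ∧
      z ∈ Subgroup.zpowers (q.1 * q.2)} = A.card := by
    rw [Nat.card_eq_fintype_card]
    exact Fintype.card_of_subtype A fun q => by simp [hA, GoodZ]
  have hmem : ∀ {q}, q ∈ A ↔ GoodZ z q := fun {q} => by simp [hA]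
  have key : ∀ g : AutM22,
      ∑ q ∈ A, wt (g * S.img q.1 * g⁻¹) (g * S.img q.2 * g⁻¹) = 34206514673760 := by
    intro g
    obtain ⟨k, hk, rfl⟩ := S.img_surj g
    have hki := inv_mem hk
    rw [← hsum]
    calc _ = ∑ q ∈ A, wt (S.img q.1) (S.img q.2) := by
          refine Finset.sum_bij' (fun q _ => (k * q.1 * k⁻¹, k * q.2 * k⁻¹))
            (fun q _ => (k⁻¹ * q.1 * k, k⁻¹ * q.2 * k)) ?_ ?_ ?_ ?_ ?_
          · exact fun q hq => hmem.mpr ((hmem.mp hq).conj hk)
          · intro q hq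
            have := (hmem.mp hq).conj hki
            rw [inv_inv] at this
            exact hmem.mpr this
          · intro q _; simp [mul_assoc]
          · intro q _; simp [mul_assoc]
          · intro q hq
            obtain ⟨hu, hv, -, -⟩ := (hmem.mp hq).mem_cz S.ord_z
            rw [img_conj S hk hu, img_conj S hk hv]
      _ = _ := by
          refine (Finset.sum_subset (fun q hq => hmem.mpr (mem_goodM.mp hq).1) ?_).symm
          intro q hq hn
          by_contra hne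
          obtain ⟨hu, hv, hu2, hv2⟩ := (hmem.mp hq).mem_cz S.ord_z
          exact hn (mem_goodM.mpr ⟨hmem.mp hq, wt_ne_zero (img_sq S hu hu2) (img_sq S hv hv2) hne⟩)
  have h1 : ∑ q ∈ A, ∑ g : AutM22, wt (g * S.img q.1 * g⁻¹) (g * S.img q.2 * g⁻¹) =
      A.card * (11520 * 90090) := by
    rw [← smul_eq_mul, ← Finset.sum_const]
    refine Finset.sum_congr rfl fun q hq => ?_
    obtain ⟨hu, hv, hu2, hv2⟩ := (hmem.mp hq).mem_cz S.ord_z
    exact sum_wt (img_sq S hu hu2) (img_sq S hv hv2) (good_covered S h5 hmix (hmem.mp hq))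
  rw [Finset.sum_comm, Finset.sum_congr rfl fun g _ => key g, Finset.sum_const, Finset.card_univ,
    ← Nat.card_eq_fintype_card, autFacts.card_aut, smul_eq_mul] at h1
  rw [hcard]
  omega

end Cfsg.Agent.Lib.J4Order
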