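import Cfsg.Agent.Lib.J4Order.Model
import Cfsg.Agent.Lib.J4Big.RowS5568
import Cfsg.Agent.Lib.J4Local.AutFacts

/-!
# The model exists in a group of Janko-four type, given a complement to the `2^11`
-/

set_option autoImplicit false
set_option linter.unusedSectionVars false

namespace Cfsg.Agent.Lib.J4Order

open Cfsg Cfsg.Agent.Lib.J4Local Cfsg.Agent.Lib.J4Big Cfsg.Agent.Lib.J4Big.Cocode

variable {G : Type*} [Group G] [Finite G] {z p : G} {T₀ Uh U0 : Subgroup AutM22}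

/-- The model over the standard `2^11`, from a complement in its normaliser. -/
theorem exists_nModel_of (S : Setting z p) (F : AutFacts) (B : NormConfig T₀ Uh U0)
    (Me : MeetConfig Uh U0) (hE : ∃ e ∈ Q z, IsConj z e ∧ e ≠ z) {K : Subgroup G}
    (hKV : K ⊓ vv S B.toBigConfig = ⊥)
    (hsup : K ⊔ vv S B.toBigConfig = Subgroup.normalizer (vv S B.toBigConfig : Set G)) :
    ∃ M : NModel z, M.V = vv S B.toBigConfig := by
  classical
  set V := vv S B.toBigConfig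
  obtain ⟨t, ht⟩ := dV_nonempty S F B hE
  obtain ⟨ψ, H, h1⟩ := exists_frame_vv S F B hE ht
  have hKN : K ≤ Subgroup.normalizer (V : Set G) := hsup ▸ le_sup_left
  let φ := phiM24 S F B.toBigConfig H
  let f : ↥K →* ↥Cfsg.M24 := φ.comp (Subgroup.inclusion hKN)
  have hker : ∀ n : ↥(Subgroup.normalizer (V : Set G)), φ n = 1 ↔ (n : G) ∈ V := fun n => by
    rw [← MonoidHom.mem_ker, phiM24_ker S F B H, Subgroup.mem_subgroupOf]
  have hinj : Function.Injective f := by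
    rw [injective_iff_map_eq_one]
    intro k hk
    have h2 : (k : G) ∈ K ⊓ V := ⟨k.2, (hker _).mp hk⟩
    rw [hKV, Subgroup.mem_bot] at h2
    exact Subtype.ext h2
  have hdec : ∀ n ∈ Subgroup.normalizer (V : Set G), ∃ k ∈ K, ∃ v ∈ V, k * v = n := fun n hn => by
    rw [← hsup] at hn
    rwa [← SetLike.mem_coe, Subgroup.coe_mul_of_left_le_normalizer_right K V hKN, Set.mem_mul] at hn
  have hsur : Function.Surjective f := fun σ => by
    obtain ⟨⟨n, hn⟩, rfl⟩ := phiM24_surjective S F B hE H σ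
    obtain ⟨k, hk, v, hv, rfl⟩ := hdec n hn
    refine ⟨⟨k, hk⟩, ?_⟩
    show φ ⟨k, hKN hk⟩ = φ ⟨k * v, hn⟩
    rw [show (⟨k * v, hn⟩ : ↥(Subgroup.normalizer (V : Set G))) =
      ⟨k, hKN hk⟩ * ⟨v, Subgroup.le_normalizer hv⟩ from rfl, map_mul,
      (hker ⟨v, Subgroup.le_normalizer hv⟩).mpr hv, mul_one]
  let e := MulEquiv.ofBijective f ⟨hinj, hsur⟩
  refine ⟨⟨V, ψ, K.subtype.comp e.symm.toMonoidHom, H, fun σ => ?_, fun σ => hKN (e.symm σ).2,
    fun n hn => ?_, ?_⟩, rfl⟩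
  · have h := phiM24_rel S F B.toBigConfig H ⟨(e.symm σ : G), hKN (e.symm σ).2⟩
    have he : φ ⟨(e.symm σ : G), hKN (e.symm σ).2⟩ = σ := e.apply_symm_apply σ
    rwa [he] at h
  · obtain ⟨k, hk, v, hv, rfl⟩ := hdec n hn
    refine ⟨k * v * k⁻¹, (Subgroup.mem_normalizer_iff.mp (hKN hk) v).mp hv, e ⟨k, hk⟩, ?_⟩
    show k * v = k * v * k⁻¹ * ((e.symm (e ⟨k, hk⟩) : ↥K) : G)
    rw [MulEquiv.symm_apply_apply]
    group
  · rw [h1]
    exact cent_t_le S F B Me hE H h1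

/-- The model exists, given the complements of the `2^11`. -/
theorem exists_nModel [IsSimpleGroup G] (hG : ¬ IsMulCommutative G)
    (hJ : Cfsg.IsOfJankoFourTypeAt z)
    (h67 : ∀ V : Subgroup G, Cfsg.IsElementaryAbelian 2 V → Nat.card ↥V = 2 ^ 11 →
      Subgroup.centralizer (V : Set G) ≤ V ∧ ∃ K : Subgroup G,
        K ≤ Subgroup.normalizer (V : Set G) ∧ K ⊓ V = ⊥ ∧
        K ⊔ V = Subgroup.normalizer (V : Set G) ∧ Cfsg.Spor.IsoM24 ↥K) :
    Nonempty (NModel z) := by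
  obtain ⟨p, S⟩ := Setting.of_at hJ
  have F := autFacts
  obtain ⟨hc, h2, -⟩ := vv_facts S F Cert2.normConfig.toBigConfig
  obtain ⟨-, K, -, hKV, hsup, -⟩ := h67 _ ⟨⟨⟨fun a b => Subtype.ext (comm_of_sq h2 a.2 b.2)⟩⟩,
    fun v hv => by rw [pow_two]; exact h2 v hv⟩ hc
  obtain ⟨M, -⟩ := exists_nModel_of S F Cert2.normConfig Cert2.meetConfig (S.exists_fused hG F) hKV hsup
  exact ⟨M⟩

end Cfsg.Agent.Lib.J4Order
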