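import Cfsg.Agent.Lib.J4Order.LabelCalc
import Cfsg.Agent.Lib.J4Order.Invols
import Cfsg.Agent.Lib.J4Order.ModelExists

/-!
# The largest normal 2-subgroup of the centraliser of `z` in coordinates with `z = ψ 7`
-/

set_option autoImplicit false
set_option linter.unusedSectionVars false
set_option linter.constructorNameAsVariable false

namespace Cfsg.Agent.Lib.J4Order

open Cfsg Cfsg.Agent.Lib.Golay Cfsg.Agent.Lib.Computation Cfsg.Agent.Lib.J4Local Cfsg.Agent.Lib.J4Big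
open Cfsg.Agent.Lib.J4Big.Cocode (dGood spanL noRep noRep_spec IsFrame Rel Pt)
open Cfsg.Agent.Lib.FusionAlperin.MathieuCert (canon gperm_canon canon_congr getW_eq_of_gperm)
open LabelCalc LabelData

variable {G : Type*} [Group G] [Finite G] {z p : G} {T₀ Uh U0 : Subgroup AutM22}

/-- The model with `z` at 7. -/
theorem exists_nModel_seven (S : Setting z p) (F : AutFacts) (B : NormConfig T₀ Uh U0)
    (Me : MeetConfig Uh U0) (hE : ∃ e ∈ Q z, IsConj z e ∧ e ≠ z) {K : Subgroup G}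
    (hKV : K ⊓ vv S B.toBigConfig = ⊥)
    (hsup : K ⊔ vv S B.toBigConfig = Subgroup.normalizer (vv S B.toBigConfig : Set G)) :
    ∃ M : NModel z, M.V = vv S B.toBigConfig ∧ M.ψ 7 = z := by
  obtain ⟨M, hMV⟩ := exists_nModel_of S F B Me hE hKV hsup
  have h7 : IsConj z (M.ψ 7) := M.isConj_psi (by norm_num) (by norm_num) (by decide +kernel)
  obtain ⟨n, hn, hnz⟩ := fusion_vv S F B.toBigConfig (hMV ▸ M.ψ_mem 7) (z_mem_vv S B.toBigConfig) h7.symm
  rw [← hMV] at hn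
  have hV : ∀ v, n * v * n⁻¹ ∈ M.V ↔ v ∈ M.V := fun v => (Subgroup.mem_normalizer_iff.mp hn v).symm
  have hc : Subgroup.centralizer ({n * M.ψ 1 * n⁻¹} : Set G) ≤ Subgroup.normalizer (M.V : Set G) := by
    intro x hx
    have hx' := Subgroup.mem_centralizer_singleton_iff.mp hx
    have h : n⁻¹ * x * n ∈ Subgroup.normalizer (M.V : Set G) := M.cent_le (by
      rw [Subgroup.mem_centralizer_singleton_iff]
      calc n⁻¹ * x * n * M.ψ 1 = n⁻¹ * (x * (n * M.ψ 1 * n⁻¹)) * n := by group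
        _ = _ := by rw [hx']; group)
    have := mul_mem (mul_mem hn h) (inv_mem hn)
    simpa [mul_assoc] using this
  refine ⟨⟨M.V, fun a => n * M.ψ a * n⁻¹, (MulAut.conj n).toMonoidHom.comp M.κ,
    frame_conj M.frame hV (fun v hv => ?_), fun σ => ?_, fun σ => ?_, fun x hx => ?_, hc⟩, hMV, hnz⟩
  · simp only [Set.mem_ofPred_eq, hV, isConj_conj, ne_eq, conj_eq_one_iff]
  · intro a b
    show n * M.κ σ * n⁻¹ * ((n * Pt M.ψ a * n⁻¹) * (n * Pt M.ψ b * n⁻¹)) * (n * M.κ σ * n⁻¹)⁻¹ =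
      (n * Pt M.ψ (_ : GolayPt) * n⁻¹) * (n * Pt M.ψ (_ : GolayPt) * n⁻¹)
    calc _ = n * (M.κ σ * (Pt M.ψ a * Pt M.ψ b) * (M.κ σ)⁻¹) * n⁻¹ := by group
      _ = _ := by rw [M.rel σ a b]; group
  · exact mul_mem (mul_mem hn (M.mem_norm σ)) (inv_mem hn)
  · obtain ⟨v, hv, σ, hσ⟩ := M.decomp (n⁻¹ * x * n) (mul_mem (mul_mem (inv_mem hn) hx) hn)
    refine ⟨n * v * n⁻¹, (hV v).mpr hv, σ, ?_⟩
    show x = n * v * n⁻¹ * (n * M.κ σ * n⁻¹)
    calc x = n * (n⁻¹ * x * n) * n⁻¹ := by group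
      _ = _ := by rw [hσ]; group

theorem encode_exists (σ : ↥M24) : ∃ c, Good c ∧ el c = σ := by
  obtain ⟨hok, he⟩ := decodeP_encodeP (n := 24) (w := 5) (by norm_num) (indexHom.symm (σ : Equiv.Perm GolayPt))
  set c := encodeP 24 5 (indexHom.symm (σ : Equiv.Perm GolayPt))
  have hg : gperm c = (σ : Equiv.Perm GolayPt) := by
    rw [gperm, he, MulEquiv.apply_symm_apply]
  exact ⟨c, ⟨hok, hg ▸ σ.2⟩, Subtype.ext (by rw [el_coe (show gperm c ∈ M24 from hg ▸ σ.2), hg])⟩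

theorem eitherOf_iff {a b x : ℕ} : eitherOf a b x = true ↔ x = a ∨ x = b := by
  simp [eitherOf]

theorem inT0_iff {a : ℕ} : inT0 a = true ↔ a ∈ M24Classes.Coset.base4 := by
  simp [inT0]

/-- The listed permutations are all those keeping the duads of the sextet up to complements. -/
theorem mem_rows_of_testD {c : ℕ} (hc : Good c) (ht : testD c = true) :
    ∃ r ∈ imageRows, el r.1 = el c := by
  have hok := hc.1
  have hd : ∀ d ∈ sextDuads, act c d = d ∨ act c d = d ^^^ 7 := fun d hdm => by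
    simp only [testD, List.all_eq_true] at ht
    exact eitherOf_iff.mp (ht d hdm)
  have hbase := core_ok
  simp only [coreOk, Bool.and_eq_true, List.any_eq_true, Nat.beq_eq] at hbase
  obtain ⟨⟨⟨-, ⟨d1, h1, rfl⟩⟩, ⟨d2, h2, rfl⟩⟩, ⟨d4, h4, rfl⟩⟩ := hbase
  set P := fun i => J4Big.Cocode.piL.getD (getW 5 c i) 0
  have e1 : P 23 ^^^ P 0 = 1 ∨ P 23 ^^^ P 0 = 6 := by
    have := hd 1 h1
    rwa [show (1 : ℕ) = 2 ^ 0 from rfl, act_two_pow c (by norm_num)] at this
  have e2 : P 23 ^^^ P 1 = 2 ∨ P 23 ^^^ P 1 = 5 := by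
    have := hd 2 h2
    rwa [show (2 : ℕ) = 2 ^ 1 from rfl, act_two_pow c (by norm_num)] at this
  have e3 : P 23 ^^^ P 2 = 4 ∨ P 23 ^^^ P 2 = 3 := by
    have := hd 4 h4
    rwa [show (4 : ℕ) = 2 ^ 2 from rfl, act_two_pow c (by norm_num)] at this
  have hinT : ∀ i < 24, (eitherOf 1 6 (P 23 ^^^ P i) || eitherOf 2 5 (P 23 ^^^ P i) ||
      eitherOf 4 3 (P 23 ^^^ P i)) = true → inT0 (getW 5 c 23) = true ∧ inT0 (getW 5 c i) = true := by
    intro i hi h
    have hs := scan_ok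
    simp only [scanOk, List.all_eq_true, List.mem_range] at hs
    have := hs _ (getW_lt hok (by norm_num : (23 : ℕ) < 24)) _ (getW_lt hok hi)
    rw [h] at this
    simpa using this
  have m0 := hinT 0 (by norm_num) (by simp [eitherOf, P] at e1 ⊢; tauto)
  have m1 := hinT 1 (by norm_num) (by simp [eitherOf, P] at e2 ⊢; tauto)
  have m2 := hinT 2 (by norm_num) (by simp [eitherOf, P] at e3 ⊢; tauto)
  have hne : ∀ i < 24, ∀ j < 24, i ≠ j → getW 5 c i ≠ getW 5 c j := fun i hi j hj hij he => by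
    have : gperm c (pt i) = gperm c (pt j) := idx_injective (by
      rw [idx_gperm hok, idx_gperm hok, idx_pt hi, idx_pt hj, he])
    exact hij (by rw [← idx_pt hi, ← idx_pt hj, (gperm c).injective this])
  have hu := tuple_ok
  simp only [tupleOk, List.all_eq_true] at hu
  have := hu _ (inT0_iff.mp m0.1) _ (inT0_iff.mp m0.2) _ (inT0_iff.mp m1.2) _ (inT0_iff.mp m2.2)
  have hcond : (eitherOf 1 6 (P 23 ^^^ P 0) && eitherOf 2 5 (P 23 ^^^ P 1) &&
      eitherOf 4 3 (P 23 ^^^ P 2) && !Nat.beq (getW 5 c 0) (getW 5 c 1) &&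
      !Nat.beq (getW 5 c 0) (getW 5 c 2) && !Nat.beq (getW 5 c 1) (getW 5 c 2)) = true := by
    simp only [Bool.and_eq_true, Bool.not_eq_true', ← Bool.not_eq_true, Nat.beq_eq, eitherOf_iff]
    exact ⟨⟨⟨⟨⟨e1, e2⟩, e3⟩, hne 0 (by norm_num) 1 (by norm_num) (by norm_num)⟩,
      hne 0 (by norm_num) 2 (by norm_num) (by norm_num)⟩, hne 1 (by norm_num) 2 (by norm_num) (by norm_num)⟩
  rw [hcond] at this
  simp only [Bool.not_true, Bool.false_or, List.any_eq_true] at this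
  obtain ⟨h, hh, him⟩ := this
  simp only [imgsEq, Bool.and_eq_true, Nat.beq_eq] at him
  obtain ⟨⟨⟨i23, i0⟩, i1⟩, i2⟩ := him
  have hhM : inM24 h = true := List.all_eq_true.mp tet_ok h hh
  obtain ⟨c', hc', hok', he'⟩ := M24Classes.Coset.exists_code hhM hc.2 (fun i hi => by
    rw [idx_gperm hok]
    simp only [M24Classes.Coset.base4, List.mem_cons, List.not_mem_nil, or_false] at hi
    rcases hi with rfl | rfl | rfl | rfl <;> rw [idx_pt (by norm_num)] <;> simp [*])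
  have hg' : ∀ i < 24, getW 5 c' i = getW 5 c i := fun i hi => getW_eq_of_gperm hok' hok he' hi
  have ht' : testD c' = true := by
    rw [show testD c' = testD c by
      simp only [testD, act, imgL]
      rw [List.map_congr_left fun i hi => by
        rw [hg' 23 (by norm_num), hg' i (lt_of_lt_of_le (List.mem_range.mp hi) (by norm_num))]]]
    exact ht
  have hk := List.all_eq_true.mp coset_ok h hh
  simp only [cosetOk, List.all_eq_true, Bool.or_eq_true, Bool.not_eq_true', List.any_eq_true,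
    Nat.beq_eq] at hk
  rcases hk c' hc' with hk | ⟨r, hr, hrc⟩
  · rw [ht'] at hk; exact absurd hk (by simp)
  refine ⟨r, hr, ?_⟩
  have hgood : Good r.1 := by
    have h' := List.all_eq_true.mp rows_ok r hr
    simp only [rowOk, AtCalc.witOk, Bool.and_eq_true] at h'
    exact good_of_inM24 h'.1.1.1.1.1
  refine Subtype.ext ?_
  rw [el_coe hgood.2, el_coe hc.2, hrc, gperm_canon hok' (hrc ▸ hgood.1), he']

namespace NModel

variable (M : NModel z)

theorem spanL_induction {P : G → Prop} (h1 : P 1) :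
    ∀ (l : List ℕ), (∀ a ∈ l, a < 2048) → (∀ a ∈ l, ∀ x, P x → P (x * M.ψ a)) →
      ∀ a ∈ spanL l, a < 2048 ∧ P (M.ψ a)
  | [], _, _, a, ha => by
    simp only [spanL, List.mem_singleton] at ha
    subst ha
    exact ⟨by norm_num, by rw [M.ψ_zero]; exact h1⟩
  | b :: l, hlt, hstep, a, ha => by
    have ih := spanL_induction h1 l (fun x hx => hlt x (List.mem_cons_of_mem _ hx))
      (fun x hx => hstep x (List.mem_cons_of_mem _ hx))
    simp only [spanL, List.mem_append, List.mem_map] at ha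
    rcases ha with ha | ⟨x, hx, rfl⟩
    · exact ih a ha
    · have hb := hlt b List.mem_cons_self
      refine ⟨Nat.xor_lt_two_pow (n := 11) (ih x hx).1 hb, ?_⟩
      rw [M.frame.mul x b (ih x hx).1 hb]
      exact hstep b List.mem_cons_self _ (ih x hx).2

variable (S : Setting z p) (F : AutFacts) (B : NormConfig T₀ Uh U0)
variable (hMV : M.V = vv S B.toBigConfig) (h7 : M.ψ 7 = z) (hE : ∃ e ∈ Q z, IsConj z e ∧ e ≠ z)

include S F B hMV h7 hE

theorem psi_mem_core {a : ℕ} (ha : a ∈ coreW) : a < 2048 ∧ M.ψ a ∈ Q z := by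
  have hb := core_ok
  simp only [coreOk, Bool.and_eq_true, List.all_eq_true, List.any_eq_true, Nat.beq_eq, Nat.blt_eq] at hb
  obtain ⟨⟨⟨⟨⟨⟨⟨hs, hbas⟩, -⟩, -⟩, -⟩, -⟩, -⟩, -⟩ := hb
  have hd : ∀ d ∈ sextDuads, d < 2048 ∧ M.ψ d ∈ Q z := fun d hd => by
    obtain ⟨⟨hlt, hg⟩, hg7⟩ := hs d hd
    refine ⟨hlt, (yBig_le S B.exp_Uh) (mem_yBig_of_mul_z S F B hE ?_ ?_)⟩
    · have := (M.frame.mem_D d hlt).mpr hg
      exact ⟨hMV ▸ this.1, this.2.1, this.2.2⟩
    · rw [show M.ψ d * z = M.ψ (d ^^^ 7) by rw [M.frame.mul d 7 hlt (by norm_num), h7]]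
      have := (M.frame.mem_D _ (Nat.xor_lt_two_pow (n := 11) hlt (by norm_num))).mpr hg7
      exact ⟨hMV ▸ this.1, this.2.1, this.2.2⟩
  have hcb : ∀ d ∈ coreBasis, d ∈ sextDuads := fun d hd => by
    obtain ⟨e, he, rfl⟩ := hbas d hd
    exact he
  exact M.spanL_induction (P := (· ∈ Q z)) (one_mem _) coreBasis (fun d h => (hd d (hcb d h)).1)
    (fun d h x hx => mul_mem hx (hd d (hcb d h)).2) a ha

theorem exists_core_of_mem {v : G} (hv : v ∈ M.V) (hQ : v ∈ Q z) : ∃ a ∈ coreW, v = M.ψ a := by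
  classical
  have hb := core_ok
  simp only [coreOk, Bool.and_eq_true, Nat.beq_eq] at hb
  obtain ⟨⟨⟨⟨⟨-, hnd⟩, hlen⟩, -⟩, -⟩, -⟩ := hb
  have hset : M.ψ '' (coreW.toFinset : Set ℕ) = (yBig S Uh B.exp_Uh : Set G) := by
    refine Set.eq_of_subset_of_ncard_le ?_ ?_ (Set.toFinite _)
    · rintro _ ⟨a, ha, rfl⟩
      rw [Finset.mem_coe, List.mem_toFinset] at ha
      rw [← vv_inf_Q S F B.toBigConfig]
      exact ⟨hMV ▸ M.ψ_mem a, (M.psi_mem_core S F B hMV h7 hE ha).2⟩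
    · rw [card_yBig_set S F B.toBigConfig, Set.InjOn.ncard_image (fun a ha b hb e => M.frame.inj a b
        (M.psi_mem_core S F B hMV h7 hE (List.mem_toFinset.mp (Finset.mem_coe.mp ha))).1
        (M.psi_mem_core S F B hMV h7 hE (List.mem_toFinset.mp (Finset.mem_coe.mp hb))).1 e),
        Set.ncard_coe_finset, List.toFinset_card_of_nodup (noRep_spec hnd), hlen]
  have hv' : v ∈ (yBig S Uh B.exp_Uh : Set G) := by
    rw [← vv_inf_Q S F B.toBigConfig]
    exact ⟨hMV ▸ hv, hQ⟩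
  rw [← hset] at hv'
  obtain ⟨a, ha, rfl⟩ := hv'
  exact ⟨a, List.mem_toFinset.mp (Finset.mem_coe.mp ha), rfl⟩

end NModel

end Cfsg.Agent.Lib.J4Order
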