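import Cfsg.Agent.Lib.J4Big.Cocode.Hom
import Cfsg.Agent.Lib.J4Big.Cocode.Exist
import Cfsg.Agent.Lib.J4Local.AutModel

/-!
# The normaliser of the `2^11` as pairs (vector, permutation)

`NModel z` is a coordinatised `2^11` with a complement `κ : M24 →* G` compatible with the coordinates.
An element of the normaliser is `ev a c = ψ a * κ (el c)` with `a < 2048` and `c` a code.
-/

set_option autoImplicit false
set_option linter.unusedSectionVars false

namespace Cfsg.Agent.Lib.J4Order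

open Cfsg Cfsg.Agent.Lib.Golay Cfsg.Agent.Lib.Computation
open Cfsg.Agent.Lib.J4Big.Cocode

/-- A coordinatised `2^11` with a complement in its normaliser. -/
structure NModel {G : Type*} [Group G] (z : G) where
  /-- The `2^11`. -/
  V : Subgroup G
  /-- The coordinates. -/
  ψ : ℕ → G
  /-- The complement. -/
  κ : ↥M24 →* G
  frame : IsFrame V {v | v ∈ V ∧ v ≠ 1 ∧ ¬ IsConj z v} ψ
  rel : ∀ σ : ↥M24, Rel ψ (κ σ) σ
  mem_norm : ∀ σ : ↥M24, κ σ ∈ Subgroup.normalizer (V : Set G)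
  decomp : ∀ n ∈ Subgroup.normalizer (V : Set G), ∃ v ∈ V, ∃ σ : ↥M24, n = v * κ σ
  cent_le : Subgroup.centralizer ({ψ 1} : Set G) ≤ Subgroup.normalizer (V : Set G)

/-! ### the action on the numbers -/

/-- The images of the basis under a code. -/
def imgL (c : ℕ) : List ℕ :=
  (List.range 11).map fun i => piL.getD (getW 5 c 23) 0 ^^^ piL.getD (getW 5 c i) 0

/-- The action of a code on the numbers. -/
def act (c a : ℕ) : ℕ := combine (imgL c) a

theorem piL_getD_lt (i : ℕ) : piL.getD i 0 < 2048 := by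
  rcases lt_or_ge i piL.length with h | h
  · rw [List.getD_eq_getElem _ _ h]
    exact piL_lt _ (List.getElem_mem h)
  · rw [List.getD_eq_default _ _ h]
    norm_num

theorem combine_lt : ∀ {l : List ℕ} (_ : ∀ x ∈ l, x < 2048) (a : ℕ), combine l a < 2048
  | [], _, _ => by simp [combine]
  | r :: l, h, a => by
    rw [combine]
    refine Nat.xor_lt_two_pow (n := 11) ?_ (combine_lt (fun x hx => h x (List.mem_cons_of_mem _ hx)) _)
    split
    · exact h r List.mem_cons_self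
    · norm_num

theorem imgL_lt (c : ℕ) : ∀ x ∈ imgL c, x < 2048 := fun x hx => by
  simp only [imgL, List.mem_map] at hx
  obtain ⟨i, -, rfl⟩ := hx
  exact Nat.xor_lt_two_pow (n := 11) (piL_getD_lt _) (piL_getD_lt _)

theorem act_lt (c a : ℕ) : act c a < 2048 := combine_lt (imgL_lt c) a

theorem act_xor (c a b : ℕ) : act c (a ^^^ b) = act c a ^^^ act c b := combine_xor _ a b

theorem act_zero (c : ℕ) : act c 0 = 0 := combine_zero _

theorem combine_two_pow : ∀ (l : List ℕ) (i : ℕ), combine l (2 ^ i) = l.getD i 0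
  | [], i => by simp [combine]
  | r :: l, 0 => by simp [combine, combine_zero]
  | r :: l, i + 1 => by
    rw [combine, List.getD_cons_succ, ← combine_two_pow l i, if_neg, Nat.zero_xor,
      pow_succ, Nat.mul_div_cancel _ (by norm_num : 0 < 2)]
    rw [pow_succ, Nat.mul_mod_left]
    norm_num

theorem act_two_pow (c : ℕ) {i : ℕ} (hi : i < 11) :
    act c (2 ^ i) = piL.getD (getW 5 c 23) 0 ^^^ piL.getD (getW 5 c i) 0 := by
  rw [act, combine_two_pow, imgL, List.getD_eq_getElem _ _ (by simpa using hi)]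
  simp

open Classical in
/-- The element of the group of the code with a given code. -/
noncomputable def el (c : ℕ) : ↥M24 := if h : gperm c ∈ M24 then ⟨gperm c, h⟩ else 1

theorem el_coe {c : ℕ} (h : gperm c ∈ M24) : (el c : Equiv.Perm GolayPt) = gperm c := by
  rw [el, dif_pos h]

/-- A code of an element of the group of the code. -/
def Good (c : ℕ) : Prop := okCode c = true ∧ gperm c ∈ M24

theorem good_of_inM24 {c : ℕ} (h : inM24 c = true) : Good c :=
  ⟨okCode_of_inM24 h, gperm_mem_M24 h⟩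

theorem good_mulP {a b : ℕ} (ha : Good a) (hb : Good b) : Good (mulP 24 5 a b) :=
  ⟨okCode_mulP ha.1 hb.1, by rw [gperm_mul ha.1 hb.1]; exact mul_mem ha.2 hb.2⟩

theorem good_one : Good oneCode := ⟨okCode_oneCode, by rw [gperm_oneCode]; exact one_mem _⟩

theorem el_of_inM24 {c : ℕ} (h : inM24 c = true) : (el c : Equiv.Perm GolayPt) = gperm c :=
  el_coe (gperm_mem_M24 h)

theorem el_mul {a b : ℕ} (ha : Good a) (hb : Good b) : el (mulP 24 5 a b) = el a * el b := by
  refine Subtype.ext ?_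
  rw [el_coe (good_mulP ha hb).2, Subgroup.coe_mul, el_coe ha.2, el_coe hb.2, gperm_mul ha.1 hb.1]

theorem el_one : el oneCode = 1 := by
  refine Subtype.ext ?_
  rw [el_coe (by rw [gperm_oneCode]; exact one_mem _), gperm_oneCode, Subgroup.coe_one]

namespace NModel

variable {G : Type*} [Group G] {z : G} (M : NModel z)

theorem ψ_mem (a : ℕ) : M.ψ a ∈ M.V := M.frame.mem a

theorem ψ_zero : M.ψ 0 = 1 := M.frame.psi_zero

theorem ψ_sq (a : ℕ) : M.ψ a * M.ψ a = 1 := M.frame.sq _ (M.ψ_mem a)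

theorem ψ_inv (a : ℕ) : (M.ψ a)⁻¹ = M.ψ a := inv_eq_of_mul_eq_one_right (M.ψ_sq a)

theorem ψ_one_ne : M.ψ 1 ≠ 1 := fun h =>
  absurd (M.frame.inj 1 0 (by norm_num) (by norm_num) (h.trans M.ψ_zero.symm)) (by norm_num)

theorem pt_none_mul (q : GolayPt) : Pt M.ψ none * Pt M.ψ q = M.ψ (piV q) := by
  rw [M.frame.pt_none, one_mul]
  rfl

theorem pt_mul (p q : GolayPt) : Pt M.ψ p * Pt M.ψ q = M.ψ (piV p ^^^ piV q) :=
  (M.frame.mul _ _ (piV_lt p) (piV_lt q)).symm

theorem piV_two_pow {i : ℕ} (hi : i < 11) : piV (pt i) = 2 ^ i := by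
  have : ∀ j < 11, piV (pt j) = 2 ^ j := by unfold piV; decide +kernel
  exact this i hi

/-- The complement acts through `act`. -/
theorem conj_psi {σ : ↥M24} {c : ℕ} (hc : okCode c = true) (e : gperm c = (σ : Equiv.Perm GolayPt))
    {a : ℕ} (ha : a < 2048) : M.κ σ * M.ψ a * (M.κ σ)⁻¹ = M.ψ (act c a) := by
  refine ext_basis (φ := fun a => M.κ σ * M.ψ a * (M.κ σ)⁻¹) (φ' := fun a => M.ψ (act c a))
    (fun a b ha hb => ?_) (fun a b _ _ => ?_) (fun i hi => ?_) a ha
  · rw [M.frame.mul a b ha hb]; group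
  · rw [act_xor, M.frame.mul _ _ (act_lt c a) (act_lt c b)]
  · have h := M.rel σ none (pt i)
    rw [M.pt_none_mul, piV_two_pow hi, M.pt_mul, ← e] at h
    refine h.trans (congrArg M.ψ ?_)
    rw [act_two_pow c hi, piV, piV, idx_gperm hc, idx_gperm hc, idx_pt (by omega : i < 24)]
    rfl

theorem conj_el {c : ℕ} (hc : Good c) {a : ℕ} (ha : a < 2048) :
    M.κ (el c) * M.ψ a * (M.κ (el c))⁻¹ = M.ψ (act c a) :=
  M.conj_psi hc.1 (el_coe hc.2).symm ha

/-- The complement meets the `2^11` trivially. -/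
theorem meet {σ : ↥M24} (h : M.κ σ ∈ M.V) : σ = 1 := by
  refine Subtype.ext (M.frame.rel_unique (M.rel σ) ?_)
  exact (M.frame.rel_one_iff).mpr fun v hv => M.frame.comm h hv

/-- The elements of the normaliser. -/
noncomputable def ev (a : ℕ) (σ : ↥M24) : G := M.ψ a * M.κ σ

theorem ev_mem (a : ℕ) (σ : ↥M24) : M.ev a σ ∈ Subgroup.normalizer (M.V : Set G) :=
  mul_mem (Subgroup.le_normalizer (M.ψ_mem a)) (M.mem_norm σ)

theorem ev_inj {a b : ℕ} {σ τ : ↥M24} (ha : a < 2048) (hb : b < 2048)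
    (h : M.ev a σ = M.ev b τ) : a = b ∧ σ = τ := by
  simp only [ev] at h
  have h1 : M.κ (σ * τ⁻¹) = (M.ψ a)⁻¹ * M.ψ b := by
    rw [map_mul, map_inv]
    calc M.κ σ * (M.κ τ)⁻¹ = (M.ψ a)⁻¹ * (M.ψ a * M.κ σ) * (M.κ τ)⁻¹ := by group
      _ = (M.ψ a)⁻¹ * (M.ψ b * M.κ τ) * (M.κ τ)⁻¹ := by rw [h]
      _ = _ := by group
  have hσ : σ = τ := mul_inv_eq_one.mp (M.meet (by
    rw [h1]; exact mul_mem (inv_mem (M.ψ_mem a)) (M.ψ_mem b)))
  subst hσ
  exact ⟨M.frame.inj a b ha hb (mul_right_cancel h), rfl⟩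

theorem exists_ev {n : G} (hn : n ∈ Subgroup.normalizer (M.V : Set G)) :
    ∃ a < 2048, ∃ σ, n = M.ev a σ := by
  obtain ⟨v, hv, σ, rfl⟩ := M.decomp n hn
  obtain ⟨a, ha, rfl⟩ := M.frame.surj v hv
  exact ⟨a, ha, σ, rfl⟩

theorem ev_mul {a b c : ℕ} {τ : ↥M24} (ha : a < 2048) (hb : b < 2048) (hc : Good c) :
    M.ev a (el c) * M.ev b τ = M.ev (a ^^^ act c b) (el c * τ) := by
  simp only [ev, map_mul, M.frame.mul a _ ha (act_lt c b), ← M.conj_el hc hb]
  group

theorem conj_ev {g a : ℕ} {σ : ↥M24} (hg : Good g) (ha : a < 2048) :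
    M.κ (el g) * M.ev a σ * (M.κ (el g))⁻¹ = M.ev (act g a) (el g * σ * (el g)⁻¹) := by
  simp only [ev, map_mul, map_inv, ← M.conj_el hg ha]
  group

theorem conj_ev_psi {a b c : ℕ} (ha : a < 2048) (hb : b < 2048) (hc : Good c) :
    M.ψ b * M.ev a (el c) * (M.ψ b)⁻¹ = M.ev (b ^^^ a ^^^ act c b) (el c) := by
  simp only [ev, M.frame.mul _ _ (Nat.xor_lt_two_pow (n := 11) hb ha) (act_lt c b),
    M.frame.mul b a hb ha, ← M.conj_el hc hb, M.ψ_inv]
  group

/-- The centraliser of the first basis vector is the part over the duad stabiliser. -/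
theorem commute_one_iff {a : ℕ} {σ : ↥M24} :
    Commute (M.ev a σ) (M.ψ 1) ↔ (σ : Equiv.Perm GolayPt) ∈ J4Local.AutModel.big := by
  have hψ : Commute (M.ψ a) (M.ψ 1) := M.frame.comm (M.ψ_mem a) (M.ψ_mem 1)
  have h01 : Pt M.ψ none * Pt M.ψ (some 0) = M.ψ 1 := by
    rw [M.frame.pt_none, one_mul]
    rfl
  have hne : (none : GolayPt) ≠ some 0 := (Option.some_ne_none _).symm
  have hκ : Commute (M.ev a σ) (M.ψ 1) ↔ Commute (M.κ σ) (M.ψ 1) :=
    ⟨fun h => by simpa [ev] using hψ.inv_left.mul_left h, fun h => hψ.mul_left h⟩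
  rw [hκ, J4Local.AutModel.mem_big, and_iff_right σ.2]
  constructor
  · intro h
    have h' := M.rel σ none (some 0)
    rw [h01, mul_inv_eq_iff_eq_mul.mpr h.eq, ← h01] at h'
    rcases M.frame.pair_unique hne ((σ : Equiv.Perm GolayPt).injective.ne hne) h' with ⟨u, v⟩ | ⟨u, v⟩
    · exact Or.inl ⟨u.symm, v.symm⟩
    · exact Or.inr ⟨v.symm, u.symm⟩
  · intro h
    have h' := M.rel σ none (some 0)
    have e : Pt M.ψ ((σ : Equiv.Perm GolayPt) none) * Pt M.ψ ((σ : Equiv.Perm GolayPt) (some 0)) =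
        M.ψ 1 := by
      rcases h with ⟨u, v⟩ | ⟨u, v⟩ <;> rw [u, v]
      · exact h01
      · rw [M.frame.comm (M.frame.pt_mem _) (M.frame.pt_mem _), h01]
    rw [h01, e] at h'
    exact mul_inv_eq_iff_eq_mul.mp h'

/-- The elements commuting with the first basis vector. -/
theorem exists_ev_cent {n : G} (hn : Commute n (M.ψ 1)) :
    ∃ a < 2048, ∃ σ : ↥M24, (σ : Equiv.Perm GolayPt) ∈ J4Local.AutModel.big ∧ n = M.ev a σ := by
  obtain ⟨a, ha, σ, rfl⟩ :=
    M.exists_ev (M.cent_le (Subgroup.mem_centralizer_singleton_iff.mpr hn.eq))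
  exact ⟨a, ha, σ, M.commute_one_iff.mp hn, rfl⟩

end NModel

end Cfsg.Agent.Lib.J4Order
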