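import Cfsg.Agent.Lib.Golay.Code

/-!
# A branchless evaluation of linear maps on numbers below `2 ^ 11`

`fcomb (pack11 l) a = combine l a` for eleven rows below `2 ^ 11` and `a < 2 ^ 11`; every step is an
accelerated operation on literals.
-/

set_option autoImplicit false

namespace Cfsg.Agent.Lib.J4Order.ZFast

open Cfsg.Agent.Lib.Golay

/-- Eleven-bit lanes. -/
def pack11 : List ℕ → ℕ
  | [] => 0
  | r :: l => Nat.add r (Nat.mul 2048 (pack11 l))

/-- One row. -/
def term (P a i j : ℕ) : ℕ :=
  Nat.mul (Nat.land (Nat.shiftRight a i) 1) (Nat.land (Nat.shiftRight P j) 2047)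

/-- The linear map with the packed rows. -/
def fcomb (P a : ℕ) : ℕ :=
  Nat.xor (term P a 0 0) (Nat.xor (term P a 1 11) (Nat.xor (term P a 2 22) (Nat.xor (term P a 3 33)
    (Nat.xor (term P a 4 44) (Nat.xor (term P a 5 55) (Nat.xor (term P a 6 66) (Nat.xor (term P a 7 77)
      (Nat.xor (term P a 8 88) (Nat.xor (term P a 9 99) (term P a 10 110))))))))))

/-- The same by recursion. -/
def fcombN : ℕ → ℕ → ℕ → ℕ
  | 0, _, _ => 0
  | n + 1, P, a => (a % 2 * (P % 2048)) ^^^ fcombN n (P / 2048) (a / 2)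

theorem term_eq (P a i j : ℕ) : term P a i j = a / 2 ^ i % 2 * (P / 2 ^ j % 2 ^ 11) := by
  show ((a >>> i) &&& 1) * ((P >>> j) &&& (2 ^ 11 - 1)) = _
  rw [Nat.and_one_is_mod, Nat.and_two_pow_sub_one_eq_mod, Nat.shiftRight_eq_div_pow,
    Nat.shiftRight_eq_div_pow]

theorem fcomb_eq (P a : ℕ) : fcomb P a = fcombN 11 P a := by
  simp only [fcomb, term_eq, fcombN, Nat.div_div_eq_div_mul, Nat.xor_zero]
  norm_num

theorem combine_eq : ∀ (l : List ℕ) (a : ℕ), (∀ x ∈ l, x < 2048) →
    combine l a = fcombN l.length (pack11 l) a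
  | [], a, _ => by simp [combine, fcombN]
  | r :: l, a, h => by
    have hr : r < 2048 := h r List.mem_cons_self
    show combine (r :: l) a = (a % 2 * ((r + 2048 * pack11 l) % 2048)) ^^^
      fcombN l.length ((r + 2048 * pack11 l) / 2048) (a / 2)
    rw [Nat.add_mul_mod_self_left, Nat.mod_eq_of_lt hr,
      Nat.add_mul_div_left _ _ (show 0 < 2048 by norm_num), Nat.div_eq_of_lt hr, Nat.zero_add, combine,
      combine_eq l (a / 2) fun x hx => h x (List.mem_cons_of_mem _ hx)]
    rcases Nat.mod_two_eq_zero_or_one a with e | e <;> simp [e]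

theorem fcomb_pack {l : List ℕ} (hl : l.length = 11) (h : ∀ x ∈ l, x < 2048) (a : ℕ) :
    fcomb (pack11 l) a = combine l a := by
  rw [fcomb_eq, combine_eq l a h, hl]

/-- A short list, padded with zeros. -/
theorem fcomb_pad {l : List ℕ} (h : ∀ x ∈ l, x < 2048) (n : ℕ) (hn : l.length + n = 11) (a : ℕ) :
    fcomb (pack11 l) a = combine (l ++ List.replicate n 0) a := by
  have hp : ∀ (m : ℕ) (l : List ℕ), pack11 (l ++ List.replicate m 0) = pack11 l := by
    intro m l
    induction l with
    | nil =>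
      induction m with
      | zero => rfl
      | succ m ih => simp only [List.nil_append, List.replicate_succ, pack11] at *; rw [ih]
    | cons r l ih => simp only [List.cons_append, pack11, ih]
  rw [← fcomb_pack (by simp [hn]) (fun x hx => ?_), hp]
  rcases List.mem_append.mp hx with hx | hx
  · exact h x hx
  · rw [List.eq_of_mem_replicate hx]; norm_num

end Cfsg.Agent.Lib.J4Order.ZFast
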