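import Cfsg.Agent.Lib.J4Order.AtCalc
import Cfsg.Agent.Lib.J4Order.ZData
import Cfsg.Agent.Lib.J4Order.ZFast

/-!
# The checks for the count of pairs at the conjugate `ψ 7` of `z`

The stabiliser of the number 7 (a sextet) acts through `(bar a, c)` affinely on sixteen points; its
image is that of the normaliser of the hexad subgroup.  A pair gets the intrinsic weight of `AzPairs`,
and a mark in a high lane for the configurations which must not occur.
-/

set_option autoImplicit false

namespace Cfsg.Agent.Lib.J4Order.ZCalc

open Cfsg.Agent.Lib.Golay Cfsg.Agent.Lib.Computation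
open Cfsg.Agent.Lib.J4Big.Cocode (dGood addAll piL)
open Cfsg.Agent.Lib.FusionAlperin.MathieuCert (canon)
open AtCalc ZData ZFast

/-! ### the affine action on sixteen points -/

/-- The quotient by the subspace of the duads inside the tetrads. -/
def bar (a : ℕ) : ℕ := fcomb barP a

/-- A section of `bar`. -/
def sect (k : ℕ) : ℕ := fcomb secP k

/-- The linear part, packed. -/
def linT (c : ℕ) : ℕ :=
  forceNat (pack11 (imgL c)) fun P => packW 4 (fun x => bar (fcomb P (sect x))) 16

/-- The affine map `x ↦ i + lin x`, packed. -/
def affP (i lin : ℕ) : ℕ := packW 4 (fun x => Nat.xor i (getW 4 lin x)) 16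

/-- The identity. -/
def oneP : ℕ := packW 4 (fun x => x) 16

/-- Composition, the right one first. -/
def mulA (p q : ℕ) : ℕ := packW 4 (fun x => getW 4 p (getW 4 q x)) 16

/-- Powers. -/
def powA (p : ℕ) : ℕ → ℕ
  | 0 => oneP
  | k + 1 => forceNat (powA p k) fun q => mulA p q

/-- The first exponent from `k` on giving the identity, starting from `q`, within `fuel` steps. -/
def ordA (p : ℕ) : ℕ → ℕ → ℕ → ℕ
  | 0, _, _ => 0
  | fuel + 1, k, q => bif Nat.beq q oneP then k else forceNat (mulA p q) fun r => ordA p fuel (k + 1) r

/-- The key of the linear part. -/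
def linKey (p : ℕ) : ℕ :=
  forceNat (getW 4 p 0) fun s =>
    Nat.xor (getW 4 p 1) s + 16 * Nat.xor (getW 4 p 2) s + 256 * Nat.xor (getW 4 p 4) s +
      4096 * Nat.xor (getW 4 p 8) s

/-- The linear part is even. -/
def innA (p : ℕ) : Bool := innMask.testBit (linKey p)

/-- The map is a translation. -/
def transA (p : ℕ) : Bool := Nat.beq (linKey p) 33825

/-- An outer involution normalising five conjugates. -/
def fiveA (p : ℕ) : Bool := !innA p && fiveL.any fun q => Nat.beq q p

/-- The mark of a configuration which must not occur. -/
def mark : ℕ := 2 ^ 80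

/-- The weight of a pair with product of order `n`, without an inner central involution. -/
def wRest (x y n : ℕ) : ℕ :=
  match n with
  | 1 => bif Nat.beq x oneP then 1170 else bif innA x then 6930 else bif fiveA x then mark else 4290
  | 2 => bif Nat.beq x oneP && fiveA y then 18018 else mark
  | 3 => bif innA x && innA y then 30030
      else bif !innA x && (!innA y && (!fiveA x && !fiveA y)) then 18018 else mark
  | 5 => bif innA x && innA y then 45045 else mark
  | _ => mark

/-- The weight of two affine maps, marked if the first is outer and normalises five conjugates. -/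
def wAff (x y : ℕ) : ℕ :=
  (bif fiveA x then mark else 0) +
    forceNat (mulA x y) fun r => forceNat (ordA r 17 1 r) fun n =>
      forceNat (powA r (n / 2)) fun c =>
        bif Nat.beq (n % 2) 0 && innA c then (bif transA c then 90090 else 0) else wRest x y n

/-- The weight of `(a, g)` and `(b, h)` with `i = bar a`, `j = bar b`. -/
def wgt (i g j h : ℕ) : ℕ :=
  forceNat (affP i (linT g)) fun x => forceNat (affP j (linT h)) fun y => wAff x y

/-! ### one count -/

/-- A mapped list with every entry evaluated, handed on. -/
def withMap (f : ℕ → ℕ) : List ℕ → (List ℕ → ℕ) → ℕ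
  | [], k => k []
  | x :: l, k => forceNat (f x) fun y => withMap f l fun r => k (y :: r)

/-- The tally of the second parts of the keys `j * 2048 + image` with a given first part. -/
def tallyAt (ks : List ℕ) (j : ℕ) : ℕ :=
  tally ((ks.filter fun q => Nat.beq (q / 2048) j).map fun q => q % 2048)

/-- The nonempty tallies, handed on with their points. -/
def withT (ks : List ℕ) : List ℕ → (List (ℕ × ℕ) → ℕ) → ℕ
  | [], k => k []
  | j :: l, k => forceNat (tallyAt ks j) fun T =>
    bif Nat.beq T 0 then withT ks l k else withT ks l fun r => k ((j, T) :: r)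

/-- The weighted number of pairs over one first vector. -/
def rowW (W : ℕ → ℕ → ℕ) (Ts : List (ℕ × ℕ)) (i x : ℕ) : ℕ :=
  (Ts.map fun q => forceNat (getW 16 q.2 x) fun n =>
    bif Nat.beq n 0 then 0 else n * W i q.1).foldr (fun a b => a + b) 0

/-- The weighted number of pairs over given images. -/
def pairsW (W : ℕ → ℕ → ℕ) (Pn Ps : ℕ) (zl tl : List ℕ) : ℕ :=
  withMap (fun b => bar b * 2048 + fcomb Pn (fcomb Ps b)) tl fun ks =>
    withT ks (List.range 16) fun Ts =>
      (zl.map fun a => forceNat (fcomb Pn a ^^^ 7) fun x =>
        forceNat (bar a) fun i => rowW W Ts i x).foldr (fun a b => a + b) 0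

/-- The sum of the images under the powers of a packed map. -/
def normF (P : ℕ) : ℕ → ℕ → ℕ
  | 0, _ => 0
  | k + 1, c => forceNat (normF P k c) fun v => c ^^^ fcomb P v

/-- The linear map of the sum of powers, packed. -/
def normP (p m : ℕ) : ℕ :=
  forceNat (pack11 (imgL p)) fun P => pack11 ((List.range 11).map fun i => normF P m (2 ^ i))

/-- The vectors giving conjugates of `z`, evaluated. -/
def zVec (o : Bool) : ℕ → List ℕ
  | 0 => sexL
  | 1 => xL
  | _ => bif o then pL else qL

/-- The vectors giving the other class, evaluated. -/
def tVec (o : Bool) : ℕ → List ℕ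
  | 0 => duaL
  | 1 => yL
  | _ => bif o then qL else pL

/-- Equality of lists of numbers. -/
def sameL : List ℕ → List ℕ → Bool
  | [], [] => true
  | a :: l, b :: m => Nat.beq a b && sameL l m
  | _, _ => false

/-- The evaluated lists are right. -/
def vecOk : Bool :=
  sameL sexL sextets && sameL duaL duads && sameL xL xA && sameL yL yA && sameL pL pB && sameL qL qB

/-- The count over two coded involutions. -/
def countW (o : Bool) (s ks gs t kt gt m : ℕ) : ℕ :=
  forceNat (normP (mulP 24 5 s t) m) fun Pn => forceNat (pack11 (imgL s)) fun Ps =>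
    forceNat (pack11 (imgL gs)) fun Pu => forceNat (pack11 (imgL gt)) fun Pv =>
      pairsW (fun i j => wgt i s j t) Pn Ps ((zVec o ks).map (fcomb Pu)) ((tVec o kt).map (fcomb Pv))

/-- A value of a root. -/
def valOf (r : ZRoot) : Bool → ℕ
  | false => r.valF
  | true => r.valT

/-- A root, for one label. -/
def zRootOk (o : Bool) (b : ZBlock) (r : ZRoot) : Bool :=
  Nat.beq (countW o b.code b.kind b.wit r.code r.kind r.wit r.ord) (valOf r o)

/-- The data of a root. -/
def zRootWit (b : ZBlock) (r : ZRoot) : Bool :=
  witOk r.code r.kind r.wit && ordOk (mulP 24 5 b.code r.code) r.ord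

/-- The orbits of a block. -/
def ztours (b : ZBlock) : List ℕ := b.roots.flatMap fun r => tour b.cgens r.code r.prog

/-- The sum over a block. -/
def blockSum (o : Bool) (b : ZBlock) : ℕ :=
  (b.roots.map fun r => (tour b.cgens r.code r.prog).length * valOf r o).foldr (fun a c => a + c) 0

/-- The total. -/
def totalSum (o : Bool) : ℕ :=
  (zblocks.map fun b => (tour zgens b.code b.prog).length * blockSum o b).foldr (fun a c => a + c) 0

/-! ### groups given by lists -/

/-- Keys with ranks. -/
def keysL (L : List ℕ) : List ℕ := List.zipWith (fun c i => c * 4096 + i) L (List.range L.length)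

/-- `l` meets every member of `L` exactly once. -/
def coverL (L l : List ℕ) : Bool :=
  match markAll (buildR 14 (keysL L)) l 0 with
  | none => false
  | some r => Nat.beq r (2 ^ L.length - 1)

/-- The generators are inverse pairs fixing seven. -/
def zgensOk (gs : List (ℕ × ℕ)) : Bool :=
  gs.all fun g => inM24 g.1 && inM24 g.2 && Nat.beq (mulP 24 5 g.1 g.2) oneCode && Nat.beq (act g.1 7) 7

/-- The codes met on a tour by left multiplication. -/
def runM (gs : List ℕ) : List ℕ → List ℕ → List ℕ
  | [], _ => []
  | 0 :: r, stk => runM gs r stk.tail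
  | (_ + 1) :: _, [] => []
  | (j + 1) :: r, a :: stk =>
    forceNat (mulP 24 5 (gs.getD j oneCode) a) fun x => x :: runM gs r (x :: a :: stk)

/-- The numbers met on a tour of the action. -/
def runV (Ls : List (List ℕ)) : List ℕ → List ℕ → List ℕ
  | [], _ => []
  | 0 :: r, stk => runV Ls r stk.tail
  | (_ + 1) :: _, [] => []
  | (j + 1) :: r, a :: stk =>
    forceNat (combine (Ls.getD j []) a) fun x => x :: runV Ls r (x :: a :: stk)

/-- A group given by a list: canonical, increasing, a tour from one covering it, closed. -/
def groupOk (L gs prog : List ℕ) : Bool :=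
  let t := buildR 14 (keysL L)
  (L.all fun c => okCode c && Nat.beq (canon c) c) &&
    ((List.zip L L.tail).all fun q => Nat.blt q.1 q.2) &&
    coverL L (oneCode :: runM gs prog [oneCode]) &&
    L.all fun c => gs.all fun g => (t.find (mulP 24 5 g c)).isSome

/-- The orbit of seven has at least 1771 members. -/
def transOk : Bool :=
  (vgens.all inM24) &&
    match addAll (7 :: runV (vgens.map imgL) vprog [7]) 0 with
    | none => false
    | some _ => Nat.beq (7 :: runV (vgens.map imgL) vprog [7]).length 1771

/-- The list of involutions. -/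
def zinvolOk : Bool :=
  (zinvol.all fun c => okCode c && Nat.beq (canon c) c) &&
    ((List.zip zinvol zinvol.tail).all fun q => Nat.blt q.1 q.2) &&
    ((buildR 14 (keysL zinvol)).find oneCode).isSome

/-- The list is closed under conjugation by a generator. -/
def zclosedOk (g : ℕ × ℕ) : Bool :=
  let t := buildR 14 (keysL zinvol)
  zinvol.all fun c => (t.find (conjC g c)).isSome

/-- The generators cover those of the Sylow subgroups and the element of order five. -/
def ggensHas : Bool :=
  (sylG ++ (threeG ++ [fiveC])).all fun c => ggens.any fun g => Nat.beq g.1 c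

/-- The involutions of the Sylow subgroup are listed. -/
def zsylOk : Bool :=
  let t := buildR 14 (keysL zinvol)
  sylL.all fun c => !Nat.beq (canon (mulP 24 5 c c)) oneCode || (t.find c).isSome

/-- The tables of `bar` and its section. -/
def tableOk : Bool :=
  Nat.beq (pack11 barL) barP && Nat.beq (pack11 secL) secP &&
    (barL.all fun x => Nat.blt x 16) && (secL.all fun x => Nat.blt x 2048) &&
    Nat.beq barL.length 11 && Nat.beq secL.length 4 &&
    (List.range 16).all fun k => Nat.beq (bar (sect k)) k

end Cfsg.Agent.Lib.J4Order.ZCalc
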