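import Cfsg.Agent.Lib.J4Order.ZCalc

/-!
# Running the checks on the data of the stabiliser of seven
-/

set_option autoImplicit false
set_option maxRecDepth 100000

namespace Cfsg.Agent.Lib.J4Order.ZChecks

open Cfsg.Agent.Lib.Golay Cfsg.Agent.Lib.Computation AtCalc ZCalc ZData

theorem table_ok : tableOk = true := by decide +kernel

theorem vec_ok : vecOk = true := by decide +kernel

theorem zgens_ok : zgensOk zgens = true := by decide +kernel

theorem trans_ok : transOk = true := by decide +kernel

theorem syl_group : (groupOk sylL sylG sylP && Nat.beq sylL.length 1024 &&
    sylG.all fun c => inM24 c && Nat.beq (act c 7) 7) = true := by decide +kernel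

theorem three_group : (groupOk threeL threeG threeP && Nat.beq threeL.length 27 &&
    threeG.all fun c => inM24 c && Nat.beq (act c 7) 7) = true := by decide +kernel

theorem five_ok : (inM24 fiveC && Nat.beq (act fiveC 7) 7 && ordOk fiveC 5) = true := by decide +kernel

theorem zinvol_ok : zinvolOk = true := by decide +kernel

theorem ggens_ok : zgensOk ggens = true := by decide +kernel

theorem ggens_has : ggensHas = true := by decide +kernel

theorem zclosed_ok : ggens.all zclosedOk = true := by decide +kernel

theorem zsyl_ok : zsylOk = true := by decide +kernel

theorem zblocks_gens : (zblocks.all fun b =>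
    zgensOk b.cgens && centOk b.code b.cgens && witOk b.code b.kind b.wit) = true := by decide +kernel

theorem cover_outer : coverL zinvol (zblocks.flatMap fun b => tour zgens b.code b.prog) = true := by
  decide +kernel

theorem covers : (zblocks.all fun b => coverL zinvol (ztours b)) = true := by decide +kernel

theorem wits_ok : (zblocks.all fun b => b.roots.all (zRootWit b)) = true := by decide +kernel

theorem zblocks_fix : (zblocks.all fun b => inM24 b.code && Nat.beq (act b.code 7) 7 &&
    b.roots.all fun r => Nat.beq (act r.code 7) 7) = true := by decide +kernel

theorem totals : (Nat.beq (totalSum false) 34206514673760 &&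
    Nat.beq (totalSum true) 34206514673760) = true := by decide +kernel

end Cfsg.Agent.Lib.J4Order.ZChecks
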