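import Cfsg.Agent.Lib.J4Order.ZNum
import Cfsg.Agent.Lib.J4Order.ZChecks
import Cfsg.Agent.Lib.J4Order.AtCount

/-!
# The stabiliser of `ψ 7` in the complement and its involutions
-/

set_option autoImplicit false
set_option linter.unusedSectionVars false
set_option linter.constructorNameAsVariable false
set_option linter.style.haveILetI false

namespace Cfsg.Agent.Lib.J4Order

open Cfsg Cfsg.Agent.Lib.Golay Cfsg.Agent.Lib.Computation
open Cfsg.Agent.Lib.J4Big.Cocode (addAll addAll_spec)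
open Cfsg.Agent.Lib.FusionAlperin.MathieuCert (canon eq_of_gperm sortedLT_of_zip getW_eq_of_gperm
  canon_congr)
open AtCalc ZCalc ZData

attribute [local irreducible] oneCode mulP zinvol sylL threeL

namespace ZInvol

theorem len_ok : zinvol.length ≤ 4096 ∧ sylL.length ≤ 4096 ∧ threeL.length ≤ 4096 := by
  have h : (Nat.ble zinvol.length 4096 && Nat.ble sylL.length 4096 && Nat.ble threeL.length 4096) =
      true := by decide +kernel
  simpa [Nat.ble_eq, Bool.and_eq_true, and_assoc] using h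

/-- The permutations with listed codes. -/
noncomputable def elSet (L : List ℕ) : Set ↥M24 := {σ | ∃ c ∈ L, el c = σ}

theorem gperm_eq_of_el {a b : ℕ} (ha : Good a) (hb : Good b) (h : el a = el b) :
    gperm a = gperm b := by
  have := congrArg Subtype.val h
  rwa [el_coe ha.2, el_coe hb.2] at this

theorem code_eq {a b : ℕ} (ha : Good a) (hb : Good b) (ca : canon a = a) (cb : canon b = b)
    (h : el a = el b) : a = b :=
  eq_of_gperm ha.1 hb.1 ca cb (gperm_eq_of_el ha hb h)

theorem runM_all {gs : List ℕ} {Q : ℕ → Prop}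
    (hstep : ∀ g, g ∈ gs ∨ g = oneCode → ∀ x, Q x → Q (mulP 24 5 g x)) :
    ∀ (prog stk : List ℕ), (∀ x ∈ stk, Q x) → ∀ y ∈ runM gs prog stk, Q y
  | [], _, _, y, hy => by simp [runM] at hy
  | 0 :: r, stk, h, y, hy => by
    rw [runM] at hy
    exact runM_all hstep r stk.tail (fun x hx => h x (List.mem_of_mem_tail hx)) y hy
  | (_ + 1) :: _, [], _, y, hy => by simp [runM] at hy
  | (j + 1) :: r, a :: stk, h, y, hy => by
    rw [runM, forceNat_eq] at hy
    have hx : Q (mulP 24 5 (gs.getD j oneCode) a) := by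
      refine hstep _ ?_ a (h a List.mem_cons_self)
      rcases lt_or_ge j gs.length with hj | hj
      · exact Or.inl (by rw [List.getD_eq_getElem _ _ hj]; exact List.getElem_mem hj)
      · exact Or.inr (List.getD_eq_default _ _ hj)
    rcases List.mem_cons.mp hy with rfl | hy
    · exact hx
    · refine runM_all hstep r _ (fun x hxm => ?_) y hy
      rcases List.mem_cons.mp hxm with rfl | hxm
      exacts [hx, h x hxm]

/-- A checked list is the group generated by its generators. -/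
theorem group_spec {L gs prog : List ℕ} (hlen : L.length ≤ 4096) (h : groupOk L gs prog = true)
    (hgs : ∀ g ∈ gs, Good g) :
    (∀ c ∈ L, Good c ∧ canon c = c) ∧
      (Subgroup.closure (elSet gs) : Set ↥M24) = elSet L ∧
      Nat.card ↥(Subgroup.closure (elSet gs)) = L.length := by
  simp only [groupOk, Bool.and_eq_true, List.all_eq_true, Nat.beq_eq] at h
  obtain ⟨⟨⟨hcan, hsort⟩, hcov⟩, hclosed⟩ := h
  have hp := ZNum.perm_of_coverL hlen hcov
  have hgood : ∀ c ∈ L, Good c ∧ el c ∈ Subgroup.closure (elSet gs) := by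
    intro c hc
    rcases List.mem_cons.mp (hp.mem_iff.mpr hc) with rfl | hc'
    · exact ⟨good_one, by rw [el_one]; exact one_mem _⟩
    refine runM_all (Q := fun x => Good x ∧ el x ∈ Subgroup.closure (elSet gs)) (fun g hg x hx => ?_)
      prog [oneCode] (by simp [good_one, el_one]) c hc'
    rcases hg with hg | rfl
    · exact ⟨good_mulP (hgs g hg) hx.1, by
        rw [el_mul (hgs g hg) hx.1]
        exact mul_mem (Subgroup.subset_closure ⟨g, hg, rfl⟩) hx.2⟩
    · exact ⟨good_mulP good_one hx.1, by rw [el_mul good_one hx.1, el_one, one_mul]; exact hx.2⟩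
  have hone : oneCode ∈ L := hp.mem_iff.mp List.mem_cons_self
  have hset : (Subgroup.closure (elSet gs) : Set ↥M24) = elSet L := by
    refine Set.Subset.antisymm (fun x hx => ?_) (fun x ⟨c, hc, e⟩ => e ▸ (hgood c hc).2)
    let Mon : Submonoid ↥M24 :=
      { carrier := {x | ∀ y ∈ elSet L, x * y ∈ elSet L}
        one_mem' := fun y hy => by rwa [one_mul]
        mul_mem' := fun {a b} ha hb y hy => by rw [mul_assoc]; exact ha _ (hb y hy) }
    have hx' : x ∈ (Subgroup.closure (elSet gs)).toSubmonoid := hx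
    rw [Subgroup.closure_toSubmonoid_of_finite] at hx'
    have hM : x ∈ Mon := by
      refine (Submonoid.closure_le (S := Mon)).mpr ?_ hx'
      rintro _ ⟨g, hg, rfl⟩ _ ⟨c, hc, rfl⟩
      refine ⟨mulP 24 5 g c, ZNum.mem_of_find hlen (hclosed c hc g hg), ?_⟩
      rw [el_mul (hgs g hg) (hgood c hc).1]
    simpa using hM 1 ⟨oneCode, hone, el_one⟩
  refine ⟨fun c hc => ⟨(hgood c hc).1, (hcan c hc).2⟩, hset, ?_⟩
  have hnd : L.Nodup :=
    (sortedLT_of_zip (List.all_eq_true.mpr fun q hq => by simpa using hsort q hq)).imp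
      fun h => ne_of_lt h
  classical
  rw [← SetLike.coe_sort_coe, Nat.card_coe_set_eq, hset,
    show elSet L = ((L.toFinset.image el : Finset ↥M24) : Set ↥M24) by ext; simp [elSet],
    Set.ncard_coe_finset, Finset.card_image_of_injOn, List.toFinset_card_of_nodup hnd]
  intro a ha b hb e
  exact code_eq (hgood a (List.mem_toFinset.mp ha)).1 (hgood b (List.mem_toFinset.mp hb)).1
    (hcan a (List.mem_toFinset.mp ha)).2 (hcan b (List.mem_toFinset.mp hb)).2 e

theorem runV_all {Ls : List (List ℕ)} {Q : ℕ → Prop}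
    (hstep : ∀ l ∈ Ls, ∀ x, Q x → Q (combine l x)) :
    ∀ (prog stk : List ℕ), (∀ j ∈ prog, j ≤ Ls.length) → (∀ x ∈ stk, Q x) →
      ∀ y ∈ runV Ls prog stk, Q y
  | [], _, _, _, y, hy => by simp [runV] at hy
  | 0 :: r, stk, hj, h, y, hy => by
    rw [runV] at hy
    exact runV_all hstep r stk.tail (fun j hm => hj j (List.mem_cons_of_mem _ hm))
      (fun x hx => h x (List.mem_of_mem_tail hx)) y hy
  | (_ + 1) :: _, [], _, _, y, hy => by simp [runV] at hy
  | (j + 1) :: r, a :: stk, hj, h, y, hy => by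
    rw [runV, forceNat_eq] at hy
    have hjl : j < Ls.length := hj _ List.mem_cons_self
    have hx : Q (combine (Ls.getD j []) a) :=
      hstep _ (by rw [List.getD_eq_getElem _ _ hjl]; exact List.getElem_mem hjl) a
        (h a List.mem_cons_self)
    rcases List.mem_cons.mp hy with rfl | hy
    · exact hx
    · refine runV_all hstep r _ (fun j hm => hj j (List.mem_cons_of_mem _ hm)) (fun x hxm => ?_) y hy
      rcases List.mem_cons.mp hxm with rfl | hxm
      exacts [hx, h x hxm]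

theorem vprog_le : ∀ j ∈ vprog, j ≤ (vgens.map imgL).length := by
  have h : (vprog.all fun j => Nat.ble j vgens.length) = true := by decide +kernel
  simpa [List.all_eq_true, Nat.ble_eq] using h

/-- The listed involutions. -/
noncomputable def Lz : Finset ↥M24 := (zinvol.map el).toFinset

theorem mem_Lz {σ : ↥M24} : σ ∈ Lz ↔ ∃ c ∈ zinvol, el c = σ := by simp [Lz]

theorem five_spec : Good fiveC ∧ act fiveC 7 = 7 := by
  have h := ZChecks.five_ok
  simp only [Bool.and_eq_true, Nat.beq_eq] at h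
  exact ⟨good_of_inM24 h.1.1, h.1.2⟩

theorem gens_list_spec {L gs prog : List ℕ} {n : ℕ}
    (h : (groupOk L gs prog && Nat.beq L.length n &&
      gs.all fun c => inM24 c && Nat.beq (act c 7) 7) = true) :
    groupOk L gs prog = true ∧ L.length = n ∧ ∀ g ∈ gs, Good g ∧ act g 7 = 7 := by
  simp only [Bool.and_eq_true, List.all_eq_true, Nat.beq_eq] at h
  exact ⟨h.1.1, h.1.2, fun g hg => ⟨good_of_inM24 (h.2 g hg).1, (h.2 g hg).2⟩⟩

theorem syl_spec : groupOk sylL sylG sylP = true ∧ sylL.length = 1024 ∧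
    ∀ g ∈ sylG, Good g ∧ act g 7 = 7 := gens_list_spec ZChecks.syl_group

theorem three_spec : groupOk threeL threeG threeP = true ∧ threeL.length = 27 ∧
    ∀ g ∈ threeG, Good g ∧ act g 7 = 7 := gens_list_spec ZChecks.three_group

theorem zinvol_spec : (∀ c ∈ zinvol, okCode c = true ∧ canon c = c) ∧ zinvol.Pairwise (· < ·) ∧
    oneCode ∈ zinvol := by
  have h := ZChecks.zinvol_ok
  simp only [zinvolOk, Bool.and_eq_true, List.all_eq_true, Nat.beq_eq] at h
  exact ⟨h.1.1, sortedLT_of_zip (List.all_eq_true.mpr fun q hq => by simpa using h.1.2 q hq),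
    ZNum.mem_of_find len_ok.1 h.2⟩

theorem zgens_spec {g : ℕ × ℕ} {gs : List (ℕ × ℕ)} (h : zgensOk gs = true) (hg : g ∈ gs) :
    Good g.1 ∧ Good g.2 ∧ act g.1 7 = 7 ∧ el g.2 = (el g.1)⁻¹ := by
  simp only [zgensOk, List.all_eq_true, Bool.and_eq_true, Nat.beq_eq] at h
  obtain ⟨⟨⟨h1, h2⟩, h3⟩, h4⟩ := h g hg
  have g1 := good_of_inM24 h1
  have g2 := good_of_inM24 h2
  exact ⟨g1, g2, h4, eq_inv_of_mul_eq_one_right (by rw [← el_mul g1 g2, h3, el_one])⟩

/-- A listed code is in the group of the code. -/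
theorem good_zinvol' {d : ℕ} (hd : d ∈ zinvol) : gperm d ∈ M24 := by
  have hp := ZNum.perm_of_coverL len_ok.1 ZChecks.cover_outer
  obtain ⟨b, hb, hdb⟩ := List.mem_flatMap.mp (hp.mem_iff.mpr hd)
  have hb' := List.all_eq_true.mp ZChecks.zblocks_fix b hb
  simp only [Bool.and_eq_true] at hb'
  have hroot : Good b.code := good_of_inM24 hb'.1.1
  rcases List.mem_cons.mp hdb with rfl | hdb
  · exact hroot.2
  refine (tour_all (Q := Good) (fun g hg x hx => ?_) _ _ (by simpa using hroot) d hdb).2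
  rcases hg with hg | rfl
  · obtain ⟨g1, g2, -⟩ := zgens_spec ZChecks.zgens_ok hg
    exact good_mulP (good_mulP g1 hx) g2
  · exact good_mulP (good_mulP good_one hx) good_one

theorem el_conjC {g : ℕ × ℕ} (g1 : Good g.1) (g2 : Good g.2) {x : ℕ} (hx : Good x) :
    el (conjC g x) = el g.1 * el x * el g.2 := by
  rw [conjC, el_mul (good_mulP g1 hx) g2, el_mul g1 hx]

end ZInvol

namespace NModel

open ZInvol

variable {G : Type*} [Group G] {z : G} (M : NModel z)

/-- The part of the complement commuting with `ψ 7`. -/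
noncomputable def st : Subgroup ↥M24 :=
  (Subgroup.centralizer ({M.ψ 7} : Set G)).comap M.κ

theorem mem_st {σ : ↥M24} : σ ∈ M.st ↔ Commute (M.κ σ) (M.ψ 7) :=
  Subgroup.mem_comap.trans Subgroup.mem_centralizer_singleton_iff

theorem el_mem_st {c : ℕ} (hc : Good c) : el c ∈ M.st ↔ act c 7 = 7 := by
  rw [M.mem_st]
  constructor
  · intro h
    have e := M.conj_el hc (show (7 : ℕ) < 2048 by norm_num)
    rw [mul_inv_eq_iff_eq_mul.mpr h.eq] at e
    exact (M.frame.inj _ _ (by norm_num) (act_lt c 7) e).symm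
  · intro h
    have e := M.conj_el hc (show (7 : ℕ) < 2048 by norm_num)
    rw [h] at e
    exact mul_inv_eq_iff_eq_mul.mp e

theorem commute_seven_iff {a : ℕ} {σ : ↥M24} :
    Commute (M.ev a σ) (M.ψ 7) ↔ σ ∈ M.st := by
  have hψ : Commute (M.ψ a) (M.ψ 7) := M.frame.comm (M.ψ_mem a) (M.ψ_mem 7)
  rw [M.mem_st]
  exact ⟨fun h => by simpa [ev] using hψ.inv_left.mul_left h, fun h => hψ.mul_left h⟩

include M in
/-- The stabiliser has index at least 1771. -/
theorem card_st_le : Nat.card ↥M.st ≤ 138240 := by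
  classical
  have h := ZChecks.trans_ok
  simp only [transOk, Bool.and_eq_true, List.all_eq_true] at h
  obtain ⟨hv, hm⟩ := h
  set L := 7 :: runV (vgens.map imgL) vprog [7] with hL
  cases he : addAll L 0 with
  | none => rw [he] at hm; simp at hm
  | some r =>
    rw [he] at hm
    simp only [Nat.beq_eq] at hm
    have hnd := (addAll_spec he).1
    have hQ : ∀ x ∈ L, x < 2048 ∧ ∃ σ : ↥M24, M.κ σ * M.ψ 7 * (M.κ σ)⁻¹ = M.ψ x := by
      have h7 : (7 : ℕ) < 2048 ∧ ∃ σ : ↥M24, M.κ σ * M.ψ 7 * (M.κ σ)⁻¹ = M.ψ 7 :=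
        ⟨by norm_num, 1, by simp⟩
      intro x hx
      rcases List.mem_cons.mp hx with rfl | hx
      · exact h7
      refine runV_all (Q := fun x => x < 2048 ∧ ∃ σ : ↥M24, M.κ σ * M.ψ 7 * (M.κ σ)⁻¹ = M.ψ x)
        (fun l hl y hy => ?_) vprog [7] vprog_le (by simpa using h7) x hx
      · obtain ⟨g, hg, rfl⟩ := List.mem_map.mp hl
        obtain ⟨hy', σ, hσ⟩ := hy
        refine ⟨act_lt g y, el g * σ, ?_⟩
        rw [show combine (imgL g) y = act g y from rfl, ← M.conj_el (good_of_inM24 (hv g hg)) hy',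
          ← hσ, map_mul]
        group
    choose hlt σ hσ using hQ
    let f : {x // x ∈ L.toFinset} → ↥M24 ⧸ M.st := fun x =>
      QuotientGroup.mk (σ x.1 (List.mem_toFinset.mp x.2))
    have hf : Function.Injective f := by
      intro x y e
      have e' := QuotientGroup.eq.mp e
      rw [M.mem_st, map_mul, map_inv] at e'
      refine Subtype.ext (M.frame.inj _ _ (hlt _ (List.mem_toFinset.mp x.2))
        (hlt _ (List.mem_toFinset.mp y.2)) ?_)
      rw [← hσ _ (List.mem_toFinset.mp x.2), ← hσ _ (List.mem_toFinset.mp y.2)]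
      set A := M.κ (σ x.1 (List.mem_toFinset.mp x.2))
      set B := M.κ (σ y.1 (List.mem_toFinset.mp y.2))
      calc A * M.ψ 7 * A⁻¹ = A * (M.ψ 7 * (A⁻¹ * B)) * B⁻¹ := by group
        _ = A * (A⁻¹ * B * M.ψ 7) * B⁻¹ := by rw [e'.eq]
        _ = B * M.ψ 7 * B⁻¹ := by group
    have h1 := Nat.card_le_card_of_injective f hf
    rw [Nat.card_eq_fintype_card, Fintype.card_coe, List.toFinset_card_of_nodup hnd, hm,
      ← Subgroup.index_eq_card] at h1
    have h2 := Subgroup.card_mul_index M.st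
    rw [Cfsg.Agent.Lib.Golay.card_M24] at h2
    have h3 : Nat.card ↥M.st * 1771 ≤ 244823040 := h2 ▸ Nat.mul_le_mul_left _ h1
    omega

include M in
theorem closure_le_st {gs : List ℕ} (h : ∀ g ∈ gs, Good g ∧ act g 7 = 7) :
    Subgroup.closure (elSet gs) ≤ M.st := by
  rw [Subgroup.closure_le]
  rintro _ ⟨g, hg, rfl⟩
  exact (M.el_mem_st (h g hg).1).mpr (h g hg).2

/-- The stabiliser is generated by the Sylow subgroups and the element of order five. -/
theorem st_eq :
    M.st = Subgroup.closure (elSet (sylG ++ (threeG ++ [fiveC]))) ∧ Nat.card ↥M.st = 138240 := by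
  obtain ⟨hs, hsl, hsg⟩ := syl_spec
  obtain ⟨ht, htl, htg⟩ := three_spec
  obtain ⟨hf, hf7⟩ := five_spec
  set K := Subgroup.closure (elSet (sylG ++ (threeG ++ [fiveC])))
  have hle : K ≤ M.st := M.closure_le_st fun g hg => by
    rcases List.mem_append.mp hg with hg | hg
    · exact hsg g hg
    rcases List.mem_append.mp hg with hg | hg
    · exact htg g hg
    · rw [List.mem_singleton.mp hg]; exact ⟨hf, hf7⟩
  have hsub : ∀ {gs : List ℕ}, (∀ g ∈ gs, g ∈ sylG ++ (threeG ++ [fiveC])) →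
      Subgroup.closure (elSet gs) ≤ K := fun {gs} h =>
    Subgroup.closure_mono fun x ⟨c, hc, e⟩ => ⟨c, h c hc, e⟩
  have d1 := Subgroup.card_dvd_of_le
    (hsub (gs := sylG) fun g hg => List.mem_append_left _ hg)
  rw [(group_spec len_ok.2.1 hs fun g hg => (hsg g hg).1).2.2, hsl] at d1
  have d2 := Subgroup.card_dvd_of_le
    (hsub (gs := threeG) fun g hg => List.mem_append_right _ (List.mem_append_left _ hg))
  rw [(group_spec len_ok.2.2 ht fun g hg => (htg g hg).1).2.2, htl] at d2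
  have d3 : 5 ∣ Nat.card ↥K := by
    have h5 := ZChecks.five_ok
    simp only [Bool.and_eq_true] at h5
    rw [← orderOf_el hf h5.2]
    exact Subgroup.orderOf_dvd_natCard _ (Subgroup.subset_closure
      ⟨fiveC, List.mem_append_right _ (List.mem_append_right _ (List.mem_singleton_self _)), rfl⟩)
  have hd : 138240 ∣ Nat.card ↥K := by
    have := Nat.Coprime.mul_dvd_of_dvd_of_dvd (show Nat.Coprime (1024 * 27) 5 by norm_num)
      (Nat.Coprime.mul_dvd_of_dvd_of_dvd (show Nat.Coprime 1024 27 by norm_num) d1 d2) d3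
    exact this
  have hK : 138240 ≤ Nat.card ↥K := Nat.le_of_dvd Nat.card_pos hd
  have h1 := M.card_st_le
  have h2 := Subgroup.card_le_of_le hle
  exact ⟨(Subgroup.eq_of_le_of_card_ge hle (h1.trans hK)).symm, le_antisymm h1 (hK.trans h2)⟩

/-- The listed involutions are permuted by the stabiliser. -/
theorem Lz_closed {g σ : ↥M24} (hg : g ∈ M.st) (hσ : σ ∈ Lz) : g * σ * g⁻¹ ∈ Lz := by
  classical
  let keep : Submonoid ↥M24 :=
    { carrier := {g | ∀ σ ∈ Lz, g * σ * g⁻¹ ∈ Lz}
      one_mem' := fun σ h => by simpa using h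
      mul_mem' := fun {a b} ha hb σ h => by
        rw [show a * b * σ * (a * b)⁻¹ = a * (b * σ * b⁻¹) * a⁻¹ by group]
        exact ha _ (hb σ h) }
  have hg' : g ∈ (Subgroup.closure (elSet (sylG ++ (threeG ++ [fiveC])))).toSubmonoid := by
    rw [← M.st_eq.1]; exact hg
  rw [Subgroup.closure_toSubmonoid_of_finite] at hg'
  refine ((Submonoid.closure_le (S := keep)).mpr ?_ hg') σ hσ
  rintro _ ⟨c, hc, rfl⟩ σ' hσ'
  obtain ⟨d, hd, rfl⟩ := mem_Lz.mp hσ'
  have hgens := ZChecks.ggens_has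
  simp only [ggensHas, List.all_eq_true, List.any_eq_true, Nat.beq_eq] at hgens
  obtain ⟨q, hq, rfl⟩ := hgens c hc
  obtain ⟨g1, g2, -, hinv⟩ := zgens_spec ZChecks.ggens_ok hq
  have hgd : Good d := ⟨(zinvol_spec.1 d hd).1, good_zinvol' hd⟩
  refine mem_Lz.mpr ⟨conjC q d, ?_, ?_⟩
  · have h := List.all_eq_true.mp ZChecks.zclosed_ok q hq
    simp only [zclosedOk, List.all_eq_true] at h
    exact ZNum.mem_of_find len_ok.1 (h d hd)
  · rw [el_conjC g1 g2 hgd, hinv]

/-- Every involution of the stabiliser is listed. -/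
theorem mem_Lz_of_sq {σ : ↥M24} (hσ : σ ∈ M.st) (h2 : σ * σ = 1) : σ ∈ Lz := by
  by_cases h1 : σ = 1
  · exact mem_Lz.mpr ⟨oneCode, zinvol_spec.2.2, by rw [el_one, h1]⟩
  haveI := Fact.mk Nat.prime_two
  obtain ⟨hs, hsl, hsg⟩ := syl_spec
  obtain ⟨hgood, hset, hcard⟩ := group_spec len_ok.2.1 hs fun g hg => (hsg g hg).1
  have hle : Subgroup.closure (elSet sylG) ≤ M.st := M.closure_le_st hsg
  have hfac : (138240 : ℕ).factorization 2 = 10 := by
    rw [show (138240 : ℕ) = 2 ^ 10 * 135 by norm_num,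
      Nat.factorization_mul (by norm_num) (by norm_num), Finsupp.add_apply,
      Nat.Prime.factorization_pow Nat.prime_two, Finsupp.single_eq_same,
      Nat.factorization_eq_zero_of_not_dvd (show ¬ 2 ∣ 135 by norm_num)]
  let P : Sylow 2 ↥M.st := Sylow.ofCard ((Subgroup.closure (elSet sylG)).subgroupOf M.st) (by
    rw [Nat.card_congr (Subgroup.subgroupOfEquivOfLe hle).toEquiv, hcard, hsl, M.st_eq.2, hfac]
    norm_num)
  have hPG : IsPGroup 2 ↥(Subgroup.zpowers (⟨σ, hσ⟩ : ↥M.st)) := by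
    refine IsPGroup.of_card (n := 1) ?_
    rw [Nat.card_zpowers, orderOf_eq_prime (p := 2) (Subtype.ext (by rw [pow_two]; exact h2))
      fun e => h1 (congrArg Subtype.val e), pow_one]
  obtain ⟨Q, hQ⟩ := hPG.exists_le_sylow
  obtain ⟨g, hg⟩ := MulAction.exists_smul_eq ↥M.st Q P
  have hmem : g * ⟨σ, hσ⟩ * g⁻¹ ∈ (P : Subgroup ↥M.st) := by
    rw [← hg, Sylow.coe_subgroup_smul, Subgroup.mem_pointwise_smul_iff_inv_smul_mem]
    simpa [MulAut.smul_def, MulAut.conj_inv_apply, mul_assoc] using hQ (Subgroup.mem_zpowers _)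
  have hmem' : (g : ↥M24) * σ * (g : ↥M24)⁻¹ ∈ (Subgroup.closure (elSet sylG) : Set ↥M24) := by
    rw [Sylow.coe_ofCard, Subgroup.mem_subgroupOf] at hmem
    exact hmem
  rw [hset] at hmem'
  obtain ⟨c, hc, he⟩ := hmem'
  obtain ⟨hcg, hcc⟩ := hgood c hc
  have hsq : canon (mulP 24 5 c c) = oneCode := by
    refine (canon_congr fun j hj => getW_eq_of_gperm (okCode_mulP hcg.1 hcg.1) okCode_oneCode ?_ hj).trans
      (by decide +kernel)
    refine gperm_eq_of_el (good_mulP hcg hcg) good_one ?_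
    rw [el_mul hcg hcg, he, el_one, show (g : ↥M24) * σ * (g : ↥M24)⁻¹ * (g * σ * (g : ↥M24)⁻¹) =
      g * (σ * σ) * (g : ↥M24)⁻¹ by group, h2]
    group
  have h := ZChecks.zsyl_ok
  simp only [zsylOk, List.all_eq_true, Bool.or_eq_true, Bool.not_eq_true', ← Bool.not_eq_true,
    Nat.beq_eq] at h
  rcases h c hc with h | h
  · exact absurd hsq h
  · have := M.Lz_closed (inv_mem g.2) (mem_Lz.mpr ⟨c, ZNum.mem_of_find len_ok.1 h, he⟩)
    rwa [show (g : ↥M24)⁻¹ * ((g : ↥M24) * σ * (g : ↥M24)⁻¹) * (g : ↥M24)⁻¹⁻¹ = σ by group] at this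

end NModel

end Cfsg.Agent.Lib.J4Order
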