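import Cfsg.Agent.Lib.J4Order.ZCalc
import Cfsg.Agent.Lib.J4Order.AtNum

/-!
# Meaning of the numerical helpers of the count at `ψ 7`
-/

set_option autoImplicit false

namespace Cfsg.Agent.Lib.J4Order.ZNum

open Cfsg.Agent.Lib.Golay Cfsg.Agent.Lib.Computation
open Cfsg.Agent.Lib.J4Big.Cocode (addAll addAll_spec)
open AtCalc ZCalc ZFast

theorem fcomb_lt (P a : ℕ) : fcomb P a < 2048 := by
  have h : ∀ i j, term P a i j < 2 ^ 11 := fun i j => by
    rw [ZFast.term_eq]
    have h2 : a / 2 ^ i % 2 ≤ 1 := by omega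
    calc a / 2 ^ i % 2 * (P / 2 ^ j % 2 ^ 11) ≤ 1 * (P / 2 ^ j % 2 ^ 11) :=
          Nat.mul_le_mul_right _ h2
      _ < 2 ^ 11 := by rw [one_mul]; exact Nat.mod_lt _ (by norm_num)
  rw [fcomb]
  iterate 10 refine Nat.xor_lt_two_pow (h _ _) ?_
  exact h _ _

theorem fcombN_xor : ∀ (n P a b : ℕ),
    fcombN n P (a ^^^ b) = fcombN n P a ^^^ fcombN n P b
  | 0, _, _, _ => by simp [fcombN]
  | n + 1, P, a, b => by
    have hd : (a ^^^ b) / 2 = a / 2 ^^^ b / 2 := by
      have := @Nat.xor_div_two_pow a b 1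
      simpa using this
    have hm : (a ^^^ b) % 2 = (a % 2 + b % 2) % 2 := by
      rw [Nat.xor_mod_two_eq]; omega
    simp only [fcombN, hd, hm, fcombN_xor n]
    rcases Nat.mod_two_eq_zero_or_one a with ha | ha <;> rcases Nat.mod_two_eq_zero_or_one b with hb | hb <;>
      simp only [ha, hb, Nat.zero_mul, Nat.one_mul, Nat.zero_add, Nat.add_zero, Nat.reduceAdd, Nat.reduceMod] <;>
      ac_nf <;> simp [← Nat.xor_assoc]

theorem fcomb_xor (P a b : ℕ) : fcomb P (a ^^^ b) = fcomb P a ^^^ fcomb P b := by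
  simp only [ZFast.fcomb_eq, fcombN_xor]

theorem fcomb_zero (P : ℕ) : fcomb P 0 = 0 := by
  have h := fcomb_xor P 0 0
  rwa [Nat.xor_self, Nat.xor_self] at h

theorem barL_spec : (∀ x ∈ ZData.barL, x < 2048) ∧ ZData.barL.length = 11 ∧
    pack11 ZData.barL = ZData.barP ∧ ∀ x ∈ ZData.barL, x < 16 := by
  have h : (Nat.beq ZData.barL.length 11 && Nat.beq (pack11 ZData.barL) ZData.barP &&
      ZData.barL.all fun x => Nat.blt x 16) = true := by decide +kernel
  simp only [Bool.and_eq_true, List.all_eq_true, Nat.blt_eq, Nat.beq_eq] at h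
  exact ⟨fun x hx => lt_trans (h.2 x hx) (by norm_num), h.1.1, h.1.2, h.2⟩

theorem bar_eq (a : ℕ) : bar a = combine ZData.barL a := by
  obtain ⟨h1, h2, h3, -⟩ := barL_spec
  rw [bar, ← h3, fcomb_pack h2 h1]

theorem combine_lt_pow {n : ℕ} : ∀ {l : List ℕ} (_ : ∀ x ∈ l, x < 2 ^ n) (a : ℕ),
    combine l a < 2 ^ n
  | [], _, _ => by simp [combine]
  | r :: l, h, a => by
    rw [combine]
    refine Nat.xor_lt_two_pow ?_ (combine_lt_pow (fun x hx => h x (List.mem_cons_of_mem _ hx)) _)
    split
    · exact h r List.mem_cons_self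
    · positivity

theorem bar_lt (a : ℕ) : bar a < 16 := by
  rw [bar_eq]
  exact combine_lt_pow (n := 4) barL_spec.2.2.2 a

theorem bar_xor (a b : ℕ) : bar (a ^^^ b) = bar a ^^^ bar b := fcomb_xor _ a b

theorem withMap_eq (f : ℕ → ℕ) : ∀ (l : List ℕ) (k : List ℕ → ℕ), withMap f l k = k (l.map f)
  | [], _ => rfl
  | x :: l, k => by rw [withMap, forceNat_eq, withMap_eq f l, List.map_cons]

theorem withT_eq (ks : List ℕ) : ∀ (l : List ℕ) (k : List (ℕ × ℕ) → ℕ),
    withT ks l k =
      k ((l.map fun j => (j, tallyAt ks j)).filter fun q => !Nat.beq q.2 0)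
  | [], _ => rfl
  | j :: l, k => by
    rw [withT, forceNat_eq, List.map_cons, List.filter_cons]
    cases h : Nat.beq (tallyAt ks j) 0 with
    | true => simp [withT_eq ks l]
    | false => simp [withT_eq ks l]

theorem getW_zero (w x : ℕ) : getW w 0 x = 0 := by
  show (0 >>> (w * x)) % 2 ^ w = 0
  simp

theorem rowW_eq (W : ℕ → ℕ → ℕ) (ks : List ℕ) (i x : ℕ) :
    rowW W (((List.range 16).map fun j => (j, tallyAt ks j)).filter fun q => !Nat.beq q.2 0) i x =
      ∑ j ∈ Finset.range 16, getW 16 (tallyAt ks j) x * W i j := by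
  have hterm : ∀ q : ℕ × ℕ, (forceNat (getW 16 q.2 x) fun n =>
      bif Nat.beq n 0 then 0 else n * W i q.1) = getW 16 q.2 x * W i q.1 := fun q => by
    rw [forceNat_eq]
    cases h : Nat.beq (getW 16 q.2 x) 0 with
    | true => rw [Nat.eq_of_beq_eq_true h]; simp
    | false => rfl
  have hfl : ∀ (f : ℕ × ℕ → ℕ), (∀ q, q.2 = 0 → f q = 0) → ∀ l : List (ℕ × ℕ),
      ((l.filter fun q => !Nat.beq q.2 0).map f).sum = (l.map f).sum := by
    intro f hf l
    induction l with
    | nil => rfl
    | cons q l ih =>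
      rw [List.filter_cons]
      cases h : Nat.beq q.2 0 with
      | true => simp [ih, hf q (Nat.eq_of_beq_eq_true h)]
      | false => simp [ih]
  show (List.map _ _).sum = _
  simp only [hterm]
  rw [hfl (fun q => getW 16 q.2 x * W i q.1) (fun q h => by rw [h, getW_zero, Nat.zero_mul]),
    List.map_map, ← List.sum_toFinset _ List.nodup_range, List.toFinset_range]
  rfl

/-- The count is the weighted sum over the pairs. -/
theorem pairsW_eq {W : ℕ → ℕ → ℕ} {Pn Ps : ℕ} {zl tl : List ℕ} (hz : zl.Nodup) (ht : tl.Nodup)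
    (hlen : tl.length < 2 ^ 16) :
    pairsW W Pn Ps zl tl = ∑ p ∈ (zl.toFinset ×ˢ tl.toFinset).filter
      (fun p : ℕ × ℕ => fcomb Pn p.1 ^^^ fcomb Pn (fcomb Ps p.2) = 7), W (bar p.1) (bar p.2) := by
  classical
  rw [pairsW, withMap_eq, withT_eq]
  show (zl.map _).sum = _
  rw [Finset.sum_filter, Finset.sum_product, List.sum_toFinset _ hz]
  refine congrArg List.sum (List.map_congr_left fun a _ => ?_)
  simp only [forceNat_eq]
  rw [rowW_eq]
  conv_rhs => rw [← Finset.sum_fiberwise_of_maps_to (g := bar) (t := Finset.range 16)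
    (fun b _ => Finset.mem_range.mpr (bar_lt b))]
  refine Finset.sum_congr rfl fun j _ => ?_
  rw [Finset.sum_congr rfl (fun b hb => by rw [(Finset.mem_filter.mp hb).2]), ← Finset.sum_filter,
    Finset.sum_const, smul_eq_mul]
  congr 1
  set e : ℕ → ℕ := fun b => fcomb Pn (fcomb Ps b) with he
  set t := tl.filter (fun b => Nat.beq (bar b) j) with ht'
  have hkeys : ((tl.map fun b => bar b * 2048 + e b).filter fun q => Nat.beq (q / 2048) j).map
      (fun q => q % 2048) = t.map e := by
    rw [ht']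
    induction tl with
    | nil => rfl
    | cons b l ih =>
      have hb : e b < 2048 := fcomb_lt _ _
      have h1 : (bar b * 2048 + e b) / 2048 = bar b := by omega
      have h2 : (bar b * 2048 + e b) % 2048 = e b := by omega
      rw [List.map_cons, List.filter_cons, List.filter_cons, h1]
      have ih' := ih (List.nodup_cons.mp ht).2 (by simp only [List.length_cons] at hlen; omega) rfl
      cases Nat.beq (bar b) j with
      | true => simp only [if_true, List.map_cons, h2, ih']
      | false => simpa using ih'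
  rw [tallyAt, hkeys, AtNum.getW_tally, AtNum.count_map_eq,
    ← List.toFinset_card_of_nodup ((ht.filter _).filter _)]
  · congr 1
    ext b
    simp only [ht', he, List.mem_toFinset, List.mem_filter, decide_eq_true_eq, Finset.mem_filter,
      Nat.beq_eq]
    refine ⟨fun ⟨⟨h1, h2⟩, h3⟩ => ⟨⟨h1, h2⟩, ?_⟩, fun ⟨⟨h1, h2⟩, h3⟩ => ⟨⟨h1, h2⟩, ?_⟩⟩
    · rw [h3, ← Nat.xor_assoc, Nat.xor_self, Nat.zero_xor]
    · rw [← h3, ← Nat.xor_assoc, Nat.xor_self, Nat.zero_xor]
  · intro x hx
    obtain ⟨b, -, rfl⟩ := List.mem_map.mp hx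
    exact fcomb_lt _ _
  · rw [List.length_map]
    exact lt_of_le_of_lt (List.length_filter_le _ _) hlen
  · exact Nat.xor_lt_two_pow (n := 11) (fcomb_lt _ _) (by norm_num)

/-! ### linear maps -/

theorem fcomb_imgL (c a : ℕ) : fcomb (pack11 (imgL c)) a = act c a :=
  fcomb_pack (by simp [imgL]) (imgL_lt c) a

theorem normF_eq {P : ℕ} {L : List ℕ} (h : ∀ v, fcomb P v = combine L v) :
    ∀ m c, normF P m c = normV L m c
  | 0, _ => rfl
  | m + 1, c => by rw [normF, forceNat_eq, normF_eq h m c, h, normV]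

theorem normP_eq (p m : ℕ) {c : ℕ} (hc : c < 2048) :
    fcomb (normP p m) c = normV (imgL p) m c := by
  have e : normP p m = pack11 (normL p m) := by
    rw [normP, forceNat_eq, normL]
    exact congrArg pack11 (List.map_congr_left fun i _ =>
      normF_eq (fun v => fcomb_imgL p v) m (2 ^ i))
  rw [e, fcomb_pack (by simp [normL]) (AtNum.normL_lt p m), AtNum.normL_eq p m hc]

/-! ### lists -/

theorem find_keysL {L : List ℕ} (hL : L.length ≤ 4096) {k x i : ℕ}
    (h : (buildR k (keysL L)).find x = some i) : i < L.length ∧ L.getD i 0 = x := by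
  obtain ⟨a, ha, h1, h2⟩ := AtNum.find_mem h
  rw [keysL, List.mem_iff_getElem] at ha
  obtain ⟨j, hj, rfl⟩ := ha
  simp only [List.length_zipWith, List.length_range, min_self] at hj
  simp only [List.getElem_zipWith, List.getElem_range] at h1 h2
  have e : j = i := by omega
  subst e
  refine ⟨hj, ?_⟩
  rw [List.getD_eq_getElem _ _ hj]
  omega

theorem mem_of_find {L : List ℕ} (hL : L.length ≤ 4096) {k x : ℕ}
    (h : ((buildR k (keysL L)).find x).isSome) : x ∈ L := by
  obtain ⟨i, hi⟩ := Option.isSome_iff_exists.mp h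
  obtain ⟨hlt, hx⟩ := find_keysL hL hi
  rw [← hx, List.getD_eq_getElem _ _ hlt]
  exact List.getElem_mem hlt

theorem markAll_spec {L : List ℕ} (hL : L.length ≤ 4096) {k : ℕ} : ∀ {l : List ℕ} {m r : ℕ},
    markAll (buildR k (keysL L)) l m = some r →
      ∃ is : List ℕ, addAll is m = some r ∧ l = is.map (L.getD · 0) ∧ ∀ i ∈ is, i < L.length
  | [], m, r, h => ⟨[], h, rfl, by simp⟩
  | c :: l, m, r, h => by
    rw [markAll] at h
    cases hf : (buildR k (keysL L)).find c with
    | none => rw [hf] at h; simp at h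
    | some i =>
      simp only [hf] at h
      cases hb : m.testBit i with
      | true => simp [hb] at h
      | false =>
        simp only [hb, cond_false, forceNat_eq] at h
        obtain ⟨is, h1, h2, h3⟩ := markAll_spec hL h
        obtain ⟨hlt, hx⟩ := find_keysL hL hf
        refine ⟨i :: is, by simp [addAll, hb, h1], by rw [List.map_cons, hx, ← h2], ?_⟩
        intro j hj
        rcases List.mem_cons.mp hj with rfl | hj
        exacts [hlt, h3 j hj]

/-- A covering list is a rearrangement. -/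
theorem perm_of_coverL {L l : List ℕ} (hL : L.length ≤ 4096) (h : coverL L l = true) :
    l.Perm L := by
  rw [coverL] at h
  cases hm : markAll (buildR 14 (keysL L)) l 0 with
  | none => rw [hm] at h; simp at h
  | some r =>
    simp only [hm, Nat.beq_eq] at h
    obtain ⟨is, h1, rfl, h3⟩ := markAll_spec hL hm
    obtain ⟨hnd, hbit, -⟩ := addAll_spec h1
    have hp : is.Perm (List.range L.length) := by
      refine (List.perm_ext_iff_of_nodup hnd List.nodup_range).mpr fun i => ?_
      rw [List.mem_range]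
      refine ⟨h3 i, fun hi => ?_⟩
      have := (hbit i).mp (by rw [h, Nat.testBit_two_pow_sub_one]; simp [hi])
      simpa using this
    refine (hp.map _).trans (List.Perm.of_eq ?_)
    refine List.ext_getElem (by simp) fun i h1 h2 => ?_
    rw [List.getElem_map, List.getElem_range]
    exact List.getD_eq_getElem _ _ h2

theorem sameL_eq : ∀ {l m : List ℕ}, sameL l m = true → l = m
  | [], [], _ => rfl
  | a :: l, b :: m, h => by
    simp only [sameL, Bool.and_eq_true, Nat.beq_eq] at h
    rw [h.1, sameL_eq h.2]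
  | [], _ :: _, h => by simp [sameL] at h
  | _ :: _, [], h => by simp [sameL] at h

end Cfsg.Agent.Lib.J4Order.ZNum
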