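import Cfsg.Agent.Lib.J4Order.ZCalc

/-!
# The weighted counts for one choice of the label
-/

set_option autoImplicit false
set_option maxRecDepth 100000

namespace Cfsg.Agent.Lib.J4Order.ZRootsF

open Cfsg.Agent.Lib.Golay Cfsg.Agent.Lib.Computation AtCalc ZCalc ZData

theorem roots_ok : (zblocks.all fun b => b.roots.all (zRootOk false b)) = true := by decide +kernel

end Cfsg.Agent.Lib.J4Order.ZRootsF
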