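import Cfsg.Agent.Lib.J4Order.ZInvol
import Cfsg.Agent.Lib.J4Order.ZRootsF
import Cfsg.Agent.Lib.J4Order.ZRootsT
import Cfsg.Agent.Lib.J4Order.AtCount

/-!
# The weighted sum over the pairs of involutions at `ψ 7` inside the normaliser of the `2^11`

`zSum`: for a weight invariant under the centraliser of `ψ 7` in the normaliser and equal to the pure
weight on coded pairs, the sum is 34206514673760.
-/

set_option autoImplicit false
set_option linter.unusedSectionVars false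
set_option linter.constructorNameAsVariable false
set_option linter.style.haveILetI false

namespace Cfsg.Agent.Lib.J4Order

open Cfsg Cfsg.Agent.Lib.Golay Cfsg.Agent.Lib.Computation
open AtCalc ZCalc ZData ZInvol

attribute [local irreducible] oneCode mulP zinvol sylL threeL

variable {G : Type*} [Group G] [Finite G] {z : G}

/-- A power commuting with both factors of a product of two involutions. -/
theorem commute_seven_of_zpowers {u v t : G} (hu : u * u = 1) (hv : v * v = 1) (ht : t * t = 1)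
    (h : t ∈ Subgroup.zpowers (u * v)) : Commute u t ∧ Commute v t := by
  obtain ⟨k, rfl⟩ := Subgroup.mem_zpowers_iff.mp h
  have e : ∀ a : G, a * (u * v) * a⁻¹ = (u * v)⁻¹ → Commute a ((u * v) ^ k) := by
    intro a ha
    refine mul_inv_eq_iff_eq_mul.mp ?_
    rw [← conj_zpow, ha, inv_zpow, inv_eq_of_mul_eq_one_right ht]
  have hu' : u⁻¹ = u := inv_eq_of_mul_eq_one_right hu
  have hv' : v⁻¹ = v := inv_eq_of_mul_eq_one_right hv
  refine ⟨e u ?_, e v ?_⟩ <;> rw [mul_inv_rev, hu', hv']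
  · calc u * (u * v) * u = u * u * v * u := by group
      _ = v * u := by rw [hu, one_mul]
  · calc v * (u * v) * v = v * u * (v * v) := by group
      _ = v * u := by rw [hv, mul_one]

namespace NModel

variable (M : NModel z)

/-- The condition on a pair at `ψ 7`. -/
def PairSeven (u v : G) : Prop :=
  IsConj z u ∧ orderOf v = 2 ∧ ¬ IsConj z v ∧ M.ψ 7 ∈ Subgroup.zpowers (u * v)

/-- The pairs inside the normaliser. -/
noncomputable def pairsN : Finset (G × G) :=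
  (Set.toFinite {q : G × G | q.1 ∈ Subgroup.normalizer (M.V : Set G) ∧
    q.2 ∈ Subgroup.normalizer (M.V : Set G) ∧ M.PairSeven q.1 q.2}).toFinset

theorem mem_pairsN {q : G × G} : q ∈ M.pairsN ↔ q.1 ∈ Subgroup.normalizer (M.V : Set G) ∧
    q.2 ∈ Subgroup.normalizer (M.V : Set G) ∧ M.PairSeven q.1 q.2 := Set.Finite.mem_toFinset _

open Classical in
/-- The pairs over two permutations. -/
noncomputable def fib7 (σ τ : ↥M24) : Finset (ℕ × ℕ) :=
  (Finset.range 2048 ×ˢ Finset.range 2048).filter fun p => M.PairSeven (M.ev p.1 σ) (M.ev p.2 τ)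

theorem mem_fib7 {σ τ : ↥M24} {a b : ℕ} :
    (a, b) ∈ M.fib7 σ τ ↔ a < 2048 ∧ b < 2048 ∧ M.PairSeven (M.ev a σ) (M.ev b τ) := by
  simp only [fib7, Finset.mem_filter, Finset.mem_product, Finset.mem_range, and_assoc]

attribute [local irreducible] fib7

theorem seven_mem_zpowers_iff {p c m : ℕ} (hp : Good p) (hc : c < 2048) (hm : orderOf (el p) = m) :
    M.ψ 7 ∈ Subgroup.zpowers (M.ev c (el p)) ↔ normV (imgL p) m c = 7 := by
  have hN : normV (imgL p) m c < 2048 := AtNum.normV_lt (imgL_lt p) m hc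
  have hwm : M.ev c (el p) ^ m = M.ψ (normV (imgL p) m c) := by
    rw [M.pow_ev hp hc, ← hm, pow_orderOf_eq_one, M.ev_one_eq, hm]
  refine ⟨fun h => ?_, fun h => ?_⟩
  · rw [← mem_powers_iff_mem_zpowers, Submonoid.mem_powers_iff] at h
    obtain ⟨k, hk⟩ := h
    have hk' := hk
    rw [M.pow_ev hp hc, ← M.ev_one_eq] at hk'
    obtain ⟨j, rfl⟩ : m ∣ k := hm ▸ orderOf_dvd_of_pow_eq_one
      (M.ev_inj (AtNum.normV_lt (imgL_lt p) k hc) (by norm_num) hk').2
    rw [pow_mul, hwm, pow_eq_pow_mod j (show M.ψ (normV (imgL p) m c) ^ 2 = 1 by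
      rw [pow_two, M.ψ_sq])] at hk
    rcases Nat.mod_two_eq_zero_or_one j with e | e
    · rw [e, pow_zero] at hk
      exact absurd ((M.psi_eq_one (by norm_num)).mp hk.symm) (by norm_num)
    · rw [e, pow_one] at hk
      exact M.frame.inj _ _ hN (by norm_num) hk
  · rw [show M.ψ 7 = M.ev c (el p) ^ m by rw [hwm, h]]
    exact pow_mem (Subgroup.mem_zpowers _) m

variable (w : G → G → ℕ)

/-- Invariance of a weight. -/
def InvSeven : Prop :=
  ∀ n ∈ Subgroup.normalizer (M.V : Set G), Commute n (M.ψ 7) →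
    ∀ u v, Commute u (M.ψ 7) → Commute v (M.ψ 7) → w (n * u * n⁻¹) (n * v * n⁻¹) = w u v

/-- Agreement of a weight with the pure weight. -/
def EvalSeven : Prop :=
  ∀ a b c d, a < 2048 → b < 2048 → Good c → act c 7 = 7 → Good d → act d 7 = 7 →
    M.PairSeven (M.ev a (el c)) (M.ev b (el d)) →
      w (M.ev a (el c)) (M.ev b (el d)) = wgt (bar a) c (bar b) d

/-- The weighted pairs over two permutations. -/
noncomputable def wfib (σ τ : ↥M24) : ℕ :=
  ∑ p ∈ M.fib7 σ τ, w (M.ev p.1 σ) (M.ev p.2 τ)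

theorem vec_std (o : Bool) (k : ℕ) : zVec o k = zStd o k ∧ tVec o k = tStd o k := by
  have h := ZChecks.vec_ok
  simp only [vecOk, Bool.and_eq_true] at h
  obtain ⟨⟨⟨⟨⟨h1, h2⟩, h3⟩, h4⟩, h5⟩, h6⟩ := h
  have e1 := ZNum.sameL_eq h1
  have e2 := ZNum.sameL_eq h2
  have e3 := ZNum.sameL_eq h3
  have e4 := ZNum.sameL_eq h4
  have e5 := ZNum.sameL_eq h5
  have e6 := ZNum.sameL_eq h6
  match k with
  | 0 => exact ⟨e1, e2⟩
  | 1 => exact ⟨e3, e4⟩
  | k + 2 => simp only [zVec, zStd, tVec, tStd, e5, e6, and_self]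

/-- The computed count is the weighted sum. -/
theorem countW_eq (o : Bool) (F : Fus M o) (hw : M.EvalSeven w) {s ks gs t kt gt m : ℕ}
    (hs : witOk s ks gs = true) (ht : witOk t kt gt = true)
    (hm : ordOk (mulP 24 5 s t) m = true) (hs7 : act s 7 = 7) (ht7 : act t 7 = 7) :
    M.wfib w (el s) (el t) = countW o s ks gs t kt gt m := by
  obtain ⟨hgs, hLs⟩ := M.lists_moved o F hs
  obtain ⟨hgt, hLt⟩ := M.lists_moved o F ht
  have hp : Good (mulP 24 5 s t) := good_mulP hgs hgt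
  have hmap : ∀ (g : ℕ) (l : List ℕ), l.map (ZFast.fcomb (ZFast.pack11 (imgL g))) = moveL g l :=
    fun g l => List.map_congr_left fun a _ => ZNum.fcomb_imgL g a
  rw [countW, forceNat_eq, forceNat_eq, forceNat_eq, forceNat_eq, hmap, hmap, (vec_std o ks).1,
    (vec_std o kt).2, ZNum.pairsW_eq hLs.nz hLt.nt hLt.len, wfib]
  have hset : M.fib7 (el s) (el t) = (((moveL gs (zStd o ks)).toFinset ×ˢ
      (moveL gt (tStd o kt)).toFinset).filter fun p : ℕ × ℕ =>
      ZFast.fcomb (normP (mulP 24 5 s t) m) p.1 ^^^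
        ZFast.fcomb (normP (mulP 24 5 s t) m) (ZFast.fcomb (ZFast.pack11 (imgL s)) p.2) = 7) := by
    ext ⟨a, b⟩
    have key : a < 2048 → b < 2048 → (M.ψ 7 ∈ Subgroup.zpowers (M.ev a (el s) * M.ev b (el t)) ↔
        ZFast.fcomb (normP (mulP 24 5 s t) m) a ^^^
          ZFast.fcomb (normP (mulP 24 5 s t) m) (ZFast.fcomb (ZFast.pack11 (imgL s)) b) = 7) :=
      fun ha hb => by
        have hb' : act s b < 2048 := act_lt s b
        rw [M.ev_mul ha hb hgs, ← el_mul hgs hgt,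
          M.seven_mem_zpowers_iff hp (Nat.xor_lt_two_pow (n := 11) ha hb') (orderOf_el hp hm),
          AtNum.normV_xor, ZNum.fcomb_imgL, ZNum.normP_eq _ _ ha, ZNum.normP_eq _ _ hb']
    rw [M.mem_fib7, Finset.mem_filter, Finset.mem_product, List.mem_toFinset, List.mem_toFinset,
      hLs.memz, hLt.memt]
    constructor
    · rintro ⟨ha, hb, h1, h2, h2', h3⟩
      exact ⟨⟨⟨ha, h1⟩, hb, h2, h2'⟩, (key ha hb).mp h3⟩
    · rintro ⟨⟨⟨ha, h1⟩, hb, h2, h2'⟩, h3⟩
      exact ⟨ha, hb, h1, h2, h2', (key ha hb).mpr h3⟩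
  rw [← hset]
  refine Finset.sum_congr rfl fun ⟨a, b⟩ hab => ?_
  obtain ⟨ha, hb, hpair⟩ := M.mem_fib7.mp hab
  exact hw a b s t ha hb hgs hs7 hgt ht7 hpair

theorem ev_commute {a : ℕ} {σ : ↥M24} (hσ : σ ∈ M.st) : Commute (M.ev a σ) (M.ψ 7) :=
  M.commute_seven_iff.mpr hσ

/-- Conjugation by the stabiliser. -/
theorem wfib_conj (hinv : M.InvSeven w) {g : ℕ} (hg : Good g) (hg7 : act g 7 = 7) {σ τ : ↥M24}
    (hσ : σ ∈ M.st) (hτ : τ ∈ M.st) :
    M.wfib w (el g * σ * (el g)⁻¹) (el g * τ * (el g)⁻¹) = M.wfib w σ τ := by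
  have hst := (M.el_mem_st hg).mpr hg7
  have h7 : Commute (M.κ (el g)) (M.ψ 7) := M.mem_st.mp hst
  have e : ∀ {a} (σ : ↥M24), a < 2048 →
      M.κ (el g) * M.ev a σ * (M.κ (el g))⁻¹ = M.ev (act g a) (el g * σ * (el g)⁻¹) :=
    fun {a} σ ha => M.conj_ev hg ha
  have hP : ∀ u v, M.PairSeven (M.κ (el g) * u * (M.κ (el g))⁻¹) (M.κ (el g) * v * (M.κ (el g))⁻¹) ↔
      M.PairSeven u v := fun u v => by
    have hz : ∀ x, M.ψ 7 ∈ Subgroup.zpowers (M.κ (el g) * x * (M.κ (el g))⁻¹) ↔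
        M.ψ 7 ∈ Subgroup.zpowers x := fun x => by
      conv_lhs => rw [← mul_inv_eq_iff_eq_mul.mpr h7.eq]
      simp only [Subgroup.mem_zpowers_iff, conj_zpow]
      exact exists_congr fun k => ⟨fun h => mul_left_cancel (mul_right_cancel h), fun h => by rw [h]⟩
    simp only [PairSeven, isConj_conj, orderOf_conjugate]
    rw [show M.κ (el g) * u * (M.κ (el g))⁻¹ * (M.κ (el g) * v * (M.κ (el g))⁻¹) =
      M.κ (el g) * (u * v) * (M.κ (el g))⁻¹ by group, hz]
  symm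
  refine Finset.sum_bij (fun p _ => (act g p.1, act g p.2)) ?_ ?_ ?_ ?_
  · rintro ⟨a, b⟩ h
    obtain ⟨ha, hb, hp⟩ := M.mem_fib7.mp h
    rw [M.mem_fib7, ← e σ ha, ← e τ hb, hP]
    exact ⟨act_lt g a, act_lt g b, hp⟩
  · rintro ⟨a, b⟩ h ⟨a', b'⟩ h' he
    obtain ⟨ha, hb, -⟩ := M.mem_fib7.mp h
    obtain ⟨ha', hb', -⟩ := M.mem_fib7.mp h'
    simp only [Prod.mk.injEq] at he
    exact Prod.ext (M.act_inj hg ha ha' he.1) (M.act_inj hg hb hb' he.2)
  · rintro ⟨x, y⟩ h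
    obtain ⟨hx, hy, hp⟩ := M.mem_fib7.mp h
    obtain ⟨a, ha, rfl⟩ := M.act_surj hg hx
    obtain ⟨b, hb, rfl⟩ := M.act_surj hg hy
    rw [← e σ ha, ← e τ hb, hP] at hp
    exact ⟨(a, b), M.mem_fib7.mpr ⟨ha, hb, hp⟩, rfl⟩
  · rintro ⟨a, b⟩ h
    obtain ⟨ha, hb, -⟩ := M.mem_fib7.mp h
    rw [← e σ ha, ← e τ hb]
    exact (hinv _ (M.mem_norm _) h7 _ _ (M.ev_commute hσ) (M.ev_commute hτ)).symm

/-- The weighted pairs over one permutation. -/
noncomputable def rowW7 (σ : ↥M24) : ℕ := ∑ τ ∈ Lz, M.wfib w σ τ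

theorem good_zinvol {c : ℕ} (hc : c ∈ zinvol) : Good c ∧ act c 7 = 7 ∧ el c ∈ M.st := by
  have hp := ZNum.perm_of_coverL len_ok.1 ZChecks.cover_outer
  have hblock : ∀ b ∈ zblocks, Good b.code ∧ el b.code ∈ M.st := by
    intro b hb
    have h := List.all_eq_true.mp ZChecks.zblocks_fix b hb
    simp only [Bool.and_eq_true, Nat.beq_eq] at h
    have hg := good_of_inM24 h.1.1
    exact ⟨hg, (M.el_mem_st hg).mpr h.1.2⟩
  obtain ⟨b, hb, hcb⟩ := List.mem_flatMap.mp (hp.mem_iff.mpr hc)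
  suffices Good c ∧ el c ∈ M.st from ⟨this.1, (M.el_mem_st this.1).mp this.2, this.2⟩
  rcases List.mem_cons.mp hcb with rfl | hcb
  · exact hblock b hb
  refine tour_all (Q := fun x => Good x ∧ el x ∈ M.st) (fun g hg x hx => ?_) _ _
    (by simpa using hblock b hb) c hcb
  rcases hg with hg | rfl
  · obtain ⟨g1, g2, g7, hinv⟩ := zgens_spec ZChecks.zgens_ok hg
    refine ⟨good_mulP (good_mulP g1 hx.1) g2, ?_⟩
    rw [el_conjC g1 g2 hx.1, hinv]
    have := (M.el_mem_st g1).mpr g7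
    exact mul_mem (mul_mem this hx.2) (inv_mem this)
  · refine ⟨good_mulP (good_mulP good_one hx.1) good_one, ?_⟩
    rw [el_conjC good_one good_one hx.1, el_one, one_mul, mul_one]
    exact hx.2

theorem Lz_subset {σ : ↥M24} (h : σ ∈ Lz) : σ ∈ M.st := by
  obtain ⟨c, hc, rfl⟩ := mem_Lz.mp h
  exact (M.good_zinvol hc).2.2

theorem rowW7_conj (hinv : M.InvSeven w) {g : ℕ} (hg : Good g) (hg7 : act g 7 = 7) {σ : ↥M24}
    (hσ : σ ∈ M.st) : M.rowW7 w (el g * σ * (el g)⁻¹) = M.rowW7 w σ := by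
  have hst := (M.el_mem_st hg).mpr hg7
  symm
  refine Finset.sum_bij (fun τ _ => el g * τ * (el g)⁻¹) (fun τ hτ => M.Lz_closed hst hτ) ?_ ?_ ?_
  · exact fun a _ b _ e => mul_left_cancel (mul_right_cancel e)
  · intro τ hτ
    refine ⟨(el g)⁻¹ * τ * el g, ?_, by group⟩
    have := M.Lz_closed (inv_mem hst) hτ
    rwa [inv_inv] at this
  · exact fun τ hτ => (M.wfib_conj w hinv hg hg7 hσ (M.Lz_subset hτ)).symm

/-- An invariant is constant on a tour inside the stabiliser. -/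
theorem ztour_const {gs : List (ℕ × ℕ)} (hok : zgensOk gs = true) (f : ↥M24 → ℕ)
    (hf : ∀ g ∈ gs, ∀ x ∈ M.st, f (el g.1 * x * (el g.1)⁻¹) = f x) {root : ℕ} (hr : Good root)
    (hr7 : act root 7 = 7) (prog : List ℕ) :
    ((tour gs root prog).map fun c => f (el c)).sum = (tour gs root prog).length * f (el root) := by
  have hroot : Good root ∧ el root ∈ M.st ∧ f (el root) = f (el root) :=
    ⟨hr, (M.el_mem_st hr).mpr hr7, rfl⟩
  have hall : ∀ y ∈ tour gs root prog, Good y ∧ el y ∈ M.st ∧ f (el y) = f (el root) := by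
    intro y hy
    rcases List.mem_cons.mp hy with rfl | hy
    · exact hroot
    refine tour_all (Q := fun y => Good y ∧ el y ∈ M.st ∧ f (el y) = f (el root))
      (fun g hg x hx => ?_) prog [root] (by simpa using hroot) y hy
    rcases hg with hg | rfl
    · obtain ⟨g1, g2, g7, hi⟩ := zgens_spec hok hg
      have hs := (M.el_mem_st g1).mpr g7
      refine ⟨good_mulP (good_mulP g1 hx.1) g2, ?_, ?_⟩
      · rw [el_conjC g1 g2 hx.1, hi]
        exact mul_mem (mul_mem hs hx.2.1) (inv_mem hs)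
      · rw [el_conjC g1 g2 hx.1, hi, hf g hg _ hx.2.1]
        exact hx.2.2
    · refine ⟨good_mulP (good_mulP good_one hx.1) good_one, ?_⟩
      rw [el_conjC good_one good_one hx.1, el_one, one_mul, mul_one]
      exact hx.2
  rw [List.map_congr_left fun y hy => (hall y hy).2.2, List.map_const', List.sum_replicate,
    smul_eq_mul]

include M in
theorem sum_Lz (f : ↥M24 → ℕ) : ∑ σ ∈ Lz, f σ = (zinvol.map fun c => f (el c)).sum := by
  obtain ⟨hok, hsort, -⟩ := zinvol_spec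
  rw [Lz, List.sum_toFinset _ (List.Nodup.map_on (fun a ha b hb e => ?_) (hsort.imp fun h => ne_of_lt h)),
    List.map_map]
  · rfl
  · exact code_eq (M.good_zinvol ha).1 (M.good_zinvol hb).1 (hok a ha).2 (hok b hb).2 e

theorem roots_ok (o : Bool) {b : ZBlock} (hb : b ∈ zblocks) {r : ZRoot} (hr : r ∈ b.roots) :
    zRootOk o b r = true := by
  cases o with
  | false => exact List.all_eq_true.mp (List.all_eq_true.mp ZRootsF.roots_ok b hb) r hr
  | true => exact List.all_eq_true.mp (List.all_eq_true.mp ZRootsT.roots_ok b hb) r hr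

/-- All pairs over the listed permutations. -/
theorem sum_rows7 (o : Bool) (F : Fus M o) (hinv : M.InvSeven w) (hw : M.EvalSeven w) :
    ∑ σ ∈ Lz, M.rowW7 w σ = 34206514673760 := by
  have hblock : ∀ b ∈ zblocks, Good b.code ∧ act b.code 7 = 7 ∧
      M.rowW7 w (el b.code) = blockSum o b := by
    intro b hb
    have hf := List.all_eq_true.mp ZChecks.zblocks_fix b hb
    simp only [Bool.and_eq_true, List.all_eq_true, Nat.beq_eq] at hf
    obtain ⟨⟨hbin, hb7⟩, hr7⟩ := hf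
    have hgb := good_of_inM24 hbin
    have hgen := List.all_eq_true.mp ZChecks.zblocks_gens b hb
    simp only [Bool.and_eq_true, centOk, List.all_eq_true, Nat.beq_eq] at hgen
    obtain ⟨⟨hok, hcom⟩, hwit⟩ := hgen
    have hperm := ZNum.perm_of_coverL len_ok.1 (List.all_eq_true.mp ZChecks.covers b hb)
    refine ⟨hgb, hb7, ?_⟩
    rw [rowW7, M.sum_Lz, ← (hperm.map _).sum_eq, ztours,
      sum_flat _ _ (fun r => (tour b.cgens r.code r.prog).length * valOf r o) b.roots fun r hr => ?_]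
    · rfl
    have hR := List.all_eq_true.mp (List.all_eq_true.mp ZChecks.wits_ok b hb) r hr
    simp only [zRootWit, Bool.and_eq_true] at hR
    obtain ⟨hw', hord⟩ := hR
    have hv := roots_ok o hb hr
    simp only [zRootOk, Nat.beq_eq] at hv
    rw [M.ztour_const hok (fun τ => M.wfib w (el b.code) τ) (fun g hg x hx => ?_)
      (M.lists_moved o F hw').1 (hr7 r hr), M.countW_eq w o F hw hwit hw' hord hb7 (hr7 r hr), hv]
    obtain ⟨g1, -, g7, -⟩ := zgens_spec hok hg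
    have hc : el g.1 * el b.code * (el g.1)⁻¹ = el b.code := by
      rw [← el_mul g1 hgb, hcom g hg, el_mul hgb g1, mul_inv_cancel_right]
    have := M.wfib_conj w hinv g1 g7 ((M.el_mem_st hgb).mpr hb7) hx
    rw [hc] at this
    exact this
  have ht : totalSum o = 34206514673760 := by
    have h := ZChecks.totals
    simp only [Bool.and_eq_true, Nat.beq_eq] at h
    cases o with
    | false => exact h.1
    | true => exact h.2
  rw [M.sum_Lz, ← ((ZNum.perm_of_coverL len_ok.1 ZChecks.cover_outer).map _).sum_eq,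
    sum_flat _ _ (fun b => (tour zgens b.code b.prog).length * blockSum o b) zblocks fun b hb => ?_]
  · exact ht
  obtain ⟨hgb, hb7, hv⟩ := hblock b hb
  rw [M.ztour_const ZChecks.zgens_ok (M.rowW7 w) (fun g hg x hx => ?_) hgb hb7, hv]
  obtain ⟨g1, -, g7, -⟩ := zgens_spec ZChecks.zgens_ok hg
  exact M.rowW7_conj w hinv g1 g7 hx

/-- A vector and a permutation of a pair. -/
theorem ev_of_pair {u : G} (hu : u ∈ Subgroup.normalizer (M.V : Set G)) (h2 : u * u = 1)
    (h7 : Commute u (M.ψ 7)) : ∃ a < 2048, ∃ σ ∈ Lz, u = M.ev a σ := by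
  obtain ⟨a, ha, σ, rfl⟩ := M.exists_ev hu
  refine ⟨a, ha, σ, M.mem_Lz_of_sq (M.commute_seven_iff.mp h7) ?_, rfl⟩
  refine M.meet ?_
  have e : M.κ (σ * σ) =
      (M.κ σ * M.ψ a * (M.κ σ)⁻¹)⁻¹ * (M.ψ a)⁻¹ * (M.ev a σ * M.ev a σ) := by
    rw [map_mul, ev]; group
  rw [e, h2, mul_one]
  exact mul_mem (inv_mem ((Subgroup.mem_normalizer_iff.mp (M.mem_norm σ) _).mp (M.ψ_mem a)))
    (inv_mem (M.ψ_mem a))

/-- The weighted pairs at `ψ 7` inside the normaliser. -/
theorem zSum (o : Bool) (F : Fus M o) (hinv : M.InvSeven w) (hw : M.EvalSeven w) :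
    ∑ q ∈ M.pairsN, w q.1 q.2 = 34206514673760 := by
  classical
  rw [← M.sum_rows7 w o F hinv hw]
  simp only [rowW7, wfib]
  rw [← Finset.sum_product', Finset.sum_sigma']
  symm
  refine Finset.sum_bij (fun x _ => (M.ev x.2.1 x.1.1, M.ev x.2.2 x.1.2)) ?_ ?_ ?_ ?_
  · rintro ⟨⟨σ, τ⟩, a, b⟩ h
    obtain ⟨-, -, hp⟩ := M.mem_fib7.mp (Finset.mem_sigma.mp h).2
    exact M.mem_pairsN.mpr ⟨M.ev_mem a σ, M.ev_mem b τ, hp⟩
  · rintro ⟨⟨σ, τ⟩, a, b⟩ h ⟨⟨σ', τ'⟩, a', b'⟩ h' e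
    obtain ⟨ha, hb, -⟩ := M.mem_fib7.mp (Finset.mem_sigma.mp h).2
    obtain ⟨ha', hb', -⟩ := M.mem_fib7.mp (Finset.mem_sigma.mp h').2
    simp only [Prod.mk.injEq] at e
    obtain ⟨rfl, rfl⟩ := M.ev_inj ha ha' e.1
    obtain ⟨rfl, rfl⟩ := M.ev_inj hb hb' e.2
    rfl
  · rintro ⟨u, v⟩ h
    obtain ⟨hu, hv, hp⟩ := M.mem_pairsN.mp h
    obtain ⟨h1, h2, h3, h4⟩ := hp
    have hu2 := sq_of_isConj F.ord_z h1
    have hv2 : v * v = 1 := by rw [← pow_two, ← h2, pow_orderOf_eq_one]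
    obtain ⟨c1, c2⟩ := commute_seven_of_zpowers hu2 hv2 (M.ψ_sq 7) h4
    obtain ⟨a, ha, σ, hσ, rfl⟩ := M.ev_of_pair hu hu2 c1
    obtain ⟨b, hb, τ, hτ, rfl⟩ := M.ev_of_pair hv hv2 c2
    exact ⟨⟨(σ, τ), (a, b)⟩, Finset.mem_sigma.mpr
      ⟨Finset.mem_product.mpr ⟨hσ, hτ⟩, M.mem_fib7.mpr ⟨ha, hb, h1, h2, h3, h4⟩⟩, rfl⟩
  · intro x _
    rfl

end NModel

end Cfsg.Agent.Lib.J4Order
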